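import Mathlib.GroupTheory.Sylow
import Mathlib.GroupTheory.Index
import Mathlib.GroupTheory.GroupAction.ConjAct
import Mathlib.GroupTheory.SpecificGroups.Cyclic

/-!
Elementary Sylow toolkit: Sylow subgroups of normal subgroups, Sylow subgroups inside a
subgroup of index prime to p, Brodkey's theorem, lifting of normalizer elements.
-/

set_option autoImplicit false
set_option linter.unusedSectionVars false

namespace Cfsg.Agent.Lib.SylowNumbers.Basic

open Subgroup MulAction
open scoped Pointwise

variable {G : Type*} [Group G]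

/-- For N normal, `[H ⊔ N : H] = [N : H ∩ N]`. -/
theorem relIndex_sup_of_normal [Finite G] (H N : Subgroup G) [N.Normal] :
    H.relIndex (H ⊔ N) = H.relIndex N := by
  have h1 : (H ⊓ N).relIndex H * H.relIndex (H ⊔ N) =
      (H ⊓ N).relIndex N * N.relIndex (H ⊔ N) := by
    rw [relIndex_mul_relIndex _ _ _ inf_le_left le_sup_left,
      relIndex_mul_relIndex _ _ _ inf_le_right le_sup_right]
  rw [relIndex_sup_right, inf_relIndex_left, inf_relIndex_right, mul_comm (H.relIndex N)] at h1
  exact Nat.eq_of_mul_eq_mul_left (Nat.pos_of_ne_zero Subgroup.index_ne_zero_of_finite) h1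

theorem relIndex_dvd_index_of_normal_right [Finite G] (H N : Subgroup G) [N.Normal] :
    H.relIndex N ∣ H.index := by
  rw [← relIndex_sup_of_normal]
  exact relIndex_dvd_index_of_le le_sup_left

variable {p : ℕ} [Fact p.Prime]

/-- The intersection of a Sylow subgroup with a normal subgroup, as a Sylow subgroup of the latter. -/
noncomputable def sylowInf [Finite G] (P : Sylow p G) (N : Subgroup G) [N.Normal] : Sylow p N :=
  IsPGroup.toSylow (P := (P : Subgroup G).subgroupOf N)
    (P.isPGroup'.comap_of_injective N.subtype N.subtype_injective)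
    (fun h => P.not_dvd_index (h.trans (relIndex_dvd_index_of_normal_right _ _)))

@[simp] theorem coe_sylowInf [Finite G] (P : Sylow p G) (N : Subgroup G) [N.Normal] :
    (sylowInf P N : Subgroup N) = (P : Subgroup G).subgroupOf N := IsPGroup.toSylow_coe _ _

/-- A subgroup of index prime to p contains a Sylow p-subgroup. -/
theorem exists_sylow_le [Finite G] (H : Subgroup G) (h : ¬ p ∣ H.index) :
    ∃ P : Sylow p G, (P : Subgroup G) ≤ H := by
  obtain ⟨Q⟩ : Nonempty (Sylow p H) := inferInstance
  have hpg : IsPGroup p ((Q : Subgroup H).map H.subtype) := Q.isPGroup'.map _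
  have hidx : ¬ p ∣ ((Q : Subgroup H).map H.subtype).index := by
    rw [index_map_subtype]
    exact fun hd => ((Fact.out : p.Prime).dvd_mul.mp hd).elim Q.not_dvd_index h
  exact ⟨hpg.toSylow hidx, (hpg.toSylow_coe hidx).trans_le (Subgroup.map_subtype_le _)⟩

theorem index_dvd_not [Finite G] {P : Sylow p G} {H : Subgroup G} (h : (P : Subgroup G) ≤ H) :
    ¬ p ∣ H.index :=
  fun hd => P.not_dvd_index (hd.trans (index_dvd_of_le h))

/-- A p-subgroup normalized by, or normal inside, a Sylow-containing group lies in the Sylow subgroup. -/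
theorem le_sylow_of_normalizing {D : Subgroup G} (hD : IsPGroup p D) (Q : Sylow p G)
    (h : (Q : Subgroup G) ≤ normalizer (D : Set G)) : D ≤ (Q : Subgroup G) := by
  have hsup : IsPGroup p ((Q : Subgroup G) ⊔ D : Subgroup G) :=
    Q.isPGroup'.to_sup_of_normal_right' hD h
  have := Q.is_maximal' hsup le_sup_left
  exact this ▸ le_sup_right

/-- An element of p-power order normalizing a Sylow p-subgroup lies in it. -/
theorem mem_sylow_of_mem_normalizer {x : G} (hx : IsPGroup p (zpowers x)) (Q : Sylow p G)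
    (h : x ∈ normalizer ((Q : Subgroup G) : Set G)) : x ∈ (Q : Subgroup G) := by
  have h1 : zpowers x ⊓ normalizer ((Q : Subgroup G) : Set G) = zpowers x ⊓ (Q : Subgroup G) :=
    hx.inf_normalizer_sylow Q
  have : x ∈ zpowers x ⊓ normalizer ((Q : Subgroup G) : Set G) := ⟨mem_zpowers x, h⟩
  rw [h1] at this
  exact this.2

theorem isPGroup_zpowers {x : G} {k : ℕ} (hx : orderOf x = p ^ k) : IsPGroup p (zpowers x) :=
  IsPGroup.of_card (n := k) (by rw [Nat.card_zpowers, hx])

/-- An element normalizing P ⊔ N differs from an element normalizing P by an element of P ⊔ N. -/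
theorem exists_normalizer_mul [Finite G] (P : Sylow p G) (K : Subgroup G)
    (hPK : (P : Subgroup G) ≤ K) (n : G) (hn : MulAut.conj n • K = K) :
    ∃ k ∈ K, k⁻¹ * n ∈ normalizer ((P : Subgroup G) : Set G) := by
  have hnP : ((n • P : Sylow p G) : Subgroup G) ≤ K := by
    rw [Sylow.coe_subgroup_smul, ← hn]
    exact pointwise_smul_le_pointwise_smul_iff.mpr hPK
  obtain ⟨k, hk⟩ := exists_smul_eq K (P.subtype hPK) ((n • P).subtype hnP)
  rw [Sylow.smul_subtype] at hk
  have h2 := Sylow.subtype_injective hk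
  refine ⟨k, k.2, Sylow.smul_eq_iff_mem_normalizer.mp ?_⟩
  rw [mul_smul, inv_smul_eq_iff]
  exact h2.symm

/-- Brodkey: if a Sylow p-subgroup is abelian, two Sylow p-subgroups intersect in a p-subgroup
contained in every Sylow p-subgroup. -/
theorem brodkey [Finite G] (P₀ : Sylow p G) [IsMulCommutative P₀] :
    ∃ P Q : Sylow p G, ∀ R : Sylow p G, (P : Subgroup G) ⊓ Q ≤ R := by
  obtain ⟨D, -, hD⟩ := Finite.exists_le_minimal
    (p := fun D : Subgroup G => ∃ P Q : Sylow p G, (P : Subgroup G) ⊓ Q = D)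
    (a := (P₀ : Subgroup G) ⊓ P₀) ⟨P₀, P₀, rfl⟩
  obtain ⟨P, Q, hPQ⟩ := hD.prop
  have hcomm : ∀ S : Sylow p G, ∀ a ∈ (S : Subgroup G), ∀ b ∈ (S : Subgroup G), a * b = b * a := by
    intro S a ha b hb
    have e := Sylow.equiv S P₀
    have : e (⟨a, ha⟩ * ⟨b, hb⟩) = e (⟨b, hb⟩ * ⟨a, ha⟩) := by
      rw [map_mul, map_mul, mul_comm']
    exact congrArg Subtype.val (e.injective this)
  set N := normalizer (D : Set G) with hNdef
  have hle : ∀ S : Sylow p G, D ≤ (S : Subgroup G) → (S : Subgroup G) ≤ N := by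
    intro S hDS
    refine le_trans ?_ (Subgroup.centralizer_le_normalizer (D : Set G))
    intro x hx
    rw [mem_centralizer_iff]
    intro d hd
    exact hcomm S d (hDS hd) x hx
  have hPN := hle P (hPQ ▸ inf_le_left)
  refine ⟨P, Q, fun R => ?_⟩
  obtain ⟨S, hS⟩ := IsPGroup.exists_le_sylow (P := ((R : Subgroup G).subgroupOf N))
    (R.isPGroup'.comap_of_injective N.subtype N.subtype_injective)
  obtain ⟨n, hn⟩ := exists_smul_eq N (P.subtype hPN) S
  rw [Sylow.smul_subtype] at hn
  have hRP : (R : Subgroup G) ⊓ N ≤ ((n : G) • P : Sylow p G) := by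
    intro x hx
    have : (⟨x, hx.2⟩ : N) ∈ (S : Subgroup N) := hS hx.1
    rw [← hn] at this
    exact this
  have hfix : MulAut.conj (n : G) • D = D := by
    ext x
    rw [Subgroup.mem_pointwise_smul_iff_inv_smul_mem, ← map_inv, MulAut.smul_def,
      MulAut.conj_apply, inv_inv]
    exact ((mem_normalizer_iff'' (H := D)).mp n.2 x).symm
  have hD' : (((n : G) • P : Sylow p G) : Subgroup G) ⊓ (((n : G) • Q : Sylow p G)) = D := by
    rw [Sylow.coe_subgroup_smul, Sylow.coe_subgroup_smul, ← Subgroup.smul_inf, hPQ, hfix]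
  have hQN : (((n : G) • Q : Sylow p G) : Subgroup G) ≤ N := hle _ (hD' ▸ inf_le_right)
  have hle2 : (R : Subgroup G) ⊓ (((n : G) • Q : Sylow p G)) ≤ D := by
    rw [← hD']
    exact le_inf ((le_inf inf_le_left (inf_le_right.trans hQN)).trans hRP) inf_le_right
  have := hD.le_of_le ⟨R, (n : G) • Q, rfl⟩ hle2
  rw [hPQ]
  exact this.trans inf_le_left

end Cfsg.Agent.Lib.SylowNumbers.Basic
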