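import Cfsg.Agent.Lib.SylowNumbers.Quotient

/-!
P. Hall's formula for the number of Sylow subgroups.
-/

set_option autoImplicit false
set_option linter.unusedSectionVars false

namespace Cfsg.Agent.Lib.SylowNumbers.Formula

open Subgroup MulAction
open Cfsg.Agent.Lib.SylowNumbers.Basic
open Cfsg.Agent.Lib.SylowNumbers.Actions
open scoped Pointwise

variable {G : Type*} [Group G] [Finite G] {p : ℕ} [Fact p.Prime]

theorem card_sylow_eq_index (P : Sylow p G) :
    Nat.card (Sylow p G) = (normalizer ((P : Subgroup G) : Set G)).index := by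
  rw [P.card_eq_index_normalizer]; rfl

/-- The preimage of the normalizer of the image of a Sylow subgroup is `N(P) ⊔ K`. -/
theorem comap_normalizer_map (K : Subgroup G) [K.Normal] (P : Sylow p G) :
    (normalizer (((P : Subgroup G).map (QuotientGroup.mk' K)) : Set (G ⧸ K))).comap (QuotientGroup.mk' K) =
      normalizer ((P : Subgroup G) : Set G) ⊔ K := by
  apply le_antisymm
  · intro n hn
    rw [mem_comap] at hn
    set M := ((P : Subgroup G).map (QuotientGroup.mk' K)).comap (QuotientGroup.mk' K) with hM
    have hMK : M = (P : Subgroup G) ⊔ K := by rw [hM, comap_map_eq, QuotientGroup.ker_mk']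
    have hfix : MulAut.conj n • M = M := by
      ext x
      rw [Subgroup.mem_pointwise_smul_iff_inv_smul_mem, ← map_inv, MulAut.smul_def, MulAut.conj_apply,
        inv_inv, hM, mem_comap, mem_comap, map_mul, map_mul, map_inv]
      exact (mem_normalizer_iff''.mp hn _).symm
    obtain ⟨k, hk, hk'⟩ := exists_normalizer_mul P M (hMK ▸ le_sup_left) n hfix
    have hkS : k ∈ normalizer ((P : Subgroup G) : Set G) ⊔ K :=
      (sup_le_sup_right le_normalizer K) (hMK ▸ hk)
    have := mul_mem hkS (mem_sup_left (T := K) hk')
    rwa [mul_inv_cancel_left] at this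
  · refine sup_le ?_ ?_
    · intro n hn
      rw [mem_comap, mem_normalizer_iff'']
      intro y
      constructor
      · rintro ⟨u, hu, rfl⟩
        exact ⟨n⁻¹ * u * n, (mem_normalizer_iff''.mp hn u).mp hu, by simp⟩
      · rintro ⟨u, hu, huy⟩
        refine ⟨n * u * n⁻¹, (mem_normalizer_iff.mp hn u).mp hu, ?_⟩
        rw [map_mul, map_mul, map_inv, huy]; group
    · intro k hk
      rw [mem_comap, QuotientGroup.mk'_apply, (QuotientGroup.eq_one_iff k).mpr hk]
      exact one_mem _

theorem card_sylow_quotient_eq (K : Subgroup G) [K.Normal] (P : Sylow p G) :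
    Nat.card (Sylow p (G ⧸ K)) = (normalizer ((P : Subgroup G) : Set G) ⊔ K).index := by
  rw [card_sylow_eq_index (P.mapSurjective (QuotientGroup.mk'_surjective K)), Sylow.coe_mapSurjective,
    ← comap_normalizer_map K P, index_comap_of_surjective _ (QuotientGroup.mk'_surjective K)]

/-- `n_p(G) = n_p(G/K) n_p(PK)`. -/
theorem card_sylow_mul (K : Subgroup G) [K.Normal] (P : Sylow p G) :
    Nat.card (Sylow p G) =
      Nat.card (Sylow p (G ⧸ K)) * (normalizer ((P : Subgroup G) : Set G)).relIndex K := by
  rw [card_sylow_quotient_eq K P, card_sylow_eq_index P, ← relIndex_sup_of_normal, mul_comm,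
    relIndex_mul_index le_sup_left]

/-- The Sylow number of `PK`. -/
theorem card_sylow_sup (K : Subgroup G) [K.Normal] (P : Sylow p G) :
    Nat.card (Sylow p ((P : Subgroup G) ⊔ K : Subgroup G)) =
      (normalizer ((P : Subgroup G) : Set G)).relIndex K := by
  rw [card_sylow_of_le P le_sup_left]
  have hle : ((P : Subgroup G) ⊔ K) ≤ normalizer ((P : Subgroup G) : Set G) ⊔ K :=
    sup_le_sup_right le_normalizer K
  refine le_antisymm ?_ (relIndex_le_of_le_right le_sup_right Subgroup.index_ne_zero_of_finite)
  rw [← relIndex_sup_of_normal (normalizer ((P : Subgroup G) : Set G)) K]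
  exact relIndex_le_of_le_right hle Subgroup.index_ne_zero_of_finite

end Cfsg.Agent.Lib.SylowNumbers.Formula
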