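import Cfsg.Agent.Lib.SylowNumbers.Actions
import Mathlib.GroupTheory.Transfer
import Mathlib.GroupTheory.Perm.Cycle.Type
import Mathlib.GroupTheory.SpecificGroups.Alternating

/-!
Small tools for simple groups: automizers of cyclic subgroups, Burnside transfer, parity.
-/

set_option autoImplicit false
set_option linter.unusedSectionVars false

namespace Cfsg.Agent.Lib.SylowNumbers.SimpleAux

open Subgroup MulAction
open scoped Pointwise

variable {G : Type*} [Group G] [Finite G]

theorem relIndex_centralizer_dvd_totient (X : Subgroup G) (hX : IsCyclic X) :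
    (centralizer (X : Set G)).relIndex (normalizer (X : Set G)) ∣ Nat.totient (Nat.card X) := by
  have key := card_dvd_of_injective _ (QuotientGroup.kerLift_injective X.normalizerMonoidHom)
  rw [normalizerMonoidHom_ker, ← index, ← relIndex, hX.card_mulAut] at key
  exact key

theorem not_normalizer_le_centralizer [IsSimpleGroup G] {p : ℕ} [Fact p.Prime] (P : Sylow p G)
    (h1 : (P : Subgroup G) ≠ ⊥) (h2 : (P : Subgroup G) ≠ ⊤) :
    ¬ normalizer ((P : Subgroup G) : Set G) ≤ centralizer ((P : Subgroup G) : Set G) := by
  intro h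
  have hc := MonoidHom.ker_transferSylow_isComplement' P h
  rcases (inferInstance : ((MonoidHom.transferSylow P h).ker).Normal).eq_bot_or_eq_top with e | e
  · rw [e, isComplement'_bot_left] at hc
    exact h2 hc
  · rw [e, isComplement'_top_left] at hc
    exact h1 hc

theorem sign_eq_one [IsSimpleGroup G] (hbig : 2 < Nat.card G) {α : Type*} [Fintype α] [DecidableEq α]
    (φ : G →* Equiv.Perm α) (g : G) : Equiv.Perm.sign (φ g) = 1 := by
  let f : G →* ℤˣ := Equiv.Perm.sign.comp φ
  rcases (inferInstance : f.ker.Normal).eq_bot_or_eq_top with e | e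
  · exfalso
    have h := Nat.card_le_card_of_injective f ((MonoidHom.ker_eq_bot_iff f).mp e)
    rw [Nat.card_eq_fintype_card (α := ℤˣ), Fintype.card_units_int] at h
    omega
  · have : g ∈ f.ker := e ▸ Subgroup.mem_top g
    exact this

theorem faithful_of_simple [IsSimpleGroup G] (α : Type*) [MulAction G α] [IsPretransitive G α]
    [Nontrivial α] {g : G} (h : ∀ a : α, g • a = a) : g = 1 := by
  rcases (inferInstance : ((MulAction.toPermHom G α).ker).Normal).eq_bot_or_eq_top with e | e
  · have hg : g ∈ (MulAction.toPermHom G α).ker := Equiv.ext h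
    rw [e] at hg
    exact hg
  · exfalso
    obtain ⟨a, b, hab⟩ := exists_pair_ne α
    obtain ⟨k, rfl⟩ := exists_smul_eq G a b
    have hk : k ∈ (MulAction.toPermHom G α).ker := e ▸ Subgroup.mem_top k
    exact hab (Equiv.congr_fun (show MulAction.toPerm k = (1 : Equiv.Perm α) from hk) a).symm

/-- An element of prime order without fixed points on a set of that prime cardinality is transitive. -/
theorem orbit_eq_univ_of_card {α : Type*} [MulAction G α] [Finite α] {p : ℕ} [Fact p.Prime] {x : G}
    (hx : orderOf x = p) (hcard : Nat.card α = p) {a : α} (ha : x • a ≠ a) :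
    orbit (zpowers x) a = Set.univ := by
  obtain ⟨k, hk⟩ := (IsPGroup.of_card (n := 1) (by rw [Nat.card_zpowers, hx, pow_one]) :
    IsPGroup p (zpowers x)).card_orbit a
  have hle : Nat.card (orbit (zpowers x) a) ≤ p :=
    hcard ▸ Nat.card_le_card_of_injective _ Subtype.val_injective
  rw [Nat.card_coe_set_eq] at hk hle
  apply Set.eq_of_subset_of_ncard_le (Set.subset_univ _) _ (Set.toFinite _)
  rw [Set.ncard_univ, hcard]
  rcases k with _ | k
  · exfalso
    rw [pow_zero, Set.ncard_eq_one] at hk
    obtain ⟨b, hb⟩ := hk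
    have h1 : x • a ∈ orbit (zpowers x) a := ⟨⟨x, mem_zpowers x⟩, rfl⟩
    have h2 : a ∈ orbit (zpowers x) a := mem_orbit_self a
    rw [hb, Set.mem_singleton_iff] at h1 h2
    exact ha (h1.trans h2.symm)
  · rw [hk]
    exact Nat.le_self_pow (by omega) p

end Cfsg.Agent.Lib.SylowNumbers.SimpleAux
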