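import Cfsg.Agent.Lib.SylowNumbers.Basic
import Mathlib.GroupTheory.GroupAction.Quotient
import Mathlib.GroupTheory.IndexNormal
import Mathlib.GroupTheory.Subgroup.Centralizer

/-!
Orbit lengths on Sylow subgroups, Sylow numbers of subgroups, commuting fixed-point-free elements.
-/

set_option autoImplicit false
set_option linter.unusedSectionVars false

namespace Cfsg.Agent.Lib.SylowNumbers.Actions

open Subgroup MulAction
open Cfsg.Agent.Lib.SylowNumbers.Basic
open scoped Pointwise

variable {G : Type*} [Group G]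

/-- An orbit of a subgroup has length the relative index of the point stabilizer. -/
theorem card_orbit_subgroup {α : Type*} [MulAction G α] (K : Subgroup G) (a : α) :
    Nat.card (orbit K a) = (stabilizer G a).relIndex K := by
  have e : stabilizer K a = (stabilizer G a).subgroupOf K := by ext; rfl
  rw [Nat.card_congr (orbitEquivQuotientStabilizer K a), e]; rfl

variable {p : ℕ} [Fact p.Prime] [Finite G]

theorem inf_normalizer_eq (P Q : Sylow p G) :
    (P : Subgroup G) ⊓ normalizer ((Q : Subgroup G) : Set G) = (P : Subgroup G) ⊓ Q :=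
  P.isPGroup'.inf_normalizer_sylow Q

theorem card_orbit_sylow (K : Subgroup G) (P : Sylow p G) :
    Nat.card (orbit K P) = (normalizer ((P : Subgroup G) : Set G)).relIndex K := by
  rw [card_orbit_subgroup, Sylow.stabilizer_eq_normalizer]; rfl

/-- The Sylow number of a subgroup containing a Sylow subgroup. -/
theorem card_sylow_of_le {M : Subgroup G} (P : Sylow p G) (hPM : (P : Subgroup G) ≤ M) :
    Nat.card (Sylow p M) = (normalizer ((P : Subgroup G) : Set G)).relIndex M := by
  rw [(P.subtype hPM).card_eq_index_normalizer, ← Sylow.coe_coe, Sylow.coe_subtype,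
    ← subgroupOf_normalizer_eq hPM]
  rfl

theorem relIndex_normalizer_modEq_one {M : Subgroup G} (P : Sylow p G)
    (hPM : (P : Subgroup G) ≤ M) :
    (normalizer ((P : Subgroup G) : Set G)).relIndex M % p = 1 := by
  have h := card_sylow_modEq_one p M
  rw [card_sylow_of_le P hPM] at h
  rw [Nat.ModEq, Nat.one_mod_eq_one.mpr (Fact.out : p.Prime).ne_one] at h
  exact h

theorem orbit_eq_setOf_le {M : Subgroup G} (P : Sylow p G) (hPM : (P : Subgroup G) ≤ M) :
    orbit M P = {Q : Sylow p G | (Q : Subgroup G) ≤ M} := by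
  ext Q
  constructor
  · rintro ⟨m, rfl⟩; exact Sylow.smul_le hPM m
  · intro hQ
    obtain ⟨m, hm⟩ := exists_smul_eq M (P.subtype hPM) (Q.subtype hQ)
    rw [Sylow.smul_subtype] at hm
    exact ⟨m, Sylow.subtype_injective hm⟩

theorem card_orbit_sylow_pair (P Q : Sylow p G) :
    Nat.card (orbit (P : Subgroup G) Q) = (Q : Subgroup G).relIndex P := by
  rw [card_orbit_sylow, ← inf_relIndex_left, inf_normalizer_eq, inf_relIndex_left]

theorem eq_of_le_normalizer {P Q : Sylow p G}
    (h : (P : Subgroup G) ≤ normalizer ((Q : Subgroup G) : Set G)) : P = Q := by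
  have h1 : (P : Subgroup G) ≤ Q := by
    have := inf_normalizer_eq P Q
    rw [inf_eq_left.mpr h] at this
    exact this ▸ inf_le_right
  exact Sylow.ext (P.is_maximal' Q.isPGroup' h1).symm

theorem inf_lt_of_ne {P Q : Sylow p G} (h : P ≠ Q) : (P : Subgroup G) ⊓ Q < P := by
  refine lt_of_le_of_ne inf_le_left (fun e => h ?_)
  exact Sylow.ext (P.is_maximal' Q.isPGroup' (e ▸ inf_le_right)).symm

/-- A subgroup of index p in a p-group is normalized by it. -/
theorem le_normalizer_of_relIndex_eq {S E : Subgroup G} (hS : IsPGroup p S) (hle : E ≤ S)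
    (h : E.relIndex S = p) : S ≤ normalizer (E : Set G) := by
  obtain ⟨n, hn⟩ := IsPGroup.iff_card.mp hS
  have hn0 : n ≠ 0 := by
    rintro rfl
    have h1 : p ∣ 1 := by
      conv_lhs => rw [← h]
      rw [← pow_zero p, ← hn]
      exact relIndex_dvd_card ..
    exact (Fact.out : p.Prime).ne_one (Nat.dvd_one.mp h1)
  have hnormal : (E.subgroupOf S).Normal := by
    refine normal_of_index_eq_minFac_card ?_
    rw [hn, (Fact.out : p.Prime).pow_minFac hn0]
    exact h
  exact (normal_subgroupOf_iff_le_normalizer hle).mp hnormal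

/-- If `u` commutes with an element of order `m` and moves `a` inside its orbit, then `u ^ m` fixes `a`. -/
theorem pow_smul_eq_of_mem_orbit {α : Type*} [MulAction G α] {u z : G} {m : ℕ}
    (hc : Commute u z) (hz : z ^ m = 1) {a : α} (h : u • a ∈ orbit (zpowers z) a) :
    u ^ m • a = a := by
  obtain ⟨⟨w, hw⟩, hwa⟩ := h
  obtain ⟨i, rfl⟩ := mem_zpowers_iff.mp hw
  replace hwa : z ^ i • a = u • a := hwa
  have key : ∀ n : ℕ, u ^ n • a = (z ^ i) ^ n • a := by
    intro n
    induction n with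
    | zero => simp
    | succ n ih =>
      rw [pow_succ, mul_smul, ← hwa, ← mul_smul, ((hc.zpow_right i).pow_left n).eq, mul_smul, ih,
        ← mul_smul, ← pow_succ']
  rw [key m, ← zpow_natCast (z ^ i), ← zpow_mul, mul_comm, zpow_mul, zpow_natCast, hz, one_zpow,
    one_smul]

/-- An element of prime order `r` commuting with `z` of prime order `m` acting on fewer than
`r * m` points keeps every point moved by `z` inside its `z`-orbit. -/
theorem mem_orbit_of_commute {α : Type*} [MulAction G α] [Finite α] {u z : G} {r m : ℕ}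
    (hr : r.Prime) (hu : orderOf u = r) (hm : m.Prime) (hz : orderOf z = m) (hc : Commute u z)
    {a : α} (hza : z • a ≠ a) (hbig : Nat.card α < r * m) :
    u • a ∈ orbit (zpowers z) a := by
  let f : Fin r × Fin m → α := fun t => u ^ (t.1 : ℕ) • z ^ (t.2 : ℕ) • a
  have hf : ¬ Function.Injective f := by
    intro hinj
    have := Nat.card_le_card_of_injective f hinj
    rw [Nat.card_prod, Nat.card_fin, Nat.card_fin] at this
    omega
  have hzi : ∀ i j : Fin m, z ^ (i : ℕ) • a = z ^ (j : ℕ) • a → i = j := by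
    intro i j hij
    by_contra hne
    have hd : z ^ ((i : ℤ) - (j : ℤ)) • a = a := by
      rw [sub_eq_add_neg, add_comm, zpow_add, mul_smul, zpow_natCast, hij, ← zpow_natCast,
        ← mul_smul, ← zpow_add, neg_add_cancel, zpow_zero, one_smul]
    have hmem : z ^ ((i : ℤ) - (j : ℤ)) ∈ stabilizer G a := hd
    have hne' : z ^ ((i : ℤ) - (j : ℤ)) ≠ 1 := by
      rw [Ne, ← orderOf_dvd_iff_zpow_eq_one, hz]
      intro hdvd
      have hi := i.isLt; have hj := j.isLt
      refine hne (Fin.ext ?_)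
      have := Int.eq_zero_of_abs_lt_dvd hdvd (by rw [abs_lt]; constructor <;> omega)
      omega
    have hfin : Finite G := inferInstance
    have : zpowers z ≤ stabilizer G a := by
      have hz' : zpowers (z ^ ((i : ℤ) - (j : ℤ))) = zpowers z := by
        refine eq_of_le_of_card_ge (zpowers_le.mpr (zpow_mem (mem_zpowers z) _)) ?_
        rw [Nat.card_zpowers, Nat.card_zpowers, hz]
        rcases (Nat.dvd_prime hm).mp (hz ▸ orderOf_dvd_of_mem_zpowers
          (zpow_mem (mem_zpowers z) ((i : ℤ) - (j : ℤ)))) with h | h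
        · exact absurd (orderOf_eq_one_iff.mp h) hne'
        · exact h.ge
      rw [← hz']; exact zpowers_le.mpr hmem
    exact hza (this (mem_zpowers z))
  rw [Function.not_injective_iff] at hf
  obtain ⟨⟨k, i⟩, ⟨k', j⟩, hkk, hne⟩ := hf
  have hk : k ≠ k' := by
    rintro rfl
    exact hne (by rw [hzi i j (MulAction.injective _ hkk)])
  let K : Subgroup G :=
    { carrier := {v | Commute v z ∧ v • a ∈ orbit (zpowers z) a}
      one_mem' := ⟨Commute.one_left _, by rw [one_smul]; exact mem_orbit_self a⟩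
      mul_mem' := by
        rintro v w ⟨hv, hva⟩ ⟨hw, ⟨⟨b, hb⟩, hwa⟩⟩
        refine ⟨hv.mul_left hw, ?_⟩
        obtain ⟨⟨c, hc'⟩, hva⟩ := hva
        replace hva : c • a = v • a := hva
        replace hwa : b • a = w • a := hwa
        refine ⟨⟨b * c, mul_mem hb hc'⟩, ?_⟩
        change (b * c) • a = (v * w) • a
        obtain ⟨e, rfl⟩ := mem_zpowers_iff.mp hb
        rw [mul_smul, hva, mul_smul, ← hwa, ← mul_smul, ← mul_smul, (hv.zpow_right e).eq]
      inv_mem' := by
        rintro v ⟨hv, ⟨c, hc'⟩, hva⟩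
        replace hva : c • a = v • a := hva
        refine ⟨hv.inv_left, ⟨⟨c⁻¹, inv_mem hc'⟩, ?_⟩⟩
        change c⁻¹ • a = v⁻¹ • a
        obtain ⟨e, rfl⟩ := mem_zpowers_iff.mp hc'
        rw [inv_smul_eq_iff, ← mul_smul, ← (hv.inv_left.zpow_right e).eq, mul_smul, hva,
          inv_smul_smul] }
  have hd : u ^ ((k : ℤ) - (k' : ℤ)) ∈ K := by
    refine ⟨hc.zpow_left _, ⟨⟨z ^ ((j : ℤ) - (i : ℤ)), zpow_mem (mem_zpowers z) _⟩, ?_⟩⟩
    change z ^ ((j : ℤ) - (i : ℤ)) • a = u ^ ((k : ℤ) - (k' : ℤ)) • a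
    have e1 : (u ^ (k : ℤ) * z ^ (i : ℤ)) • a = (u ^ (k' : ℤ) * z ^ (j : ℤ)) • a := by
      simpa [f, mul_smul] using hkk
    have e2 := congrArg (fun x => (z ^ (-(i : ℤ)) * u ^ (-(k' : ℤ))) • x) e1
    simp only [← mul_smul] at e2
    have c1 : z ^ (-(i : ℤ)) * u ^ (-(k' : ℤ)) * (u ^ (k' : ℤ) * z ^ (j : ℤ)) = z ^ ((j : ℤ) - i) := by
      group
    have c2 : z ^ (-(i : ℤ)) * u ^ (-(k' : ℤ)) * (u ^ (k : ℤ) * z ^ (i : ℤ)) = u ^ ((k : ℤ) - k') := by
      calc z ^ (-(i : ℤ)) * u ^ (-(k' : ℤ)) * (u ^ (k : ℤ) * z ^ (i : ℤ))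
          = z ^ (-(i : ℤ)) * (u ^ ((k : ℤ) - k') * z ^ (i : ℤ)) := by group
        _ = z ^ (-(i : ℤ)) * (z ^ (i : ℤ) * u ^ ((k : ℤ) - k')) := by
            rw [(hc.zpow_zpow ((k : ℤ) - k') i).eq]
        _ = _ := by group
    rw [c1, c2] at e2
    exact e2.symm
  have hne1 : u ^ ((k : ℤ) - (k' : ℤ)) ≠ 1 := by
    rw [Ne, ← orderOf_dvd_iff_zpow_eq_one, hu]
    intro hdvd
    have hi := k.isLt; have hj := k'.isLt
    refine hk (Fin.ext ?_)
    have := Int.eq_zero_of_abs_lt_dvd hdvd (by rw [abs_lt]; constructor <;> omega)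
    omega
  have hgen : zpowers (u ^ ((k : ℤ) - (k' : ℤ))) = zpowers u := by
    refine eq_of_le_of_card_ge (zpowers_le.mpr (zpow_mem (mem_zpowers u) _)) ?_
    rw [Nat.card_zpowers, Nat.card_zpowers, hu]
    rcases (Nat.dvd_prime hr).mp (hu ▸ orderOf_dvd_of_mem_zpowers
      (zpow_mem (mem_zpowers u) ((k : ℤ) - (k' : ℤ)))) with h | h
    · exact absurd (orderOf_eq_one_iff.mp h) hne1
    · exact h.ge
  have : u ∈ K := zpowers_le.mpr hd (hgen ▸ mem_zpowers u)
  exact this.2

end Cfsg.Agent.Lib.SylowNumbers.Actions
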