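import Mathlib
import Cfsg.Agent.Lib.SylowNumbers.SimpleAux
import Cfsg.Agent.Lib.SylowNumbers.Formula
import Cfsg.Agent.S4343

/-!
No finite group has 21 Sylow 5-subgroups (M. Hall).
-/

set_option autoImplicit false
set_option linter.unusedSectionVars false
set_option linter.style.haveILetI false

namespace Cfsg.Agent.Lib.SylowNumbers.TwentyOne

open Subgroup MulAction
open Cfsg.Agent.Lib.SylowNumbers.Basic
open Cfsg.Agent.Lib.SylowNumbers.Actions
open Cfsg.Agent.Lib.SylowNumbers.SimpleAux
open scoped Pointwise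

/-- A central involution of the normalizer of an abelian Sylow 2-subgroup of a nonabelian simple
group cannot exist. -/
theorem not_central_involution {G : Type*} [Group G] [Finite G] [IsSimpleGroup G]
    (hS : ¬ IsMulCommutative G) (T : Sylow 2 G) [IsMulCommutative T] (i : G)
    (hi : i ∈ (T : Subgroup G)) (h2 : i ^ 2 = 1) (hne : i ≠ 1)
    (hc : ∀ n ∈ normalizer ((T : Subgroup G) : Set G), n * i = i * n) : False := by
  haveI : Fact (Nat.Prime 2) := ⟨Nat.prime_two⟩
  letI : CommGroup (T : Subgroup G) :=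
    { (inferInstance : Group (T : Subgroup G)) with mul_comm := fun a b => mul_comm' a b }
  let f : G →* (T : Subgroup G) := MonoidHom.transfer (MonoidHom.id (T : Subgroup G))
  have key : ∀ (k : ℕ) (g₀ : G), g₀⁻¹ * i ^ k * g₀ ∈ (T : Subgroup G) →
      g₀⁻¹ * i ^ k * g₀ = i ^ k := by
    intro k g₀ hk
    obtain ⟨n, hn, e⟩ := T.conj_eq_normalizer_conj_of_mem (i ^ k) g₀ (pow_mem hi k) hk
    rw [e, mul_assoc, ← ((show Commute n i from hc n hn).pow_right k).eq, inv_mul_cancel_left]
  have hodd : Odd (T : Subgroup G).index :=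
    Nat.not_even_iff_odd.mp fun h => T.not_dvd_index h.two_dvd
  have hf : f i ≠ 1 := by
    intro h
    have h1 := MonoidHom.transfer_eq_pow (MonoidHom.id (T : Subgroup G)) i key
    change f i = _ at h1
    rw [h] at h1
    have h3 := congrArg Subtype.val h1
    simp only [MonoidHom.id_apply, Subgroup.coe_one] at h3
    obtain ⟨m, hm⟩ := hodd
    rw [hm, pow_succ, pow_mul, h2, one_pow, one_mul] at h3
    exact hne h3.symm
  rcases (inferInstance : f.ker.Normal).eq_bot_or_eq_top with e | e
  · exact hS ⟨⟨fun a b => (f.ker_eq_bot_iff.mp e) (by rw [map_mul, map_mul]; exact mul_comm _ _)⟩⟩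
  · exact hf (MonoidHom.mem_ker.mp (e ▸ Subgroup.mem_top i))

theorem zpow_val_eq {G : Type*} [Group G] {z : G} (hz : orderOf z = 5) (m : ℕ) :
    z ^ ((m : ZMod 5).val) = z ^ m := by
  rw [ZMod.val_natCast, ← hz, pow_mod_orderOf]

theorem sq_eq_one_zmod5 : ∀ a : ZMod 5, a * a = 1 → a = 1 ∨ a = -1 := by decide

theorem neg_one_fix : ∀ b : ZMod 5, (-1) * (3 * b) + b = 3 * b := by decide

theorem neg_one_sq_zmod5 : (-1 : ZMod 5) * -1 = 1 := by decide

theorem add_five_times : ∀ x b : ZMod 5, x + b + b + b + b + b = x := by decide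

theorem unit_pow_four : ∀ u : (ZMod 5)ˣ, u ^ 4 = 1 := by decide

/-- The simple case. -/
theorem simple_case {G : Type*} [Group G] [Finite G] [IsSimpleGroup G] (hS : ¬ IsMulCommutative G)
    (hn : Nat.card (Sylow 5 G) = 21) : False := by
  classical
  haveI : Fact (Nat.Prime 5) := ⟨by norm_num⟩
  haveI : Fact (Nat.Prime 2) := ⟨Nat.prime_two⟩
  haveI : Fact (Nat.Prime 7) := ⟨by norm_num⟩
  haveI : Fintype (Sylow 5 G) := Fintype.ofFinite _
  have h5G : 5 ∣ Nat.card G := by
    by_contra h
    have : Subsingleton (Sylow 5 G) := ⟨fun A B => by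
      have hb : ∀ R : Sylow 5 G, (R : Subgroup G) = ⊥ := fun R => by
        rw [← card_eq_one, R.card_eq_multiplicity, Nat.factorization_eq_zero_of_not_dvd h, pow_zero]
      exact Sylow.ext ((hb A).trans (hb B).symm)⟩
    rw [Nat.card_unique] at hn
    omega
  have hcard5 : ∀ R : Sylow 5 G, Nat.card R = 5 := fun R =>
    Cfsg.Agent.S4343.result hS 5 h5G (by rw [hn]; norm_num) R
  have hfaith : ∀ g : G, (∀ R : Sylow 5 G, g • R = R) → g = 1 := by
    intro g hg
    haveI : Nontrivial (Sylow 5 G) := Finite.one_lt_card_iff_nontrivial.mp (by omega)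
    exact faithful_of_simple (Sylow 5 G) hg
  obtain ⟨P⟩ : Nonempty (Sylow 5 G) := inferInstance
  obtain ⟨⟨z, hzP⟩, hz'⟩ := exists_prime_orderOf_dvd_card' (G := (P : Subgroup G)) 5
    (by rw [hcard5 P])
  rw [Subgroup.orderOf_mk] at hz'
  have hz : orderOf z = 5 := hz'
  have hz5 : z ^ 5 = 1 := by
    have h := pow_orderOf_eq_one z
    rwa [hz] at h
  have hPz : zpowers z = (P : Subgroup G) :=
    eq_of_le_of_card_ge (zpowers_le.mpr hzP) (by rw [Nat.card_zpowers, hz, hcard5 P])
  set N := normalizer ((P : Subgroup G) : Set G) with hNdef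
  have hsm : ∀ g : G, g • P = P ↔ g ∈ N := fun g => Sylow.smul_eq_iff_mem_normalizer
  have hzfix : ∀ (k : ℕ) (Q : Sylow 5 G), z ^ k • Q = Q → Q = P ∨ 5 ∣ k := by
    intro k Q hQ
    by_cases h : 5 ∣ k
    · exact Or.inr h
    left
    have hle : (P : Subgroup G) ≤ normalizer ((Q : Subgroup G) : Set G) := by
      rw [← hPz, zpowers_le]
      have hmem := Sylow.smul_eq_iff_mem_normalizer.mp hQ
      have hcop : k.Coprime (orderOf z) := by
        rw [hz]; exact ((Nat.Prime.coprime_iff_not_dvd (by norm_num)).mpr h).symm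
      obtain ⟨m, hm⟩ := exists_pow_eq_self_of_coprime hcop
      rw [← hm]
      exact pow_mem hmem m
    exact (eq_of_le_normalizer hle).symm
  -- coordinates on the other twenty points
  let Ω' := {Q : Sylow 5 G // Q ≠ P}
  let rel : Setoid Ω' :=
    { r := fun Q R => ∃ k : ℕ, z ^ k • (Q : Sylow 5 G) = R
      iseqv :=
        { refl := fun Q => ⟨0, by rw [pow_zero, one_smul]⟩
          symm := fun {Q R} ⟨k, hk⟩ => ⟨4 * k, by
            rw [← hk, ← mul_smul, ← pow_add, show 4 * k + k = 5 * k by ring, pow_mul, hz5,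
              one_pow, one_smul]⟩
          trans := fun {Q R S} ⟨k, hk⟩ ⟨l, hl⟩ => ⟨l + k, by rw [pow_add, mul_smul, hk, hl]⟩ } }
  haveI : Fintype (Quotient rel) := Fintype.ofFinite _
  let g₀ : Quotient rel × ZMod 5 → Ω' := fun qi =>
    ⟨z ^ qi.2.val • ((qi.1.out : Ω') : Sylow 5 G), fun e => qi.1.out.2 (by
      rw [← smul_left_cancel_iff (z ^ qi.2.val), e, (hsm _).mpr (pow_mem (le_normalizer hzP) _)])⟩
  have hg₀ : Function.Bijective g₀ := by
    constructor
    · rintro ⟨q, i⟩ ⟨r, j⟩ e
      have e' : z ^ i.val • ((q.out : Ω') : Sylow 5 G) = z ^ j.val • ((r.out : Ω') : Sylow 5 G) :=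
        congrArg Subtype.val e
      have hj := ZMod.val_lt j
      have h1 : z ^ (5 - j.val + i.val) • ((q.out : Ω') : Sylow 5 G) = r.out := by
        rw [pow_add, mul_smul, e', ← mul_smul, ← pow_add, Nat.sub_add_cancel hj.le, hz5,
          one_smul]
      have hqr : q = r := by
        rw [← Quotient.out_eq q, ← Quotient.out_eq r]
        exact Quotient.sound ⟨_, h1⟩
      subst hqr
      rcases hzfix _ _ h1 with h | h
      · exact absurd h q.out.2
      · have hi := ZMod.val_lt i
        have : i.val = j.val := by omega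
        rw [ZMod.val_injective 5 this]
    · intro Q
      obtain ⟨k, hk⟩ := Quotient.exact (Quotient.out_eq (Quotient.mk rel Q))
      refine ⟨(Quotient.mk rel Q, (k : ZMod 5)), Subtype.ext ?_⟩
      show z ^ (k : ZMod 5).val • _ = _
      rw [zpow_val_eq hz]
      exact hk
  have hO : Nat.card (Quotient rel) = 4 := by
    have h1 := Nat.card_congr (Equiv.ofBijective g₀ hg₀)
    rw [Nat.card_prod, Nat.card_zmod] at h1
    have h2 : Nat.card Ω' + 1 = 21 := by
      rw [← hn, Nat.card_congr (Equiv.optionSubtypeNe P).symm, Finite.card_option]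
    omega
  let e4 : Fin 4 ≃ Quotient rel := (Finite.equivFinOfCardEq hO).symm
  let Ev : Fin 4 × ZMod 5 ≃ Ω' :=
    (Equiv.prodCongr e4 (Equiv.refl _)).trans (Equiv.ofBijective g₀ hg₀)
  let E : Option (Fin 4 × ZMod 5) ≃ Sylow 5 G :=
    (Equiv.optionCongr Ev).trans (Equiv.optionSubtypeNe P)
  let f : Fin 4 → Sylow 5 G := fun q => ((e4 q).out : Ω')
  have hE : ∀ q i, E (some (q, i)) = z ^ i.val • f q := fun q i => rfl
  have hEN : E none = P := rfl
  have hEf : ∀ q, E (some (q, (0 : ZMod 5))) = f q := fun q => by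
    rw [hE, ZMod.val_zero, pow_zero, one_smul]
  have hfP : ∀ q, f q ≠ P := fun q => ((e4 q).out).2
  have hex : ∀ (n : N) (q : Fin 4), ∃ y : Fin 4 × ZMod 5, E (some y) = (n : G) • f q := by
    intro n q
    cases hy : E.symm ((n : G) • f q) with
    | none =>
      exfalso
      rw [Equiv.symm_apply_eq, hEN, ← eq_inv_smul_iff] at hy
      exact hfP q (hy.trans ((hsm _).mpr (inv_mem n.2)))
    | some y => exact ⟨y, (Equiv.symm_apply_eq E).mp hy |>.symm⟩
  choose c hc using hex
  have hexa : ∀ n : N, ∃ a : ZMod 5, z ^ a.val = (n : G) * z * (n : G)⁻¹ := by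
    intro n
    have h : (n : G) * z * (n : G)⁻¹ ∈ zpowers z := hPz ▸ (mem_normalizer_iff.mp n.2 z).mp hzP
    obtain ⟨k, hk⟩ := (IsOfFinOrder.mem_zpowers_iff_mem_range_orderOf (isOfFinOrder_of_finite z)).mp h
      |> Finset.mem_image.mp
    exact ⟨(k : ZMod 5), by rw [zpow_val_eq hz]; exact hk.2⟩
  choose aa haa using hexa
  have hzinj : ∀ a b : ZMod 5, z ^ a.val = z ^ b.val → a = b := fun a b h => by
    have := pow_inj_mod.mp h
    rw [hz, Nat.mod_eq_of_lt (ZMod.val_lt a), Nat.mod_eq_of_lt (ZMod.val_lt b)] at this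
    exact ZMod.val_injective 5 this
  have hzadd : ∀ a b : ZMod 5, z ^ (a + b).val = z ^ a.val * z ^ b.val := fun a b => by
    rw [← pow_add, ← zpow_val_eq hz (a.val + b.val), Nat.cast_add, ZMod.natCast_zmod_val,
      ZMod.natCast_zmod_val]
  have hzmul : ∀ a b : ZMod 5, z ^ (a * b).val = (z ^ a.val) ^ b.val := fun a b => by
    rw [← pow_mul, ← zpow_val_eq hz (a.val * b.val), Nat.cast_mul, ZMod.natCast_zmod_val,
      ZMod.natCast_zmod_val]
  have hkey : ∀ (n : N) (q : Fin 4) (i : ZMod 5),
      (n : G) • E (some (q, i)) = E (some ((c n q).1, aa n * i + (c n q).2)) := by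
    intro n q i
    rw [hE, hE, hzadd, mul_smul, hzmul, haa, conj_pow, ← hE (c n q).1 (c n q).2, hc,
      ← mul_smul, ← mul_smul, mul_assoc ((n : G) * z ^ i.val), inv_mul_cancel, mul_one]
  have hnone : ∀ n : N, (n : G) • E none = E none := fun n => by rw [hEN]; exact (hsm _).mpr n.2
  let σf : N → Fin 4 → Fin 4 := fun n q => (c n q).1
  have hσmul : ∀ (m n : N) (q : Fin 4), σf (m * n) q = σf m (σf n q) := by
    intro m n q
    have h1 := hkey (m * n) q 0
    rw [Subgroup.coe_mul, mul_smul, hkey n q 0, hkey m] at h1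
    exact (congrArg Prod.fst (Option.some.inj (E.injective h1))).symm
  have hσone : ∀ q, σf 1 q = q := by
    intro q
    have h1 := hkey 1 q 0
    rw [Subgroup.coe_one, one_smul] at h1
    exact (congrArg Prod.fst (Option.some.inj (E.injective h1))).symm
  let σ : N →* Equiv.Perm (Fin 4) :=
    { toFun := fun n => ⟨σf n, σf n⁻¹, fun q => by rw [← hσmul, inv_mul_cancel, hσone],
        fun q => by rw [← hσmul, mul_inv_cancel, hσone]⟩
      map_one' := Equiv.ext hσone
      map_mul' := fun m n => Equiv.ext (hσmul m n) }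
  have hσ : ∀ n q, σ n q = (c n q).1 := fun n q => rfl
  let α : N →* ZMod 5 :=
    { toFun := aa
      map_one' := hzinj _ _ (by rw [haa, Subgroup.coe_one, inv_one, mul_one, one_mul, ZMod.val_one, pow_one])
      map_mul' := fun m n => hzinj _ _ (by
        rw [haa, hzmul, haa, conj_pow, haa, Subgroup.coe_mul]; group) }
  let Ψ : N →* Equiv.Perm (Fin 4) × (ZMod 5)ˣ := σ.prod α.toHomUnits
  have hkerP : ∀ n : N, Ψ n = 1 → (n : G) ∈ (P : Subgroup G) := by
    intro n hn1
    have hs : σ n = 1 := congrArg Prod.fst hn1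
    have ha : aa n = 1 := congrArg (fun u => ((u : Equiv.Perm (Fin 4) × (ZMod 5)ˣ).2 : ZMod 5)) hn1
    have hpow : ∀ (k : ℕ) q i, (n : G) ^ k • E (some (q, i)) = E (some (q, i + k * (c n q).2)) := by
      intro k q i
      induction k with
      | zero => simp
      | succ k ih =>
        rw [pow_succ', mul_smul, ih, hkey, ha, one_mul, ← hσ, hs, Equiv.Perm.one_apply]
        congr 3
        push_cast; ring
    have h5 : (n : G) ^ 5 = 1 := by
      refine hfaith _ fun R => ?_
      obtain ⟨y, rfl⟩ := E.surjective R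
      rcases y with _ | ⟨q, i⟩
      · rw [hEN]; exact (hsm _).mpr (pow_mem n.2 5)
      · rw [hpow, show ((5 : ℕ) : ZMod 5) = 0 from ZMod.natCast_self 5, zero_mul, add_zero]
    obtain ⟨k, -, hk⟩ := (Nat.dvd_prime_pow (by norm_num : Nat.Prime 5)).mp
      (orderOf_dvd_of_pow_eq_one (show (n : G) ^ 5 ^ 1 = 1 by rwa [pow_one]))
    exact mem_sylow_of_mem_normalizer (isPGroup_zpowers hk) P n.2
  -- parity
  have heven : ∀ n : N, Equiv.Perm.sign (σ n) = 1 := by
    intro n
    have hbig : 2 < Nat.card G := by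
      have := Nat.le_of_dvd Nat.card_pos h5G
      omega
    have hs := sign_eq_one hbig (MulAction.toPermHom G (Sylow 5 G)) (n : G)
    set au : (ZMod 5)ˣ := α.toHomUnits n with hau
    have haval : (au : ZMod 5) = aa n := rfl
    let π₁ : Equiv.Perm (Fin 4 × ZMod 5) := Equiv.prodCongrLeft fun _ => σ n
    let π₂ : Equiv.Perm (Fin 4 × ZMod 5) := Equiv.prodCongrRight fun q => Equiv.addRight (c n q).2
    let π₃ : Equiv.Perm (Fin 4 × ZMod 5) := Equiv.prodCongrRight fun _ => Units.mulLeft au
    have hperm : MulAction.toPermHom G (Sylow 5 G) (n : G) =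
        E.permCongr (Equiv.optionCongr (π₁ * π₂ * π₃)) := by
      refine Equiv.ext fun R => ?_
      obtain ⟨y, rfl⟩ := E.surjective R
      rw [Equiv.permCongr_apply, Equiv.symm_apply_apply]
      show (n : G) • E y = _
      rcases y with _ | ⟨q, i⟩
      · exact hnone n
      · rw [hkey]
        rfl
    rw [hperm, Equiv.Perm.sign_permCongr, Equiv.optionCongr_sign, map_mul, map_mul,
      Equiv.Perm.sign_prodCongrLeft, Equiv.Perm.sign_prodCongrRight, Equiv.Perm.sign_prodCongrRight,
      Finset.prod_const, Finset.prod_const, Finset.card_univ, ZMod.card, Finset.card_univ,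
      Fintype.card_fin] at hs
    have hu : ∀ u : ℤˣ, u ^ 4 = 1 := by decide
    have hu5 : ∀ u : ℤˣ, u ^ 5 = u := by decide
    have h2 : ∏ q : Fin 4, Equiv.Perm.sign (Equiv.addRight (c n q).2 : Equiv.Perm (ZMod 5)) = 1 := by
      refine Finset.prod_eq_one fun q _ => ?_
      rw [← hu5 (Equiv.Perm.sign _), ← map_pow]
      have : (Equiv.addRight (c n q).2 : Equiv.Perm (ZMod 5)) ^ 5 = 1 := by
        refine Equiv.ext fun x => ?_
        exact add_five_times x _
      rw [this, map_one]
    rwa [h2, hu, mul_one, mul_one, hu5] at hs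
  -- structure of the point stabilizer
  have hA4 : ∀ s : Equiv.Perm (Fin 4), Equiv.Perm.sign s = 1 → s * s = 1 ∨ s * s * s = 1 := by decide
  have hV : ∀ s : Equiv.Perm (Fin 4), Equiv.Perm.sign s = 1 → s * s = 1 → s ≠ 1 → ∀ q, s q ≠ q := by
    decide
  have hindex : N.index = 21 := by rw [← hn, P.card_eq_index_normalizer]; rfl
  have hcardG : Nat.card G = 21 * Nat.card N := by rw [← card_mul_index N, hindex, mul_comm]
  obtain ⟨T, hTN⟩ := exists_sylow_le (p := 2) N (by rw [hindex]; decide)
  have hT2 : ∀ t : N, (t : G) ∈ (T : Subgroup G) → σ t * σ t = 1 := by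
    intro t ht
    rcases hA4 (σ t) (heven t) with h | h
    · exact h
    obtain ⟨k, hk⟩ := IsPGroup.iff_orderOf.mp T.isPGroup' ⟨(t : G), ht⟩
    rw [Subgroup.orderOf_mk, Subgroup.orderOf_coe] at hk
    have h3 : orderOf (σ t) ∣ 3 := by
      rw [orderOf_dvd_iff_pow_eq_one, pow_succ, pow_two]; exact h
    have : orderOf (σ t) = 1 := Nat.eq_one_of_dvd_coprimes
      (Nat.Coprime.pow_left k (by norm_num : Nat.Coprime 2 3)) (hk ▸ orderOf_map_dvd σ t) h3
    rw [orderOf_eq_one_iff.mp this, one_mul]
  have hfix : ∀ t : N, (t : G) ∈ (T : Subgroup G) → σ t ≠ 1 →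
      ∀ R : Sylow 5 G, (t : G) • R = R → R = P := by
    intro t ht hne R hR
    obtain ⟨y, rfl⟩ := E.surjective R
    rcases y with _ | ⟨q, i⟩
    · exact hEN
    · exfalso
      rw [hkey] at hR
      exact hV (σ t) (heven t) (hT2 t ht) hne q
        (congrArg Prod.fst (Option.some.inj (E.injective hR)))
  have hTP : ∀ x ∈ (T : Subgroup G), x ∈ (P : Subgroup G) → x = 1 := by
    intro x hx hxP
    obtain ⟨k, hk⟩ := IsPGroup.iff_orderOf.mp T.isPGroup' ⟨x, hx⟩
    rw [Subgroup.orderOf_mk] at hk
    have h5 : orderOf x ∣ 5 := hcard5 P ▸ Subgroup.orderOf_dvd_natCard _ hxP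
    exact orderOf_eq_one_iff.mp (Nat.eq_one_of_dvd_coprimes
      (Nat.Coprime.pow_left k (by norm_num : Nat.Coprime 2 5)) (hk ▸ dvd_rfl) h5)
  haveI hTc : IsMulCommutative T := by
    refine ⟨⟨fun s t => Subtype.ext ?_⟩⟩
    let s' : N := ⟨s, hTN s.2⟩
    let t' : N := ⟨t, hTN t.2⟩
    have h0 : Ψ (s' * t' * s'⁻¹ * t'⁻¹) = 1 := by
      refine Prod.ext ?_ ?_
      · show σ (s' * t' * s'⁻¹ * t'⁻¹) = 1
        have e1 := hT2 s' s.2
        have e2 := hT2 t' t.2
        have e3 := hT2 (s' * t') (mul_mem s.2 t.2)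
        rw [map_mul] at e3
        rw [map_mul, map_mul, map_mul, map_inv, map_inv, inv_eq_of_mul_eq_one_right e1,
          inv_eq_of_mul_eq_one_right e2, mul_assoc (σ s' * σ t')]
        exact e3
      · show α.toHomUnits (s' * t' * s'⁻¹ * t'⁻¹) = 1
        rw [map_mul, map_mul, map_mul, map_inv, map_inv, mul_right_comm, mul_inv_cancel_right,
          mul_inv_cancel]
    have h2 : (s : G) * t * (s : G)⁻¹ * (t : G)⁻¹ = 1 :=
      hTP _ (mul_mem (mul_mem (mul_mem s.2 t.2) (inv_mem s.2)) (inv_mem t.2)) (hkerP _ h0)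
    show (s : G) * t = t * s
    calc (s : G) * t = ((s : G) * t * (s : G)⁻¹ * (t : G)⁻¹) * (t * s) := by group
      _ = t * s := by rw [h2, one_mul]
  by_cases hker : ∃ i : N, (i : G) ∈ (T : Subgroup G) ∧ σ i = 1 ∧ (i : G) ≠ 1
  · -- an involution fixing every block is central in the normalizer of T
    obtain ⟨i₀, hi₀T, hi₀σ, hi₀⟩ := hker
    obtain ⟨k, hk⟩ := IsPGroup.iff_orderOf.mp T.isPGroup' ⟨(i₀ : G), hi₀T⟩
    rw [Subgroup.orderOf_mk] at hk
    rcases k with _ | k
    · exact hi₀ (orderOf_eq_one_iff.mp (by rw [hk, pow_zero]))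
    set i : N := i₀ ^ 2 ^ k with hidef
    have hiT : (i : G) ∈ (T : Subgroup G) := by rw [hidef, Subgroup.coe_pow]; exact pow_mem hi₀T _
    have hiσ : σ i = 1 := by rw [hidef, map_pow, hi₀σ, one_pow]
    have hi2 : (i : G) ^ 2 = 1 := by
      rw [hidef, Subgroup.coe_pow, ← pow_mul, ← pow_succ, ← hk, pow_orderOf_eq_one]
    have hine : (i : G) ≠ 1 := by
      rw [hidef, Subgroup.coe_pow]
      intro h
      have h1 := Nat.le_of_dvd (Nat.two_pow_pos k) (orderOf_dvd_of_pow_eq_one h)
      rw [hk, pow_succ] at h1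
      have := Nat.two_pow_pos k
      omega
    -- kernel involutions invert P
    have hunit : ∀ t : N, (t : G) ∈ (T : Subgroup G) → σ t = 1 → (t : G) ^ 2 = 1 → (t : G) ≠ 1 →
        aa t = -1 := by
      intro t ht hts ht2 htne
      have h2 : aa t * aa t = 1 := by
        show α t * α t = 1
        rw [← map_mul α]
        rw [show t * t = 1 from Subtype.ext (by rw [Subgroup.coe_mul, ← pow_two, ht2, Subgroup.coe_one]),
          map_one]
      refine (sq_eq_one_zmod5 _ h2).resolve_left fun e => htne (hTP _ ht (hkerP t ?_))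
      exact Prod.ext hts (Units.ext e)
    refine not_central_involution hS T (i : G) hiT hi2 hine fun g hg => ?_
    have hjT : g * i * g⁻¹ ∈ (T : Subgroup G) := (mem_normalizer_iff.mp hg _).mp hiT
    set j : N := ⟨g * i * g⁻¹, hTN hjT⟩ with hjdef
    have hj2 : (j : G) ^ 2 = 1 := by
      show (g * i * g⁻¹) ^ 2 = 1
      rw [conj_pow, hi2, mul_one, mul_inv_cancel]
    have hjne : (j : G) ≠ 1 := fun h => hine (conj_eq_one_iff.mp h)
    have hjσ : σ j = 1 := by
      by_contra hne
      -- `i` fixes a second point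
      have hone : ∀ q : Fin 4, (i : G) • E (some (q, 3 * (c i q).2)) = E (some (q, 3 * (c i q).2)) := by
        intro q
        rw [hkey, hunit i hiT hiσ hi2 hine, neg_one_fix, ← hσ, hiσ, Equiv.Perm.one_apply]
      have hall : ∀ q : Fin 4, g • E (some (q, 3 * (c i q).2)) = P := fun q =>
        hfix j hjT hne _ (by
          show (g * i * g⁻¹) • (g • _) = _
          rw [← mul_smul, inv_mul_cancel_right, mul_smul, hone])
      have h01 := (smul_left_cancel_iff g).mp ((hall 0).trans (hall 1).symm)
      exact absurd (congrArg Prod.fst (Option.some.inj (E.injective h01))) Fin.zero_ne_one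
    have hji : Ψ (j * i) = 1 := by
      refine Prod.ext (by show σ (j * i) = 1; rw [map_mul, hjσ, hiσ, one_mul]) (Units.ext ?_)
      show α (j * i) = 1
      rw [map_mul]
      show aa j * aa i = 1
      rw [hunit j hjT hjσ hj2 hjne, hunit i hiT hiσ hi2 hine]; exact neg_one_sq_zmod5
    have h1 : g * i * g⁻¹ * i = 1 := hTP _ (mul_mem hjT hiT) (hkerP _ hji)
    have hii : (i : G) * i = 1 := by rw [← pow_two]; exact hi2
    calc g * i = g * i * g⁻¹ * (i * i) * g := by rw [hii]; group
      _ = (g * i * g⁻¹ * i) * (i * g) := by group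
      _ = i * g := by rw [h1, one_mul]
  · -- the Sylow 2-subgroup is faithful on the blocks
    push Not at hker
    have hTfix : ∀ t ∈ (T : Subgroup G), t ≠ 1 → ∀ R : Sylow 5 G, t • R = R → R = P :=
      fun t ht hne => hfix ⟨t, hTN ht⟩ ht fun h => hne (hker ⟨t, hTN ht⟩ ht h)
    have hTexp : ∀ t ∈ (T : Subgroup G), t ^ 2 = 1 := by
      intro t ht
      refine hker (⟨t, hTN ht⟩ ^ 2) (by rw [Subgroup.coe_pow]; exact pow_mem ht 2) ?_
      rw [map_pow, pow_two]
      exact hT2 ⟨t, hTN ht⟩ ht
    -- the Sylow 2-subgroup has order 4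
    have hTle : Nat.card (T : Subgroup G) ≤ 4 := by
      let emb : ↥(T : Subgroup G) → {s : Equiv.Perm (Fin 4) // Equiv.Perm.sign s = 1 ∧ s * s = 1} :=
        fun t => ⟨σ ⟨t, hTN t.2⟩, heven _, hT2 _ t.2⟩
      have hinj : Function.Injective emb := by
        intro s t h
        have h' : σ ⟨s, hTN s.2⟩ = σ ⟨t, hTN t.2⟩ := congrArg Subtype.val h
        have := hker (⟨s, hTN s.2⟩ * (⟨t, hTN t.2⟩ : N)⁻¹) (mul_mem s.2 (inv_mem t.2))
          (by rw [map_mul, map_inv, h', mul_inv_cancel])
        exact Subtype.ext (mul_inv_eq_one.mp this)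
      refine (Nat.card_le_card_of_injective emb hinj).trans ?_
      rw [Nat.card_eq_fintype_card]
      decide
    have hTne : (T : Subgroup G) ≠ ⊥ := by
      intro hbot
      have hb : ¬ 2 ∣ Nat.card G := fun h => by
        have := T.dvd_card_of_dvd_card h
        rw [hbot, Subgroup.card_bot] at this
        omega
      -- an element of the normalizer acts nontrivially on P
      refine not_normalizer_le_centralizer P ?_ ?_ fun n hn' => ?_
      · intro e; have := hcard5 P; rw [e, Subgroup.card_bot] at this; omega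
      · intro e
        have : N = ⊤ := by rw [hNdef, e, normalizer_eq_top]
        rw [this, index_top] at hindex
        omega
      · have h4 : orderOf (α.toHomUnits ⟨n, hn'⟩) ∣ 4 := orderOf_dvd_of_pow_eq_one (unit_pow_four _)
        have h1 : orderOf (α.toHomUnits ⟨n, hn'⟩) = 1 := by
          refine Nat.eq_one_of_dvd_coprimes ?_ h4
            ((orderOf_map_dvd _ _).trans ((_root_.orderOf_dvd_natCard _).trans (card_subgroup_dvd_card N)))
          rw [show (4 : ℕ) = 2 ^ 2 by norm_num]
          exact ((Nat.Prime.coprime_iff_not_dvd Nat.prime_two).mpr hb).pow_left 2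
        have ha : aa ⟨n, hn'⟩ = 1 := congrArg Units.val (orderOf_eq_one_iff.mp h1)
        have hcm : Commute n z := by
          have := haa ⟨n, hn'⟩
          rw [ha, ZMod.val_one, pow_one] at this
          exact (mul_inv_eq_iff_eq_mul.mp this.symm)
        rw [mem_centralizer_iff]
        intro y hy
        obtain ⟨k, rfl⟩ := mem_zpowers_iff.mp (hPz ▸ hy)
        exact (hcm.zpow_right k).eq.symm
    have hTcard : Nat.card (T : Subgroup G) = 4 := by
      obtain ⟨k, hk⟩ := IsPGroup.iff_card.mp T.isPGroup'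
      rw [hk] at hTle ⊢
      rcases k with _ | _ | _ | k
      · exact absurd (card_eq_one.mp (by rw [hk, pow_zero])) hTne
      · exfalso
        obtain ⟨t, ht, htne⟩ := (T : Subgroup G).bot_or_exists_ne_one.resolve_left hTne
        have hall : ∀ y ∈ (T : Subgroup G), y = 1 ∨ y = t := by
          intro y hy
          obtain ⟨a, b, -, hab⟩ := Nat.card_eq_two_iff.mp (show Nat.card (T : Subgroup G) = 2 by rw [hk]; rfl)
          have hmem : ∀ u : (T : Subgroup G), u = a ∨ u = b := fun u => by
            have := hab ▸ Set.mem_univ u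
            simpa using this
          rcases hmem ⟨y, hy⟩ with h1 | h1 <;> rcases hmem ⟨t, ht⟩ with h2 | h2 <;>
            rcases hmem 1 with h3 | h3
          all_goals first
            | exact Or.inr (congrArg Subtype.val (h1.trans h2.symm))
            | exact Or.inl (congrArg Subtype.val (h1.trans h3.symm))
            | exact absurd (congrArg Subtype.val (h2.trans h3.symm)) htne
        refine not_central_involution hS T t ht (hTexp t ht) htne fun g hg => ?_
        rcases hall _ ((mem_normalizer_iff.mp hg t).mp ht) with h | h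
        · exact absurd (conj_eq_one_iff.mp h) htne
        · exact mul_inv_eq_iff_eq_mul.mp h
      · rfl
      · exfalso
        have := Nat.pow_le_pow_right (show 0 < 2 by norm_num) (show 3 ≤ k + 1 + 1 + 1 by omega)
        omega
    -- every involution fixes exactly one point
    have hinv : ∀ t : G, orderOf t = 2 → ∃ R : Sylow 5 G, t • R = R ∧ ∀ R', t • R' = R' → R' = R := by
      intro t ht
      obtain ⟨T', hT'⟩ := (isPGroup_zpowers (p := 2) (k := 1) (ht.trans (pow_one 2).symm)).exists_le_sylow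
      obtain ⟨g, hg⟩ := exists_smul_eq G T' T
      have htT : g * t * g⁻¹ ∈ (T : Subgroup G) := by
        rw [← hg, Sylow.coe_subgroup_smul]
        exact ⟨t, hT' (mem_zpowers t), rfl⟩
      have hne : g * t * g⁻¹ ≠ 1 := fun h => by
        rw [conj_eq_one_iff.mp h, orderOf_one] at ht; omega
      refine ⟨g⁻¹ • P, ?_, fun R' hR' => ?_⟩
      · rw [eq_inv_smul_iff, ← mul_smul, ← mul_smul, (hsm _).mpr (hTN htT)]
      · rw [eq_inv_smul_iff]
        refine hTfix _ htT hne _ ?_
        rw [← mul_smul, inv_mul_cancel_right, mul_smul, hR']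
    -- the order of N divides 60
    have hN60 : Nat.card N ∣ 60 := by
      have hkle : Ψ.ker.map N.subtype ≤ (P : Subgroup G) := by
        rintro _ ⟨n, hn', rfl⟩; exact hkerP n hn'
      have h1 : Nat.card Ψ.ker ∣ 5 := by
        rw [← card_map_of_injective N.subtype_injective]
        exact (card_dvd_of_le hkle).trans (hcard5 P).dvd
      let A : Subgroup (Equiv.Perm (Fin 4) × (ZMod 5)ˣ) := (alternatingGroup (Fin 4)).prod ⊤
      have h2 : Nat.card Ψ.range ∣ 48 := by
        have hle : Ψ.range ≤ A := by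
          rintro _ ⟨n, rfl⟩
          exact ⟨Equiv.Perm.mem_alternatingGroup.mpr (heven n), Subgroup.mem_top _⟩
        refine (card_dvd_of_le hle).trans ?_
        rw [show Nat.card A = Nat.card (alternatingGroup (Fin 4)) * Nat.card (⊤ : Subgroup (ZMod 5)ˣ)
          from (Nat.card_congr (Subgroup.prodEquiv _ _).toEquiv).trans (Nat.card_prod _ _),
          Subgroup.card_top, Nat.card_eq_fintype_card (α := (ZMod 5)ˣ), ZMod.card_units,
          nat_card_alternatingGroup, Nat.card_fin]
        rfl
      have h3 : Nat.card N ∣ 240 := by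
        rw [← card_mul_index Ψ.ker, index_ker]
        exact mul_dvd_mul h1 h2
      obtain ⟨m, hm⟩ := h3
      have h8 : ¬ 8 ∣ Nat.card N := by
        intro h8
        have h := (Nat.Prime.pow_dvd_iff_le_factorization Nat.prime_two Nat.card_pos.ne').mp
          (show 2 ^ 3 ∣ Nat.card G by rw [hcardG]; exact h8.mul_left _)
        have h' := Nat.pow_le_pow_right (show 0 < 2 by norm_num) h
        rw [← T.card_eq_multiplicity, hTcard] at h'
        omega
      have h16 : Nat.card N ∣ 240 := ⟨m, hm⟩
      have hcases : ∀ d : ℕ, d ∣ 240 → ¬ 8 ∣ d → d ∣ 60 := by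
        intro d hd h8'
        have : d ∈ Nat.divisors 240 := Nat.mem_divisors.mpr ⟨hd, by norm_num⟩
        revert this h8'
        have key : ∀ d ∈ Nat.divisors 240, ¬ 8 ∣ d → d ∣ 60 := by decide +kernel
        exact fun h8' this => key d this h8'
      exact hcases _ h16 h8
    -- the element of order 7
    have h7G : 7 ∣ Nat.card G := by rw [hcardG]; exact Dvd.dvd.mul_right (by norm_num) _
    obtain ⟨x, hx⟩ := exists_prime_orderOf_dvd_card' 7 h7G
    have hxfix : ∀ R : Sylow 5 G, x • R ≠ R := by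
      intro R hR
      obtain ⟨g, rfl⟩ := exists_smul_eq G P R
      have h1 : g⁻¹ * x * g ∈ N := (hsm _).mp (by rw [mul_smul, mul_smul, hR, inv_smul_smul])
      have h2 : orderOf (g⁻¹ * x * g) = 7 := by
        have e := (MulAut.conj g⁻¹).orderOf_eq x
        rw [MulAut.conj_apply, inv_inv] at e
        rw [e, hx]
      have := (h2 ▸ Subgroup.orderOf_dvd_natCard N h1).trans hN60
      omega
    set X := zpowers x with hX
    have hXcard : Nat.card X = 7 := by rw [Nat.card_zpowers, hx]
    have hG49 : ¬ 7 ^ 2 ∣ Nat.card G := by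
      intro h
      have h' := h.trans (hcardG ▸ mul_dvd_mul_left 21 hN60)
      norm_num at h'
    obtain ⟨U, hU⟩ := (isPGroup_zpowers (p := 7) (k := 1) (hx.trans (pow_one 7).symm)).exists_le_sylow
    have hUX : X = (U : Subgroup G) := by
      refine eq_of_le_of_card_ge hU ?_
      obtain ⟨k, hk⟩ := IsPGroup.iff_card.mp U.isPGroup'
      rw [hk, hXcard]
      rcases k with _ | _ | k
      · omega
      · rfl
      · exact absurd ((Nat.pow_dvd_pow 7 (by omega : 2 ≤ k + 1 + 1)).trans (hk ▸ card_subgroup_dvd_card _)) hG49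
    set M := normalizer (X : Set G) with hM
    have hCfix : ∀ u : G, Commute u x → ∀ R : Sylow 5 G,
        u • R = R → (∀ R', u • R' = R' → R' = R) → False := fun u hux R hR huniq =>
      hxfix R (huniq _ (by rw [← mul_smul, hux.eq, mul_smul, hR]))
    set Cx := centralizer (X : Set G) with hCx
    have hCM : Cx ≤ M := centralizer_le_normalizer _
    have hrel : Cx.relIndex M ∣ 6 := by
      have := relIndex_centralizer_dvd_totient X ⟨⟨x, mem_zpowers x⟩, fun y => by
        obtain ⟨k, hk⟩ := mem_zpowers_iff.mp y.2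
        exact ⟨k, Subtype.ext (by simpa using hk)⟩⟩
      rw [hXcard] at this
      exact this
    have hcomm : ∀ u ∈ Cx, Commute u x := fun u hu => (mem_centralizer_iff.mp hu x (mem_zpowers x)).symm
    have hM5 : ¬ 5 ∣ Nat.card M := by
      intro h5
      rw [← relIndex_bot_left, ← relIndex_mul_relIndex ⊥ Cx M bot_le hCM, relIndex_bot_left] at h5
      rcases (Nat.Prime.dvd_mul (by norm_num)).mp h5 with h5 | h5
      · obtain ⟨⟨y, hyC⟩, hy⟩ := exists_prime_orderOf_dvd_card' 5 h5
        rw [Subgroup.orderOf_mk] at hy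
        obtain ⟨Q, hQ⟩ := (isPGroup_zpowers (p := 5) (k := 1) (hy.trans (pow_one 5).symm)).exists_le_sylow
        have hQy : zpowers y = (Q : Subgroup G) :=
          eq_of_le_of_card_ge hQ (by rw [Nat.card_zpowers, hy, hcard5 Q])
        refine hCfix y (hcomm y hyC) Q
          (Sylow.smul_eq_iff_mem_normalizer.mpr (le_normalizer (hQ (mem_zpowers y)))) fun R' hR' => ?_
        refine (eq_of_le_normalizer ?_).symm
        rw [← hQy, zpowers_le]
        exact Sylow.smul_eq_iff_mem_normalizer.mp hR'
      · have := h5.trans hrel; omega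
    have hM4 : ¬ 4 ∣ Nat.card M := by
      intro h4
      rw [← relIndex_bot_left, ← relIndex_mul_relIndex ⊥ Cx M bot_le hCM, relIndex_bot_left] at h4
      have hodd : ¬ 2 ∣ Nat.card Cx := fun h2 => by
        obtain ⟨⟨u, huC⟩, hu⟩ := exists_prime_orderOf_dvd_card' 2 h2
        rw [Subgroup.orderOf_mk] at hu
        obtain ⟨R, hR, huniq⟩ := hinv u hu
        exact hCfix u (hcomm u huC) R hR huniq
      have h42 : (4 : ℕ).Coprime (Nat.card Cx) := by
        rw [show (4 : ℕ) = 2 ^ 2 by norm_num]
        exact ((Nat.Prime.coprime_iff_not_dvd Nat.prime_two).mpr hodd).pow_left 2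
      have := (h42.dvd_of_dvd_mul_left h4).trans hrel
      omega
    have hn7 : M.index % 7 = 1 := by
      have h := card_sylow_modEq_one 7 G
      rw [U.card_eq_index_normalizer, ← Sylow.coe_coe, ← hUX] at h
      exact h
    have hMcard : Nat.card M * M.index = 21 * Nat.card N := by rw [card_mul_index, hcardG]
    have h7M : 7 ∣ Nat.card M := hXcard ▸ card_dvd_of_le le_normalizer
    have h5N : 5 ∣ Nat.card N := hcard5 P ▸ card_dvd_of_le le_normalizer
    have hG4 : 4 ∣ Nat.card N := by
      have h := card_dvd_of_le hTN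
      rwa [hTcard] at h
    obtain ⟨a, ha⟩ := h7M
    have h180 : M.index ∣ 180 := by
      refine dvd_trans ⟨a, ?_⟩ (mul_dvd_mul_left 3 hN60)
      rw [ha, mul_assoc, show 21 * Nat.card N = 7 * (3 * Nat.card N) by ring] at hMcard
      rw [← Nat.eq_of_mul_eq_mul_left (by norm_num) hMcard, mul_comm]
    have h5 : 5 ∣ M.index :=
      ((Nat.Prime.dvd_mul (by norm_num)).mp (hMcard ▸ h5N.mul_left 21)).resolve_left hM5
    have h2 : 2 ∣ M.index := by
      by_contra h2
      refine hM4 (Nat.Coprime.dvd_of_dvd_mul_right ?_ (hMcard ▸ hG4.mul_left 21))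
      rw [show (4 : ℕ) = 2 ^ 2 by norm_num]
      exact ((Nat.Prime.coprime_iff_not_dvd Nat.prime_two).mpr h2).pow_left 2
    have key : ∀ d ∈ Nat.divisors 180, d % 7 = 1 → 5 ∣ d → 2 ∣ d → False := by decide +kernel
    exact key _ (Nat.mem_divisors.mpr ⟨h180, by norm_num⟩) hn7 h5 h2

/-- No finite group has 21 Sylow 5-subgroups. -/
theorem ne_twentyone : ∀ (n : ℕ) {G : Type*} [Group G] [Finite G], Nat.card G = n →
    Nat.card (Sylow 5 G) ≠ 21 := by
  intro n
  induction n using Nat.strong_induction_on with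
  | _ n ih =>
  intro G _ _ hG hn
  classical
  haveI : Fact (Nat.Prime 5) := ⟨by norm_num⟩
  obtain ⟨P⟩ : Nonempty (Sylow 5 G) := inferInstance
  set H := normalizer ((P : Subgroup G) : Set G) with hH
  have hHi : H.index = 21 := by rw [← hn, Formula.card_sylow_eq_index P]
  have hlt : ∀ K : Subgroup G, K ≠ ⊤ → Nat.card K < n := fun K hK => hG ▸
    lt_of_le_of_ne (Subgroup.card_le_card_group _) fun h => hK (Subgroup.eq_top_of_card_eq _ h)
  have hquot : ∀ K : Subgroup G, K.Normal → K ≠ ⊥ → H.relIndex K = 21 := by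
    intro K hK hne
    have h1 := Formula.card_sylow_mul K P
    rw [hn, ← hH] at h1
    have h2 : H.relIndex K % 5 = 1 := by
      rw [← Formula.card_sylow_sup K P]
      exact card_sylow_modEq_one 5 _
    have hd : H.relIndex K ∈ Nat.divisors 21 :=
      Nat.mem_divisors.mpr ⟨⟨_, h1.trans (mul_comm _ _)⟩, by norm_num⟩
    have key : ∀ d ∈ Nat.divisors 21, d % 5 = 1 → d = 1 ∨ d = 21 := by decide
    refine (key _ hd h2).resolve_left fun e => ?_
    rw [e, mul_one] at h1
    refine ih (Nat.card (G ⧸ K)) ?_ rfl h1.symm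
    rw [← hG, K.card_eq_card_quotient_mul_card_subgroup]
    exact (Nat.lt_mul_iff_one_lt_right Nat.card_pos).mpr (K.one_lt_card_iff_ne_bot.mpr hne)
  haveI hne : Nontrivial G := by
    by_contra h
    rw [not_nontrivial_iff_subsingleton] at h
    have : H = ⊤ := Subsingleton.elim _ _
    rw [this, index_top] at hHi
    omega
  haveI hsimple : IsSimpleGroup G := by
    refine { eq_bot_or_eq_top_of_normal := ?_ }
    intro K hK
    by_contra hcon
    rw [not_or] at hcon
    obtain ⟨hbot, htop⟩ := hcon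
    have hr := hquot K hK hbot
    have hPK : (P : Subgroup G) ⊔ K = ⊤ := by
      by_contra h
      refine ih _ (hlt _ h) rfl ?_
      rw [Formula.card_sylow_sup K P, ← hH, hr]
    have hK5 : ¬ 5 ∣ Nat.card K := by
      set R := (P : Subgroup G) ⊓ K with hR
      have hnK : Nat.card (Sylow 5 K) = (normalizer (R : Set G)).relIndex K := by
        rw [Formula.card_sylow_eq_index (sylowInf P K), coe_sylowInf, ← inf_subgroupOf_right,
          ← subgroupOf_normalizer_eq inf_le_right]
        rfl
      have hle : H ≤ normalizer (R : Set G) := by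
        intro h hh
        rw [mem_normalizer_iff]
        intro a
        simp only [hR, Subgroup.mem_inf]
        rw [← mem_normalizer_iff.mp hh a]
        refine and_congr_right fun _ => ⟨fun h1 => hK.conj_mem a h1 h, fun h1 => ?_⟩
        simpa [mul_assoc] using hK.conj_mem' _ h1 h
      have hd : (normalizer (R : Set G)).relIndex K ∣ 21 := hr ▸ relIndex_dvd_of_le_left K hle
      have key : ∀ d ∈ Nat.divisors 21, d % 5 = 1 → d = 1 ∨ d = 21 := by decide
      rcases key _ (Nat.mem_divisors.mpr ⟨hd, by norm_num⟩)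
        (by rw [← hnK]; exact card_sylow_modEq_one 5 _) with h | h
      · have hKR : K ≤ normalizer (R : Set G) := relIndex_eq_one.mp h
        have hRn : R.Normal := normalizer_eq_top_iff.mp
          (top_le_iff.mp (hPK ▸ sup_le (le_normalizer.trans hle) hKR))
        have hRb : R = ⊥ := by
          by_contra hne
          have h21 := hquot R hRn hne
          rw [relIndex_eq_one.mpr ((inf_le_left : R ≤ (P : Subgroup G)).trans le_normalizer)] at h21
          omega
        intro hd5
        have h1 := (sylowInf P K).dvd_card_of_dvd_card hd5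
        rw [coe_sylowInf, ← inf_subgroupOf_right, ← hR, hRb, bot_subgroupOf, Subgroup.card_bot] at h1
        omega
      · exact absurd (hnK.trans h) (ih _ (hlt K htop) rfl)
    haveI : Fact (Nat.Prime 3) := ⟨Nat.prime_three⟩
    obtain ⟨S⟩ : Nonempty (Sylow 3 K) := inferInstance
    set S' : Subgroup G := (S : Subgroup K).map K.subtype with hS'
    have hfr : normalizer (S' : Set G) ⊔ K = ⊤ := S.normalizer_sup_eq_top
    have hidx : ¬ 5 ∣ (normalizer (S' : Set G)).index := by
      intro h
      rw [← relIndex_top_right, ← hfr, relIndex_sup_of_normal] at h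
      exact hK5 (h.trans (relIndex_dvd_card ..))
    obtain ⟨Q, hQ⟩ := exists_sylow_le _ hidx
    have hSK : S' ≤ K := Subgroup.map_subtype_le _
    obtain ⟨g, hg⟩ := exists_smul_eq G Q P
    set W : Subgroup G := MulAut.conj g • S' with hW
    have hWK : W ≤ K := by
      rintro a ⟨t, ht, rfl⟩
      exact hK.conj_mem t (hSK ht) g
    have hPW : (P : Subgroup G) ≤ normalizer (W : Set G) := by
      rw [← hg, Sylow.coe_subgroup_smul]
      rintro a ⟨q, hq, rfl⟩
      rw [mem_normalizer_iff]
      intro t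
      rw [hW, Subgroup.mem_pointwise_smul_iff_inv_smul_mem, Subgroup.mem_pointwise_smul_iff_inv_smul_mem,
        ← map_inv, MulAut.smul_def, MulAut.smul_def, MulAut.conj_apply, MulAut.conj_apply, inv_inv]
      rw [mem_normalizer_iff.mp (hQ hq)]
      simp [mul_assoc]
    set L := (P : Subgroup G) ⊔ W with hL
    have hmod := relIndex_normalizer_modEq_one P (le_sup_left : (P : Subgroup G) ≤ L)
    have hset : (L : Set G) = (W : Set G) * (P : Subgroup G) := by
      rw [hL, sup_comm, coe_mul_of_right_le_normalizer_left W (P : Subgroup G) hPW]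
    have horb : H.relIndex L = H.relIndex W := by
      rw [← card_orbit_sylow, ← card_orbit_sylow]
      refine congrArg (fun s : Set (Sylow 5 G) => Nat.card s) (Set.ext fun T => ⟨?_, ?_⟩)
      · rintro ⟨⟨m, hm⟩, rfl⟩
        obtain ⟨w, hw, u, hu, rfl⟩ : m ∈ (W : Set G) * (P : Subgroup G) := hset ▸ hm
        refine ⟨⟨w, hw⟩, ?_⟩
        change w • P = (w * u) • P
        rw [mul_smul, Sylow.smul_eq_iff_mem_normalizer.mpr (le_normalizer hu)]
      · rintro ⟨⟨w, hw⟩, rfl⟩
        exact ⟨⟨w, mem_sup_right hw⟩, rfl⟩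
    rw [← hH, horb] at hmod
    have hWcard : Nat.card W = Nat.card S' :=
      Nat.card_congr (Subgroup.equivSMul (MulAut.conj g) S').toEquiv.symm
    have hS'card : Nat.card S' = Nat.card S := card_map_of_injective K.subtype_injective
    have hSpow := S.card_eq_multiplicity
    obtain ⟨i, -, hi⟩ := (Nat.dvd_prime_pow Nat.prime_three).mp
      ((relIndex_dvd_card H W).trans (hWcard.trans (hS'card.trans hSpow)).dvd)
    have hi21 : H.relIndex W ≤ 21 := by
      have := relIndex_le_of_le_right (H := H) (le_top : W ≤ ⊤) Subgroup.index_ne_zero_of_finite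
      rwa [relIndex_top_right, hHi] at this
    have hi0 : i = 0 := by
      rcases i with _ | _ | _ | i
      · rfl
      · rw [hi] at hmod; norm_num at hmod
      · rw [hi] at hmod; norm_num at hmod
      · rw [hi] at hi21
        have := Nat.pow_le_pow_right (show 0 < 3 by norm_num) (show 3 ≤ i + 1 + 1 + 1 by omega)
        omega
    rw [hi0, pow_zero, relIndex_eq_one] at hi
    -- `W` normalizes `P`, but 3 divides the index
    have h1 := relIndex_mul_relIndex ⊥ (H ⊓ K) K bot_le inf_le_right
    rw [relIndex_bot_left, relIndex_bot_left, inf_relIndex_right, hr] at h1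
    have h2 : 3 ^ (Nat.card K).factorization 3 ∣ Nat.card (H ⊓ K : Subgroup G) := by
      rw [← hSpow, ← hS'card, ← hWcard]
      exact card_dvd_of_le (le_inf hi hWK)
    have h3 : 3 ^ ((Nat.card K).factorization 3 + 1) ∣ Nat.card K := by
      have h4 := mul_dvd_mul h2 (show 3 ∣ 21 by norm_num)
      rw [h1] at h4
      rwa [pow_succ]
    exact Nat.not_succ_le_self _ ((Nat.Prime.pow_dvd_iff_le_factorization Nat.prime_three
      Nat.card_pos.ne').mp h3)
  refine simple_case (fun hc => ?_) hn
  haveI := hc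
  have : H = ⊤ := normalizer_eq_top_iff.mpr inferInstance
  rw [this, index_top] at hHi
  omega

end Cfsg.Agent.Lib.SylowNumbers.TwentyOne
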