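import Mathlib.Data.ZMod.Basic
import Mathlib.Algebra.Group.Prod
import Mathlib.GroupTheory.PGroup
import Mathlib.Tactic.Ring
import Mathlib.Algebra.Field.ZMod

/-!
The semilinear affine group of degree one over the field with nine elements, given by explicit coordinates.
-/

set_option autoImplicit false

namespace Cfsg.Agent.Lib.SylowNumbers.AGammaL9

/-- The nine element field as pairs `a + b i`. -/
abbrev V : Type := ZMod 3 × ZMod 3

/-- powers of the generator `1 + i` of the multiplicative group -/
def tab (k : ZMod 8) : V :=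
  match k.val with
  | 0 => (1, 0)
  | 1 => (1, 1)
  | 2 => (0, 2)
  | 3 => (1 * 0 + 1, 2)
  | 4 => (2, 0)
  | 5 => (2, 2)
  | 6 => (0, 1)
  | _ => (2, 1)

/-- multiplication in the field -/
def fmul (a b : V) : V := (a.1 * b.1 - a.2 * b.2, a.1 * b.2 + a.2 * b.1)

/-- the Frobenius, if `s` holds -/
def frob (s : Bool) (a : V) : V := if s then (a.1, -a.2) else a

/-- the exponent twist -/
def tw (s : Bool) (k : ZMod 8) : ZMod 8 := if s then 3 * k else k

/-- the linear action -/
def act (k : ZMod 8) (s : Bool) (w : V) : V := fmul (tab k) (frob s w)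

/-- affine semilinear maps `w ↦ tab k * frob s w + v` -/
@[ext] structure El where
  v : V
  k : ZMod 8
  s : Bool
deriving DecidableEq

theorem act_add (k : ZMod 8) (s : Bool) (a b : V) : act k s (a + b) = act k s a + act k s b := by
  cases s <;> simp [act, frob, fmul] <;> constructor <;> ring

theorem act_zero (k : ZMod 8) (s : Bool) : act k s 0 = 0 := by
  cases s <;> simp [act, frob, fmul]

theorem act_one : ∀ w : V, act 0 false w = w := by decide

theorem tab_hom : ∀ (k l : ZMod 8) (s : Bool),
    fmul (tab k) (frob s (tab l)) = tab (k + tw s l) := by decide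

theorem fmul_assoc (a b c : V) : fmul (fmul a b) c = fmul a (fmul b c) := by
  simp [fmul]; constructor <;> ring

theorem frob_fmul (s : Bool) (a b : V) : frob s (fmul a b) = fmul (frob s a) (frob s b) := by
  cases s <;> simp [frob, fmul] <;> ring

theorem frob_frob (s t : Bool) (a : V) : frob s (frob t a) = frob (xor s t) a := by
  cases s <;> cases t <;> simp [frob]

theorem act_act (k l : ZMod 8) (s t : Bool) (w : V) :
    act k s (act l t w) = act (k + tw s l) (xor s t) w := by
  rw [act, act, act, frob_fmul, ← fmul_assoc, tab_hom, frob_frob]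

theorem tw_add (s : Bool) (k l : ZMod 8) : tw s (k + l) = tw s k + tw s l := by
  cases s <;> simp [tw] <;> ring

theorem tw_tw : ∀ (s t : Bool) (l : ZMod 8), tw s (tw t l) = tw (xor s t) l := by decide

instance : One El := ⟨⟨0, 0, false⟩⟩
instance : Mul El := ⟨fun g h => ⟨g.v + act g.k g.s h.v, g.k + tw g.s h.k, xor g.s h.s⟩⟩
instance : Inv El := ⟨fun g => ⟨-act (-tw g.s g.k) g.s g.v, -tw g.s g.k, g.s⟩⟩

theorem mul_def (g h : El) :
    g * h = ⟨g.v + act g.k g.s h.v, g.k + tw g.s h.k, xor g.s h.s⟩ := rfl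

theorem one_def : (1 : El) = ⟨0, 0, false⟩ := rfl

theorem inv_def (g : El) : g⁻¹ = ⟨-act (-tw g.s g.k) g.s g.v, -tw g.s g.k, g.s⟩ := rfl

theorem inv_mul : ∀ (s : Bool) (k : ZMod 8), -tw s k + tw s k = 0 ∧ xor s s = false := by decide

instance : Group El where
  mul_assoc g h l := by
    ext1
    · rw [mul_def, mul_def, mul_def, mul_def]
      simp only
      rw [act_add, act_act, add_assoc]
    · rw [mul_def, mul_def, mul_def, mul_def]
      simp only
      rw [tw_add, tw_tw, add_assoc]
    · rw [mul_def, mul_def, mul_def, mul_def]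
      simp
  one_mul g := by
    rw [mul_def, one_def]
    ext1 <;> simp [act_one, tw]
  mul_one g := by
    rw [mul_def, one_def]
    ext1
    · simp [act_zero]
    · cases g.s <;> simp [tw]
    · simp
  inv_mul_cancel g := by
    rw [mul_def, inv_def, one_def]
    ext1
    · simp only
      rw [neg_add_cancel]
    · simp only
      exact (inv_mul g.s g.k).1
    · simp

instance : Fintype El := Fintype.ofEquiv (V × ZMod 8 × Bool)
  ⟨fun x => ⟨x.1, x.2.1, x.2.2⟩, fun g => (g.v, g.k, g.s), fun _ => rfl, fun _ => rfl⟩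

theorem card_el : Nat.card El = 2 ^ 4 * 3 ^ 2 := by
  rw [Nat.card_congr (β := V × ZMod 8 × Bool)
    ⟨fun g => (g.v, g.k, g.s), fun x => ⟨x.1, x.2.1, x.2.2⟩, fun _ => rfl, fun _ => rfl⟩,
    Nat.card_prod, Nat.card_prod, Nat.card_prod, Nat.card_zmod, Nat.card_zmod,
    Nat.card_eq_fintype_card, Fintype.card_bool] <;> norm_num

/-- The Frobenius as a group element. -/
def phi : El := ⟨0, 0, true⟩

/-- The stabilizer of zero. -/
def stab : Subgroup El where
  carrier := {g | g.v = 0}
  one_mem' := rfl
  mul_mem' := fun {a b} (ha : a.v = 0) (hb : b.v = 0) => by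
    show (a * b).v = 0
    rw [mul_def]; simp [ha, hb, act_zero]
  inv_mem' := fun {a} (ha : a.v = 0) => by
    show (a⁻¹).v = 0
    rw [inv_def]; simp [ha, act_zero]

theorem isPGroup_stab : IsPGroup 2 stab := by
  refine IsPGroup.of_card (n := 4) ?_
  rw [Nat.card_congr (β := ZMod 8 × Bool)
    ⟨fun g => (g.1.k, g.1.s), fun x => ⟨⟨0, x.1, x.2⟩, rfl⟩,
      fun g => Subtype.ext (El.ext g.2.symm rfl rfl), fun _ => rfl⟩,
    Nat.card_prod, Nat.card_zmod, Nat.card_eq_fintype_card, Fintype.card_bool] <;> norm_num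

/-- The action of a linear part `(k, s)` on the translation `v`. -/
theorem exists_witness : ∀ (k : ZMod 8) (s : Bool) (v : V),
    (∃ w : V, v + act k s w = w) ∨ ∃ w : V, ∃ j : ZMod 8,
      act j false (w + v - act k s w) = frob true (act j false (w + v - act k s w)) ∧
      j + k - tw s j = tw true (j + k - tw s j) := by decide

theorem conj_eq (g : El) (w : V) (j : ZMod 8) :
    (⟨0, j, false⟩ * ⟨w, 0, false⟩ : El) * g =
      ⟨act j false (w + g.v - act g.k g.s w), j + g.k - tw g.s j, g.s⟩ *
        (⟨0, j, false⟩ * ⟨w, 0, false⟩) := by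
  have hc : (⟨0, j, false⟩ * ⟨w, 0, false⟩ : El) = ⟨act j false w, j, false⟩ := by
    rw [mul_def]; ext1 <;> simp [tw]
  rw [hc, mul_def, mul_def]
  ext1
  · simp only
    have h1 : act (j + g.k - tw g.s j) g.s (act j false w) = act j false (act g.k g.s w) := by
      rw [act_act, act_act, Bool.xor_false, Bool.false_xor]
      simp [tw]
    rw [h1, ← act_add, ← act_add, sub_add_cancel]
  · simp [tw]
  · simp

end Cfsg.Agent.Lib.SylowNumbers.AGammaL9
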