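import Cfsg.Agent.Lib.SylowNumbers.SimpleAux
import Mathlib.Tactic.NormNum.Prime

/-!
No permutation group of degree 7 has order 35, 112, 280 or 560.
-/

set_option autoImplicit false
set_option linter.unusedSectionVars false
set_option linter.style.haveILetI false

namespace Cfsg.Agent.Lib.SylowNumbers.DegreeSeven

open Subgroup MulAction
open Cfsg.Agent.Lib.SylowNumbers.Actions
open Cfsg.Agent.Lib.SylowNumbers.SimpleAux
open scoped Pointwise

variable {X : Type*} [Fintype X] [DecidableEq X]

private local instance fact_seven : Fact (Nat.Prime 7) := ⟨by norm_num⟩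

theorem moves_all (hX : Fintype.card X = 7) {y : Equiv.Perm X} (hy : orderOf y = 7) (a : X) :
    y a ≠ a := by
  obtain ⟨n, hn⟩ := Equiv.Perm.cycleType_prime_order (σ := y) (by rw [hy]; norm_num)
  rw [hy] at hn
  have h1 := Equiv.Perm.sum_cycleType y
  have h2 := y.support.card_le_univ
  rw [hn, Multiset.sum_replicate, smul_eq_mul] at h1
  have h3 : y.support = Finset.univ := by
    refine Finset.eq_univ_of_card _ ?_
    omega
  exact Equiv.Perm.mem_support.mp (h3 ▸ Finset.mem_univ a)

/-- The data of the Sylow 7-subgroups of a subgroup of `Perm X`, `|X| = 7`, of order `7 m`. -/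
theorem sylow_data (hX : Fintype.card X = 7) (B : Subgroup (Equiv.Perm X)) (m : ℕ)
    (hB : Nat.card B = 7 * m) (hm : ¬ 7 ∣ m) :
    ∃ q f : ℕ, q % 7 = 1 ∧ f ∣ 6 ∧ q * f = m ∧
      (f = 1 → ∃ K : Subgroup B, K.Normal ∧ Nat.card K = m ∧
        ∃ y : Equiv.Perm X, y ∈ B ∧ orderOf y = 7) := by
  obtain ⟨S⟩ : Nonempty (Sylow 7 B) := inferInstance
  have hS : Nat.card (S : Subgroup B) = 7 := by
    rw [S.card_eq_multiplicity, hB, Nat.factorization_mul (by norm_num) (by intro h; exact hm (h ▸ dvd_zero 7))]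
    rw [Finsupp.add_apply, Nat.Prime.factorization_self (by norm_num),
      Nat.factorization_eq_zero_of_not_dvd hm, pow_one]
  haveI hcyc : IsCyclic (S : Subgroup B) := isCyclic_of_prime_card hS
  obtain ⟨⟨⟨y, hyB⟩, hyS⟩, hgen⟩ := hcyc.exists_generator
  have hy : orderOf y = 7 := by
    have := orderOf_eq_card_of_forall_mem_zpowers hgen
    rw [hS, Subgroup.orderOf_mk, Subgroup.orderOf_mk] at this
    exact this
  have hSeq : (S : Subgroup B) = zpowers ⟨y, hyB⟩ := by
    ext z
    constructor
    · intro hz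
      obtain ⟨i, hi⟩ := mem_zpowers_iff.mp (hgen ⟨z, hz⟩)
      exact mem_zpowers_iff.mpr ⟨i, congrArg Subtype.val hi⟩
    · intro hz; exact zpowers_le.mpr hyS hz
  have hCp : IsPGroup 7 (centralizer ((S : Subgroup B) : Set B)) := by
    obtain ⟨k, hk⟩ : ∃ k, Nat.card (centralizer ((S : Subgroup B) : Set B)) = 7 ^ k := by
      refine ⟨_, Nat.eq_prime_pow_of_unique_prime_dvd Nat.card_pos.ne' ?_⟩
      intro r hr hrd
      haveI : Fact r.Prime := ⟨hr⟩
      obtain ⟨⟨⟨v, hvB⟩, hvC⟩, hv⟩ := exists_prime_orderOf_dvd_card' r hrd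
      rw [Subgroup.orderOf_mk, Subgroup.orderOf_mk] at hv
      by_contra hne
      have hc : Commute v y :=
        (congrArg Subtype.val (mem_centralizer_iff.mp hvC _ hyS)).symm
      have hfix : ∀ a : X, (v ^ 7) • a = a := by
        intro a
        refine pow_smul_eq_of_mem_orbit hc (by rw [← hy]; exact pow_orderOf_eq_one y) ?_
        refine mem_orbit_of_commute hr hv (by norm_num) hy hc (moves_all hX hy a) ?_
        rw [Nat.card_eq_fintype_card, hX]
        have := hr.two_le
        omega
      have : v ^ 7 = 1 := Equiv.ext hfix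
      have := orderOf_dvd_of_pow_eq_one this
      rw [hv] at this
      exact hne ((Nat.prime_dvd_prime_iff_eq hr (by norm_num)).mp this)
    exact IsPGroup.of_card hk
  have hSC : (S : Subgroup B) = centralizer ((S : Subgroup B) : Set B) := by
    haveI : IsMulCommutative (S : Subgroup B) := ⟨⟨fun a b => by
      letI := IsCyclic.commGroup (α := (S : Subgroup B)); exact mul_comm a b⟩⟩
    exact (S.is_maximal' hCp (le_centralizer _)).symm
  set N := normalizer ((S : Subgroup B) : Set B) with hN
  set f := (centralizer ((S : Subgroup B) : Set B)).relIndex N with hf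
  have hf6 : f ∣ 6 := by
    have := relIndex_centralizer_dvd_totient (S : Subgroup B) hcyc
    rwa [hS, Nat.totient_prime (by norm_num)] at this
  have hNcard : Nat.card N = 7 * f := by
    have h1 := relIndex_mul_relIndex ⊥ (S : Subgroup B) N bot_le le_normalizer
    rw [relIndex_bot_left, relIndex_bot_left, hS] at h1
    rw [← h1, hf, ← hSC]
  refine ⟨Nat.card (Sylow 7 B), f, ?_, hf6, ?_, ?_⟩
  · have := card_sylow_modEq_one 7 B
    exact this
  · have h1 := N.card_mul_index
    rw [hNcard, hB] at h1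
    rw [S.card_eq_index_normalizer]
    change N.index * f = m
    nlinarith
  · intro h1
    have hle : N ≤ centralizer ((S : Subgroup B) : Set B) := relIndex_eq_one.mp h1
    have hc := MonoidHom.ker_transferSylow_isComplement' S hle
    refine ⟨(MonoidHom.transferSylow S hle).ker, inferInstance, ?_, y, hyB, hy⟩
    have h2 := hc.card_mul
    rw [hS, hB] at h2
    omega

theorem card_ne_fiftysix (hX : Fintype.card X = 7) (B : Subgroup (Equiv.Perm X)) :
    Nat.card B ≠ 56 := by
  intro hB
  obtain ⟨q, f, hq, hf, hqf, hK⟩ := sylow_data hX B 8 (by omega) (by norm_num)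
  have hf1 : f = 1 := by
    have : f ∈ Nat.divisors 6 := Nat.mem_divisors.mpr ⟨hf, by norm_num⟩
    rw [show Nat.divisors 6 = {1, 2, 3, 6} by decide] at this
    simp only [Finset.mem_insert, Finset.mem_singleton] at this
    rcases this with rfl | rfl | rfl | rfl <;> omega
  obtain ⟨K, hKn, hKc, y, hyB, hy⟩ := hK hf1
  haveI : Fact (Nat.Prime 2) := ⟨Nat.prime_two⟩
  have hKp : IsPGroup 2 K := IsPGroup.of_card (n := 3) (by rw [hKc]; norm_num)
  obtain ⟨a, ha⟩ := hKp.nonempty_fixed_point_of_prime_not_dvd_card X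
    (by rw [Nat.card_eq_fintype_card, hX]; norm_num)
  haveI : Fact (Nat.Prime 7) := ⟨by norm_num⟩
  have horb := orbit_eq_univ_of_card (α := X) hy (by rw [Nat.card_eq_fintype_card, hX])
    (moves_all hX hy a)
  have : K = ⊥ := by
    refine (Subgroup.eq_bot_iff_forall K).mpr fun k hk => Subtype.ext (Equiv.ext fun b => ?_)
    obtain ⟨⟨w, hw⟩, hwb⟩ : b ∈ orbit (zpowers y) a := horb ▸ Set.mem_univ b
    have hwB : w ∈ B := zpowers_le.mpr hyB hw
    replace hwb : w a = b := hwb
    have hk' := hKn.conj_mem k hk (⟨w, hwB⟩⁻¹)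
    rw [inv_inv] at hk'
    have e : (w⁻¹ * (k : Equiv.Perm X) * w) a = a := ha ⟨_, hk'⟩
    change (k : Equiv.Perm X) b = b
    rw [← hwb]
    calc (k : Equiv.Perm X) (w a) = w ((w⁻¹ * (k : Equiv.Perm X) * w) a) := by
          simp [Equiv.Perm.mul_apply]
      _ = w a := by rw [e]
  rw [this, Subgroup.card_bot] at hKc
  omega

/-- No subgroup of the symmetric group of degree 7 has order 35, 112, 280 or 560. -/
theorem card_ne (hX : Fintype.card X = 7) (B : Subgroup (Equiv.Perm X)) :
    Nat.card B ≠ 35 ∧ Nat.card B ≠ 112 ∧ Nat.card B ≠ 280 ∧ Nat.card B ≠ 560 := by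
  have hdata : ∀ m, Nat.card B = 7 * m → ¬ 7 ∣ m → ∃ q f, q % 7 = 1 ∧ f ∣ 6 ∧ q * f = m := by
    intro m h1 h2
    obtain ⟨q, f, a, b, c, -⟩ := sylow_data hX B m h1 h2
    exact ⟨q, f, a, b, c⟩
  have hf : ∀ f : ℕ, f ∣ 6 → f = 1 ∨ f = 2 ∨ f = 3 ∨ f = 6 := by
    intro f h
    have : f ∈ Nat.divisors 6 := Nat.mem_divisors.mpr ⟨h, by norm_num⟩
    rw [show Nat.divisors 6 = {1, 2, 3, 6} by decide] at this
    simpa using this
  refine ⟨fun h => ?_, fun h => ?_, fun h => ?_, fun h => ?_⟩
  · obtain ⟨q, f, a, b, c⟩ := hdata 5 (by omega) (by norm_num)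
    rcases hf f b with rfl | rfl | rfl | rfl <;> omega
  · let g : B →* ℤˣ := Equiv.Perm.sign.comp B.subtype
    have hker : Nat.card g.ker * Nat.card g.range = 112 := by
      rw [← h, ← index_ker]; exact g.ker.card_mul_index
    have hrange : Nat.card g.range ≤ 2 := by
      refine (Subgroup.card_le_card_group _).trans ?_
      rw [Nat.card_eq_fintype_card, Fintype.card_units_int]
    have hA : Nat.card g.ker ∣ 2520 := by
      have hle : g.ker.map B.subtype ≤ alternatingGroup X := by
        rintro σ ⟨k, hk, rfl⟩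
        exact Equiv.Perm.mem_alternatingGroup.mpr hk
      haveI : Nontrivial X := Fintype.one_lt_card_iff_nontrivial.mp (by omega)
      have := card_dvd_of_le hle
      rw [Subgroup.card_map_of_injective B.subtype_injective, nat_card_alternatingGroup,
        Nat.card_eq_fintype_card (α := X), hX] at this
      exact this
    have h2 : Nat.card g.ker ≠ 112 := by
      intro e; rw [e] at hA; norm_num at hA
    have h56 : Nat.card g.ker = 56 := by
      interval_cases Nat.card g.range <;> omega
    refine card_ne_fiftysix hX (g.ker.map B.subtype) ?_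
    rw [Subgroup.card_map_of_injective B.subtype_injective, h56]
  · obtain ⟨q, f, a, b, c⟩ := hdata 40 (by omega) (by norm_num)
    rcases hf f b with rfl | rfl | rfl | rfl <;> omega
  · obtain ⟨q, f, a, b, c⟩ := hdata 80 (by omega) (by norm_num)
    rcases hf f b with rfl | rfl | rfl | rfl <;> omega

end Cfsg.Agent.Lib.SylowNumbers.DegreeSeven
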