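import Mathlib

/-!
The monomial Sylow `p`-subgroup `C_p wr C_p` of `GL_p(q)` when `p` exactly divides `q - 1`, and its
redundancy.
-/

set_option autoImplicit false
set_option linter.unusedSectionVars false
set_option linter.style.haveILetI false

namespace Cfsg.Agent.Lib.SylowNumbers.MonomialSylow

open Matrix

universe u

variable {F : Type u} [Field F] {p : ℕ} [hp : Fact p.Prime]

/-- The monomial matrix with entries `a` and column-to-row shift `k`. -/
def mono (a : Fin p → F) (k : Fin p) : Matrix (Fin p) (Fin p) F :=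
  fun i j => if i = j + k then a i else 0

theorem mono_mul (a b : Fin p → F) (k l : Fin p) :
    mono a k * mono b l = mono (fun i => a i * b (i - k)) (k + l) := by
  ext i j
  rw [Matrix.mul_apply, Finset.sum_eq_single (i - k)]
  · simp only [mono, sub_add_cancel, if_true]
    by_cases h : i = j + (k + l)
    · rw [if_pos h, if_pos (by rw [h]; abel)]
    · rw [if_neg h, if_neg (fun e => h (by rw [sub_eq_iff_eq_add] at e; rw [e]; abel)), mul_zero]
  · intro m _ hm
    simp only [mono]
    rw [if_neg (fun e => hm (by rw [e]; abel)), zero_mul]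
  · exact fun h => absurd (Finset.mem_univ _) h

theorem mono_mulVec (a : Fin p → F) (k : Fin p) (v : Fin p → F) (i : Fin p) :
    (mono a k *ᵥ v) (i + k) = a (i + k) * v i := by
  simp [Matrix.mulVec, dotProduct, mono, add_left_inj, Finset.sum_ite_eq]

theorem mono_one : mono (fun _ => (1 : F)) (0 : Fin p) = 1 := by
  ext i j
  simp [mono, Matrix.one_apply]

theorem exists_nsmul_eq {k : Fin p} (hk : k ≠ 0) (i : Fin p) : ∃ m : ℕ, m • k = i := by
  have h : i ∈ AddSubgroup.zmultiples k := by
    rw [zmultiples_eq_top_of_prime_card (p := p) (Nat.card_fin p) hk]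
    exact AddSubgroup.mem_top i
  exact (AddSubmonoid.mem_multiples_iff _ _).mp (mem_multiples_iff_mem_zmultiples.mpr h)

theorem card_nsmul (k : Fin p) : p • k = 0 := by
  have := card_nsmul_eq_zero' (G := Fin p) (x := k)
  rwa [Nat.card_fin] at this

theorem exists_omega [Fintype F] (h1 : p ∣ Fintype.card F - 1) :
    ∃ ω : F, IsPrimitiveRoot ω p := by
  classical
  have hd : p ∣ Nat.card Fˣ := by rwa [Nat.card_eq_fintype_card, Fintype.card_units]
  obtain ⟨w, hw⟩ := exists_prime_orderOf_dvd_card' p hd
  exact ⟨w, IsPrimitiveRoot.iff_orderOf.mpr (by rw [orderOf_units, hw])⟩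

variable (p F) in
/-- Monomial matrices whose shape is a power of the standard cycle and whose entries are `p`-th
roots of unity. -/
def monoGroup [Finite F] : Subgroup (GL (Fin p) F) where
  carrier := {g | ∃ a : Fin p → F, (∀ i, a i ^ p = 1) ∧ ∃ k : Fin p,
      (g : Matrix (Fin p) (Fin p) F) = mono a k}
  one_mem' := ⟨fun _ => 1, fun _ => one_pow p, 0, by rw [Units.val_one, mono_one]⟩
  mul_mem' := by
    rintro g h ⟨a, ha, k, hg⟩ ⟨b, hb, l, hh⟩
    exact ⟨fun i => a i * b (i - k), fun i => by rw [mul_pow, ha, hb, one_mul], k + l,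
      by rw [Units.val_mul, hg, hh, mono_mul]⟩
  inv_mem' := by
    intro g hg'
    have hpos := orderOf_pos g
    have e : g⁻¹ = g ^ (orderOf g - 1) := by
      rw [inv_eq_iff_mul_eq_one, ← pow_succ', Nat.sub_add_cancel hpos, pow_orderOf_eq_one]
    rw [e]
    generalize orderOf g - 1 = n
    induction n with
    | zero => exact ⟨fun _ => 1, fun _ => one_pow p, 0, by rw [pow_zero, Units.val_one, mono_one]⟩
    | succ n ih =>
      obtain ⟨a, ha, k, hg⟩ := ih
      obtain ⟨b, hb, l, hh⟩ := hg'
      exact ⟨fun i => a i * b (i - k), fun i => by rw [mul_pow, ha, hb, one_mul], k + l,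
        by rw [pow_succ, Units.val_mul, hg, hh, mono_mul]⟩

theorem mem_monoGroup [Finite F] {g : GL (Fin p) F} :
    g ∈ monoGroup F p ↔ ∃ a : Fin p → F, (∀ i, a i ^ p = 1) ∧ ∃ k : Fin p,
      (g : Matrix (Fin p) (Fin p) F) = mono a k := Iff.rfl

theorem ne_zero_of_root {x : F} (h : x ^ p = 1) : x ≠ 0 := fun e => by
  rw [e, zero_pow hp.out.ne_zero] at h
  exact zero_ne_one h

theorem det_mono_ne_zero {a : Fin p → F} (ha : ∀ i, a i ≠ 0) (k : Fin p) :
    (mono a k).det ≠ 0 := by
  have h : mono a k * mono (fun i => (a (i + k))⁻¹) (-k) = 1 := by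
    rw [mono_mul, add_neg_cancel, ← mono_one]
    congr 1
    funext i
    rw [sub_add_cancel, mul_inv_cancel₀ (ha i)]
  exact ((Matrix.isUnit_iff_isUnit_det _).mp (IsUnit.of_mul_eq_one _ h)).ne_zero

/-- A monomial group element from roots of unity. -/
noncomputable def monoGL {a : Fin p → F} (ha : ∀ i, a i ≠ 0) (k : Fin p) : GL (Fin p) F :=
  Matrix.GeneralLinearGroup.mkOfDetNeZero (mono a k) (det_mono_ne_zero ha k)

theorem coe_monoGL {a : Fin p → F} (ha : ∀ i, a i ≠ 0) (k : Fin p) :
    (monoGL ha k : Matrix (Fin p) (Fin p) F) = mono a k := rfl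

theorem mono_injective {a b : Fin p → F} (ha : ∀ i, a i ≠ 0) {k l : Fin p}
    (h : mono a k = mono b l) : a = b ∧ k = l := by
  have hkl : k = l := by
    have h0 := congrFun (congrFun h k) 0
    simp only [mono, zero_add, if_true] at h0
    by_contra hne
    rw [if_neg hne] at h0
    exact ha k h0
  refine ⟨funext fun i => ?_, hkl⟩
  subst hkl
  have h0 := congrFun (congrFun h i) (i - k)
  simpa [mono] using h0

theorem card_monoGroup [Fintype F] {ω : F} (hω : IsPrimitiveRoot ω p) :
    Nat.card (monoGroup F p) = p ^ (p + 1) := by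
  classical
  let R := {x : F // x ∈ Polynomial.nthRootsFinset p (1 : F)}
  have hR : ∀ x : R, (x : F) ^ p = 1 := fun x => (Polynomial.mem_nthRootsFinset hp.out.pos _).mp x.2
  let e : (Fin p → R) × Fin p → monoGroup F p := fun z =>
    ⟨monoGL (fun i => ne_zero_of_root (hR (z.1 i))) z.2, fun i => (z.1 i : F), fun i => hR _, z.2, rfl⟩
  have he : Function.Bijective e := by
    constructor
    · rintro ⟨a, k⟩ ⟨b, l⟩ h
      have h1 := congrArg (fun g : monoGroup F p => ((g : GL (Fin p) F) : Matrix (Fin p) (Fin p) F)) h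
      obtain ⟨hab, hkl⟩ := mono_injective (fun i => ne_zero_of_root (hR (a i))) h1
      exact Prod.ext (funext fun i => Subtype.ext (congrFun hab i)) hkl
    · rintro ⟨g, a, ha, k, hg⟩
      exact ⟨⟨fun i => ⟨a i, (Polynomial.mem_nthRootsFinset hp.out.pos _).mpr (ha i)⟩, k⟩,
        Subtype.ext (Units.ext hg.symm)⟩
  rw [← Nat.card_eq_of_bijective e he, Nat.card_eq_fintype_card]
  simp only [R, Fintype.card_prod, Fintype.card_fun, Fintype.card_fin, Fintype.card_coe]
  rw [hω.card_nthRootsFinset, pow_succ]

theorem factorization_card_GL [Fintype F] (hp2 : p ≠ 2) (h1 : p ∣ Fintype.card F - 1)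
    (h2 : ¬ p ^ 2 ∣ Fintype.card F - 1) :
    (Nat.card (GL (Fin p) F)).factorization p = p + 1 := by
  set q := Fintype.card F with hqdef
  have hp' : p.Prime := hp.out
  have hq : 1 < q := Fintype.one_lt_card
  have hpq : ¬ p ∣ q := fun hd => by
    have := (Nat.dvd_add_right h1).mp (by rwa [Nat.sub_add_cancel hq.le] : p ∣ q - 1 + 1)
    exact hp'.ne_one (Nat.dvd_one.mp this)
  have hv : padicValNat p (q - 1) = 1 := by
    refine le_antisymm ?_ (one_le_padicValNat_of_dvd (by omega) h1)
    by_contra h
    exact h2 (((padicValNat_dvd_iff_le (by omega)).mpr (Nat.succ_le_of_lt (not_le.mp h))))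
  have key : ∀ i : Fin p, (q ^ p - q ^ (i : ℕ)).factorization p = 1 + padicValNat p (p - (i : ℕ)) := by
    intro i
    have hi : p - (i : ℕ) ≠ 0 := by have := i.2; omega
    have hpos : q ^ (p - (i : ℕ)) - 1 ≠ 0 := by
      have := Nat.one_lt_pow hi hq; omega
    have e : q ^ p - q ^ (i : ℕ) = q ^ (i : ℕ) * (q ^ (p - (i : ℕ)) - 1) := by
      rw [Nat.mul_sub, mul_one, ← pow_add, Nat.add_sub_cancel' i.2.le]
    rw [e, Nat.factorization_mul (pow_ne_zero _ (by omega)) hpos, Finsupp.add_apply,
      Nat.factorization_pow, Finsupp.smul_apply, Nat.factorization_eq_zero_of_not_dvd hpq, smul_zero,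
      zero_add, Nat.factorization_def _ hp']
    have := padicValNat.pow_sub_pow (p := p) (hp1 := hp'.odd_of_ne_two hp2) (x := q) (y := 1)
      (by omega) h1 hpq hi
    rw [one_pow, hv] at this
    exact this
  rw [Matrix.card_GL_field, Nat.factorization_prod_apply (fun i _ => by
    have := Nat.pow_lt_pow_right hq i.2
    exact Nat.sub_ne_zero_of_lt (by simpa [hqdef] using this)), Finset.sum_congr rfl (fun i _ => key i),
    ← Finset.add_sum_erase _ _ (Finset.mem_univ (0 : Fin p))]
  simp only [Fin.val_zero, Nat.sub_zero, padicValNat_self]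
  rw [Finset.sum_congr rfl (g := fun _ => (1 : ℕ)) (fun i hi => ?_)]
  · rw [Finset.sum_const, smul_eq_mul, mul_one,
      Finset.card_erase_of_mem (Finset.mem_univ _), Finset.card_univ, Fintype.card_fin]
    have := hp'.one_lt
    omega
  · rw [Finset.mem_erase] at hi
    have hne : (i : ℕ) ≠ 0 := fun h => hi.1 (Fin.ext (by simpa using h))
    rw [padicValNat.eq_zero_of_not_dvd (fun hd => ?_)]
    have := Nat.le_of_dvd (by omega) hd
    omega

/-- An element mapping the group to itself is monomial. -/
theorem not_map_le [Finite F] (hp2 : p ≠ 2) {ω : F} (hω : IsPrimitiveRoot ω p) (g : GL (Fin p) F)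
    {j a₁ a₂ : Fin p} (ha : a₁ ≠ a₂) (h₁ : (g : Matrix (Fin p) (Fin p) F) a₁ j ≠ 0)
    (h₂ : (g : Matrix (Fin p) (Fin p) F) a₂ j ≠ 0) :
    ∃ t ∈ monoGroup F p, g * t * g⁻¹ ∉ monoGroup F p := by
  classical
  have hω1 : ω ≠ 1 := hω.ne_one hp.out.one_lt
  let d : Fin p → F := fun i => if i = j then ω else 1
  have hd : ∀ i, d i ^ p = 1 := fun i => by
    simp only [d]; split_ifs
    · exact hω.pow_eq_one
    · exact one_pow p
  refine ⟨monoGL (fun i => ne_zero_of_root (hd i)) 0, ⟨d, hd, 0, rfl⟩, ?_⟩
  rintro ⟨b, hb, l, hA⟩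
  set M := (g : Matrix (Fin p) (Fin p) F) with hM
  have hdet : M.det ≠ 0 := ((Matrix.isUnit_iff_isUnit_det M).mp g.isUnit).ne_zero
  have hcol : ∀ i c, (mono b l * M) i c = M i c * d c := by
    intro i c
    have e : mono b l * M = M * mono d 0 := by
      rw [← hA, hM, ← coe_monoGL (fun i => ne_zero_of_root (hd i)) 0, ← Units.val_mul,
        ← Units.val_mul, inv_mul_cancel_right]
    rw [e, Matrix.mul_apply, Finset.sum_eq_single c]
    · simp [mono]
    · intro m _ hm
      simp [mono, hm]
    · exact fun h => absurd (Finset.mem_univ _) h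
  have hrec : ∀ i c, b (i + l) * M i c = M (i + l) c * d c := by
    intro i c
    rw [← hcol (i + l) c, Matrix.mul_apply, Finset.sum_eq_single i]
    · simp [mono]
    · intro m _ hm
      simp [mono, Ne.symm hm]
    · exact fun h => absurd (Finset.mem_univ _) h
  have hdj : d j = ω := if_pos rfl
  by_cases hl : l = 0
  · subst hl
    simp only [add_zero] at hrec
    have hba : ∀ i, M i j ≠ 0 → ∀ c, c ≠ j → M i c = 0 := by
      intro i hi c hc
      have h := hrec i j
      rw [hdj, mul_comm] at h
      have hbi : b i = ω := mul_left_cancel₀ hi h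
      have h' := hrec i c
      rw [hbi, show d c = 1 from if_neg hc, mul_one] at h'
      by_contra hne
      exact hω1 ((mul_eq_right₀ hne).mp h')
    -- two rows supported on one column
    refine hdet (Matrix.exists_vecMul_eq_zero_iff.mp
      ⟨Pi.single a₁ (M a₂ j) - Pi.single a₂ (M a₁ j), ?_, ?_⟩)
    · intro e
      have := congrFun e a₁
      simp [Pi.single_eq_of_ne ha, h₂] at this
    · funext c
      rw [Matrix.sub_vecMul, Pi.sub_apply, Matrix.single_vecMul, Matrix.single_vecMul]
      simp only [Pi.smul_apply, smul_eq_mul, Pi.zero_apply, Matrix.row_apply]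
      by_cases hc : c = j
      · subst hc; ring
      · rw [hba a₁ h₁ c hc, hba a₂ h₂ c hc]; ring
  · -- two proportional columns
    obtain ⟨c₁, hc₁, c₂, hc₂, hcc⟩ : ∃ c₁, c₁ ≠ j ∧ ∃ c₂, c₂ ≠ j ∧ c₁ ≠ c₂ := by
      have h3 : 1 < (Finset.univ.erase j).card := by
        rw [Finset.card_erase_of_mem (Finset.mem_univ j), Finset.card_univ, Fintype.card_fin]
        have := hp.out.two_le
        omega
      obtain ⟨c₁, hc₁, c₂, hc₂, hne⟩ := Finset.one_lt_card.mp h3
      exact ⟨c₁, (Finset.mem_erase.mp hc₁).1, c₂, (Finset.mem_erase.mp hc₂).1, hne⟩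
    have hprop : ∀ c, c ≠ j → ∀ i, M (i + l) c = b (i + l) * M i c := fun c hc i => by
      rw [hrec i c, show d c = 1 from if_neg hc, mul_one]
    by_cases h0 : M 0 c₁ = 0
    · refine hdet (Matrix.det_eq_zero_of_column_eq_zero c₁ fun i => ?_)
      obtain ⟨m, rfl⟩ := exists_nsmul_eq hl i
      induction m with
      | zero => rwa [zero_nsmul]
      | succ m ih => rw [succ_nsmul, hprop c₁ hc₁, ih, mul_zero]
    · refine hdet (Matrix.exists_mulVec_eq_zero_iff.mp
        ⟨Pi.single c₁ (M 0 c₂) - Pi.single c₂ (M 0 c₁), ?_, ?_⟩)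
      · intro e
        have := congrFun e c₂
        simp [Pi.single_eq_of_ne (Ne.symm hcc), h0] at this
      · funext i
        simp only [Matrix.mulVec_sub, Matrix.mulVec_single, Pi.sub_apply, Pi.smul_apply,
          MulOpposite.smul_eq_mul_unop, MulOpposite.unop_op, Pi.zero_apply, Matrix.col_apply]
        obtain ⟨m, rfl⟩ := exists_nsmul_eq hl i
        induction m with
        | zero => rw [zero_nsmul]; ring
        | succ m ih =>
          rw [succ_nsmul, hprop c₁ hc₁, hprop c₂ hc₂]
          linear_combination (b (m • l + l)) * ih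

/-- Every element of the monomial Sylow subgroup lies in a conjugate moved off it. -/
theorem exists_conj [Fintype F] (hp2 : p ≠ 2) {ω : F} (hω : IsPrimitiveRoot ω p) {x : GL (Fin p) F}
    (hx : x ∈ monoGroup F p) :
    ∃ (g : GL (Fin p) F) (j a₁ a₂ : Fin p), a₁ ≠ a₂ ∧ (g : Matrix (Fin p) (Fin p) F) a₁ j ≠ 0 ∧
      (g : Matrix (Fin p) (Fin p) F) a₂ j ≠ 0 ∧ ∃ y ∈ monoGroup F p, x * g = g * y := by
  classical
  obtain ⟨a, ha, k, hxa⟩ := hx
  have hp1 : 1 < p := hp.out.one_lt
  by_cases hk : k = 0
  · subst hk
    by_cases hinj : Function.Injective a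
    · -- all roots occur once: diagonalise the cycle
      have h01 : (0 : Fin p) ≠ (1 : Fin p) := by
        intro e
        have := congrArg Fin.val e
        simp [Nat.mod_eq_of_lt hp1] at this
      refine ⟨Matrix.GeneralLinearGroup.mkOfDetNeZero (Matrix.vandermonde a)
        (Matrix.det_vandermonde_ne_zero_iff.mpr hinj), 0, 0, 1, h01, ?_, ?_,
        monoGL (fun _ => ne_zero_of_root (one_pow p : (1 : F) ^ p = 1)) 1,
        ⟨fun _ => 1, fun _ => one_pow p, 1, rfl⟩, ?_⟩
      · show Matrix.vandermonde a 0 0 ≠ 0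
        simp [Matrix.vandermonde]
      · show Matrix.vandermonde a 1 0 ≠ 0
        simp [Matrix.vandermonde]
      · apply Units.ext
        show (x : Matrix (Fin p) (Fin p) F) * Matrix.vandermonde a = Matrix.vandermonde a * mono _ 1
        rw [hxa]
        ext i c
        rw [Matrix.mul_apply, Matrix.mul_apply, Finset.sum_eq_single i, Finset.sum_eq_single (c + 1)]
        · simp only [mono, add_zero, if_true, mul_one, Matrix.vandermonde_apply]
          rw [Fin.val_add, Fin.val_one', Nat.mod_eq_of_lt hp1,
            ← pow_eq_pow_mod _ (ha i), pow_succ']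
        · intro m _ hm; simp [mono, hm]
        · exact fun h => absurd (Finset.mem_univ _) h
        · intro m _ hm; simp [mono, Ne.symm hm]
        · exact fun h => absurd (Finset.mem_univ _) h
    · -- a repeated entry: a transvection centralises
      obtain ⟨i₁, i₂, he, hne⟩ := Function.not_injective_iff.mp hinj
      let T : Matrix (Fin p) (Fin p) F := Matrix.transvection i₁ i₂ 1
      refine ⟨Matrix.GeneralLinearGroup.mkOfDetNeZero T
        (by rw [Matrix.det_transvection_of_ne _ _ hne]; exact one_ne_zero), i₂, i₁, i₂, hne, ?_, ?_,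
        x, ⟨a, ha, 0, hxa⟩, ?_⟩
      · show T i₁ i₂ ≠ 0
        simp [T, Matrix.transvection, Matrix.one_apply_ne hne]
      · show T i₂ i₂ ≠ 0
        simp [T, Matrix.transvection, hne]
      · apply Units.ext
        show (x : Matrix (Fin p) (Fin p) F) * T = T * (x : Matrix (Fin p) (Fin p) F)
        rw [hxa]
        have hdiag : mono a 0 = Matrix.diagonal a := by
          ext i c
          simp [mono, Matrix.diagonal_apply]
        rw [hdiag]
        ext i c
        rw [Matrix.diagonal_mul, Matrix.mul_diagonal]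
        by_cases hic : i = c
        · subst hic; exact mul_comm _ _
        · simp only [T, Matrix.transvection, Matrix.add_apply, Matrix.one_apply_ne hic, zero_add]
          by_cases h' : i₁ = i ∧ i₂ = c
          · obtain ⟨rfl, rfl⟩ := h'
            rw [Matrix.single_apply_same, mul_one, one_mul, he]
          · rw [Matrix.single_apply_of_ne i₁ i₂ (1 : F) i c h', mul_zero, zero_mul]
  · -- the shape is a cycle
    let c : ℕ → F := fun m => ∏ l ∈ Finset.range m, a ((l + 1) • k)
    have hne : k + 0 ≠ 0 := by rwa [add_zero]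
    by_cases hc : c p = 1
    · -- split cycle: eigenvector basis
      let v : Fin p → Fin p → F := fun j => ∑ m ∈ Finset.range p,
        Pi.single (m • k) ((ω ^ (j : ℕ)) ^ m * c m)
      let μ : Fin p → F := fun j => (ω ^ (j : ℕ))⁻¹
      have hω0 : ω ≠ 0 := hω.ne_zero hp.out.ne_zero
      have hμp : ∀ j, μ j ^ p = 1 := fun j => by
        rw [inv_pow, ← pow_mul, mul_comm, pow_mul, hω.pow_eq_one, one_pow, inv_one]
      have hstep : ∀ j, mono a k *ᵥ v j = μ j • v j := by
        intro j
        let f : ℕ → Fin p → F := fun m => Pi.single (m • k) ((ω ^ (j : ℕ)) ^ m * c m)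
        have hf : ∀ m, mono a k *ᵥ f m = μ j • f (m + 1) := by
          intro m
          funext i
          obtain ⟨i, rfl⟩ : ∃ i', i' + k = i := ⟨i - k, sub_add_cancel i k⟩
          rw [mono_mulVec, Pi.smul_apply, smul_eq_mul]
          by_cases hi : i = m • k
          · subst hi
            simp only [f, ← succ_nsmul, Pi.single_eq_same, c, Finset.prod_range_succ, μ]
            field_simp
            ring
          · simp only [f]
            rw [Pi.single_eq_of_ne hi, Pi.single_eq_of_ne (fun e => hi (by
              rw [succ_nsmul] at e; exact add_right_cancel e)), mul_zero, mul_zero]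
        have hf0 : f p = f 0 := by
          simp only [f, card_nsmul, zero_nsmul]
          rw [← pow_mul, mul_comm (j : ℕ), pow_mul, hω.pow_eq_one, one_pow, hc]
          simp [c]
        calc mono a k *ᵥ v j = ∑ m ∈ Finset.range p, μ j • f (m + 1) := by
              show mono a k *ᵥ (∑ m ∈ Finset.range p, f m) = _
              rw [Matrix.mulVec_sum]
              exact Finset.sum_congr rfl fun m _ => hf m
          _ = μ j • v j := by
              rw [← Finset.smul_sum]
              congr 1
              show _ = ∑ m ∈ Finset.range p, f m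
              have h1 := Finset.sum_range_succ f p
              have h2 := Finset.sum_range_succ' f p
              rw [h1, hf0] at h2
              exact (add_right_cancel h2).symm
      have hsmall : ∀ m, m ∈ Finset.range p → ∀ m', m' ∈ Finset.range p → m • k = m' • k → m = m' := by
        intro m hm m' hm' e
        have ho : addOrderOf k = p := addOrderOf_eq_prime (card_nsmul k) hk
        have := nsmul_injOn_Iio_addOrderOf (x := k) (by rw [ho]; exact Finset.mem_range.mp hm)
          (by rw [ho]; exact Finset.mem_range.mp hm') e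
        exact this
      have hentry : ∀ j, ∀ m ∈ Finset.range p, v j (m • k) = (ω ^ (j : ℕ)) ^ m * c m := by
        intro j m hm
        simp only [v, Finset.sum_apply]
        rw [Finset.sum_eq_single m]
        · exact Pi.single_eq_same _ _
        · intro m' hm' hmm
          exact Pi.single_eq_of_ne (fun e => hmm (hsmall m' hm' m hm e.symm)) _
        · exact fun h => absurd hm h
      have hv0 : ∀ j, v j 0 = 1 := fun j => by
        have := hentry j 0 (Finset.mem_range.mpr hp.out.pos)
        simpa [c] using this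
      let G : Matrix (Fin p) (Fin p) F := (Matrix.of v)ᵀ
      have hμinj : Function.Injective μ := fun i j h =>
        Fin.ext (hω.pow_inj i.2 j.2 (inv_injective h))
      have hli : LinearIndependent F v :=
        Module.End.eigenvectors_linearIndependent' (Matrix.mulVecLin (mono a k)) μ hμinj v fun j =>
          ⟨Module.End.mem_eigenspace_iff.mpr (hstep j), fun e => by
            have := congrFun e 0
            rw [hv0] at this
            exact one_ne_zero this⟩
      have hG : G.det ≠ 0 := by
        rw [Matrix.det_transpose]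
        exact ((Matrix.isUnit_iff_isUnit_det _).mp
          (Matrix.linearIndependent_rows_iff_isUnit.mp hli)).ne_zero
      refine ⟨Matrix.GeneralLinearGroup.mkOfDetNeZero G hG, 0, 0, k, Ne.symm hk, ?_, ?_,
        monoGL (fun j => ne_zero_of_root (hμp j)) 0, ⟨μ, hμp, 0, rfl⟩, ?_⟩
      · show v 0 0 ≠ 0
        rw [hv0]; exact one_ne_zero
      · show v 0 k ≠ 0
        have := hentry 0 1 (Finset.mem_range.mpr hp1)
        rw [one_nsmul] at this
        rw [this]
        simp [c, ne_zero_of_root (ha k)]
      · apply Units.ext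
        show (x : Matrix (Fin p) (Fin p) F) * G = G * mono μ 0
        rw [hxa]
        ext i j
        rw [Matrix.mul_apply]
        have := congrFun (hstep j) i
        rw [Pi.smul_apply, smul_eq_mul] at this
        rw [show ∑ m, mono a k i m * G m j = (mono a k *ᵥ v j) i from rfl, this, Matrix.mul_apply,
          Finset.sum_eq_single j]
        · simp [mono, G, mul_comm]
        · intro m _ hm; simp [mono, hm]
        · exact fun h => absurd (Finset.mem_univ _) h
    · -- irreducible: `1 + x` centralises
      let U : Matrix (Fin p) (Fin p) F := 1 + mono a k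
      have hcpow : c p ^ p = 1 := by
        rw [← Finset.prod_pow]
        exact Finset.prod_eq_one fun l _ => ha _
      have hU : U.det ≠ 0 := by
        intro h
        obtain ⟨v, hv, hUv⟩ := Matrix.exists_mulVec_eq_zero_iff.mpr h
        have hrec : ∀ i, v (i + k) = -(a (i + k) * v i) := fun i => by
          have h1 := congrFun hUv (i + k)
          simp only [U, Matrix.add_mulVec, Matrix.one_mulVec, Pi.add_apply, Pi.zero_apply,
            mono_mulVec] at h1
          linear_combination h1
        have hm : ∀ m, v (m • k) = (-1) ^ m * c m * v 0 := by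
          intro m
          induction m with
          | zero => simp [c]
          | succ m ih =>
            rw [succ_nsmul, hrec, ih]
            simp only [c, Finset.prod_range_succ, succ_nsmul, pow_succ]
            ring
        have h0 : v 0 ≠ 0 := fun e => hv (funext fun i => by
          obtain ⟨m, rfl⟩ := exists_nsmul_eq hk i
          rw [hm, e, mul_zero, Pi.zero_apply])
        have h1 := hm p
        have hodd := hp.out.odd_of_ne_two hp2
        rw [card_nsmul, hodd.neg_one_pow] at h1
        have h2 : c p = -1 := by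
          have : (-1 * c p - 1) * v 0 = 0 := by linear_combination -h1
          have := (mul_eq_zero.mp this).resolve_right h0
          linear_combination -this
        have h3 : (-1 : F) = 1 := by rw [← hodd.neg_one_pow, ← h2]; exact hcpow
        exact hc (h2.trans h3)
      refine ⟨Matrix.GeneralLinearGroup.mkOfDetNeZero U hU, 0, 0, k, Ne.symm hk, ?_, ?_,
        x, ⟨a, ha, k, hxa⟩, ?_⟩
      · show U 0 0 ≠ 0
        simp [U, mono, Ne.symm hk]
      · show U k 0 ≠ 0
        simp [U, mono, hk, ne_zero_of_root (ha k)]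
      · apply Units.ext
        show (x : Matrix (Fin p) (Fin p) F) * U = U * (x : Matrix (Fin p) (Fin p) F)
        rw [hxa]
        simp only [U, Matrix.mul_add, Matrix.add_mul, Matrix.mul_one, Matrix.one_mul]

/-- `GL_p(q)` has a redundant Sylow `p`-subgroup when `p` exactly divides `q - 1`. -/
theorem exists_redundant [Fintype F] (hp2 : p ≠ 2) (h1 : p ∣ Fintype.card F - 1)
    (h2 : ¬ p ^ 2 ∣ Fintype.card F - 1) :
    ∃ Q : Sylow p (GL (Fin p) F), ∀ x : GL (Fin p) F,
      (∃ k : ℕ, orderOf x = p ^ k) → ∃ P : Sylow p (GL (Fin p) F), P ≠ Q ∧ x ∈ P := by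
  classical
  obtain ⟨ω, hω⟩ := exists_omega h1
  let Q : Sylow p (GL (Fin p) F) := Sylow.ofCard (monoGroup F p)
    (by rw [card_monoGroup hω, factorization_card_GL hp2 h1 h2])
  have hQ : (Q : Subgroup (GL (Fin p) F)) = monoGroup F p := Sylow.coe_ofCard _ _
  refine ⟨Q, fun x ⟨n, hn⟩ => ?_⟩
  by_cases hxQ : x ∈ Q
  · obtain ⟨g, j, a₁, a₂, hne, hg1, hg2, y, hy, hxy⟩ := exists_conj hp2 hω
      (show x ∈ monoGroup F p by rw [← hQ]; exact hxQ)
    refine ⟨g • Q, fun e => ?_, ?_⟩
    · obtain ⟨t, ht, htn⟩ := not_map_le hp2 hω g hne hg1 hg2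
      refine htn ?_
      rw [← hQ, ← e, Sylow.coe_subgroup_smul]
      exact Subgroup.smul_mem_pointwise_smul t (MulAut.conj g) _ (hQ.symm ▸ ht)
    · show x ∈ ((g • Q : Sylow p (GL (Fin p) F)) : Subgroup (GL (Fin p) F))
      have e : x = g * y * g⁻¹ := eq_mul_inv_of_mul_eq hxy
      rw [Sylow.coe_subgroup_smul, e]
      exact Subgroup.smul_mem_pointwise_smul y (MulAut.conj g) _ (hQ.symm ▸ hy)
  · obtain ⟨P, hP⟩ := (IsPGroup.of_card (n := n) (by rw [Nat.card_zpowers, hn]) :
      IsPGroup p (Subgroup.zpowers x)).exists_le_sylow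
    exact ⟨P, fun e => hxQ (e ▸ hP (Subgroup.mem_zpowers x)), hP (Subgroup.mem_zpowers x)⟩

end Cfsg.Agent.Lib.SylowNumbers.MonomialSylow
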