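import Cfsg.Agent.Lib.SylowNumbers.Actions
import Mathlib.Data.Set.Card.Arithmetic

/-!
Sylow number 22 for the prime 3: basic facts about a simple group with this Sylow number, and
the impossibility of Sylow 3-subgroups of order greater than 3 there.
-/

set_option autoImplicit false
set_option linter.unusedSectionVars false
set_option linter.style.haveILetI false

namespace Cfsg.Agent.Lib.SylowNumbers.N22

open Subgroup MulAction
open Cfsg.Agent.Lib.SylowNumbers.Basic
open Cfsg.Agent.Lib.SylowNumbers.Actions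
open scoped Pointwise

variable {G : Type*} [Group G] [Finite G]

theorem index_normalizer (hn : Nat.card (Sylow 3 G) = 22) (P : Sylow 3 G) :
    (normalizer ((P : Subgroup G) : Set G)).index = 22 := by
  rw [← hn, P.card_eq_index_normalizer]; rfl

theorem eq_normalizer_or_top (hn : Nat.card (Sylow 3 G) = 22) (P : Sylow 3 G) (M : Subgroup G)
    (hM : normalizer ((P : Subgroup G) : Set G) ≤ M) :
    M = normalizer ((P : Subgroup G) : Set G) ∨ M = ⊤ := by
  have h1 := relIndex_normalizer_modEq_one P (le_normalizer.trans hM)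
  have h2 := relIndex_mul_index hM
  rw [index_normalizer hn P] at h2
  have hd : (normalizer ((P : Subgroup G) : Set G)).relIndex M ∣ 22 := ⟨_, h2.symm⟩
  have : (normalizer ((P : Subgroup G) : Set G)).relIndex M ∈ Nat.divisors 22 :=
    Nat.mem_divisors.mpr ⟨hd, by norm_num⟩
  rw [show Nat.divisors 22 = {1, 2, 11, 22} by decide] at this
  simp only [Finset.mem_insert, Finset.mem_singleton] at this
  rcases this with h | h | h | h
  · exact Or.inl (le_antisymm (relIndex_eq_one.mp h) hM)
  · omega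
  · omega
  · exact Or.inr (index_eq_one.mp (by rw [h] at h2; omega))

theorem not_normal_pgroup [IsSimpleGroup G] (hn : Nat.card (Sylow 3 G) = 22) (D : Subgroup G)
    (hD : IsPGroup 3 D) (hnD : D.Normal) : D = ⊥ := by
  rcases hnD.eq_bot_or_eq_top with h | h
  · exact h
  · exfalso
    obtain ⟨P⟩ : Nonempty (Sylow 3 G) := inferInstance
    have hP : (P : Subgroup G) = ⊤ :=
      eq_top_iff.mpr (h ▸ le_sylow_of_normalizing hD P (by rw [normalizer_eq_top]; exact le_top))
    have := index_normalizer hn P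
    rw [hP, normalizer_eq_top, index_top] at this
    omega

theorem normalizer_pgroup_ne_top [IsSimpleGroup G] (hn : Nat.card (Sylow 3 G) = 22) (D : Subgroup G)
    (hD : IsPGroup 3 D) (hne : D ≠ ⊥) : normalizer (D : Set G) ≠ ⊤ := fun h =>
  hne (not_normal_pgroup hn D hD (normalizer_eq_top_iff.mp h))

/-- Orbits of a Sylow 3-subgroup on the other Sylow 3-subgroups have length 3 or 9. -/
theorem orbit_cases (hn : Nat.card (Sylow 3 G) = 22) (P Q : Sylow 3 G) (hne : Q ≠ P) :
    Nat.card (orbit (P : Subgroup G) Q) = 3 ∨ Nat.card (orbit (P : Subgroup G) Q) = 9 := by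
  obtain ⟨k, hk⟩ := P.isPGroup'.card_orbit Q
  have hle : Nat.card (orbit (P : Subgroup G) Q) < 22 := by
    rw [← hn, Nat.card_coe_set_eq, ← Set.ncard_univ]
    refine Set.ncard_lt_ncard ((Set.ssubset_univ_iff).mpr fun h => ?_)
    have : P ∈ orbit (P : Subgroup G) Q := h ▸ Set.mem_univ P
    obtain ⟨u, hu⟩ := this
    replace hu : (u : G) • Q = P := hu
    refine hne ?_
    rw [← inv_smul_smul (u : G) Q, hu]
    exact Sylow.smul_eq_iff_mem_normalizer.mpr (inv_mem (le_normalizer u.2))
  have h1 : Nat.card (orbit (P : Subgroup G) Q) ≠ 1 := by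
    rw [card_orbit_sylow, Ne, relIndex_eq_one]
    exact fun h => hne (eq_of_le_normalizer h).symm
  rw [hk] at hle h1 ⊢
  rcases k with _ | _ | _ | k
  · exact absurd (pow_zero 3) h1
  · left; rfl
  · right; rfl
  · exfalso
    have := Nat.pow_le_pow_right (show 3 > 0 by norm_num) (show 3 ≤ k + 1 + 1 + 1 by omega)
    omega

/-- If all other Sylow subgroups are in orbits of length 3 then the order is 3. -/
theorem card_eq_three [IsSimpleGroup G] (hn : Nat.card (Sylow 3 G) = 22) (P : Sylow 3 G)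
    (h : ∀ Q : Sylow 3 G, Q ≠ P → Nat.card (orbit (P : Subgroup G) Q) = 3) :
    Nat.card P = 3 := by
  have hall : ∀ R Q : Sylow 3 G, Q ≠ R → (Q : Subgroup G).relIndex R = 3 := by
    intro R Q hne
    obtain ⟨g, rfl⟩ := exists_smul_eq G P R
    have h1 : g⁻¹ • Q ≠ P := fun e => hne (by rw [← e, smul_inv_smul])
    have h2 := h _ h1
    rw [card_orbit_sylow_pair] at h2
    refine Eq.trans ?_ h2
    rw [← relIndex_pointwise_smul (MulAut.conj g) ((g⁻¹ • Q : Sylow 3 G) : Subgroup G) P,
      ← Sylow.coe_subgroup_smul, ← Sylow.coe_subgroup_smul, smul_inv_smul]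
  have hcomm : IsMulCommutative P := by
    refine ⟨⟨fun a b => ?_⟩⟩
    let I : Subgroup G := ⨅ R : Sylow 3 G, (R : Subgroup G)
    have hI : I.Normal := by
      refine ⟨fun x hx g => ?_⟩
      rw [Subgroup.mem_iInf] at hx ⊢
      intro R
      have := hx (g⁻¹ • R)
      rw [Sylow.coe_subgroup_smul, Subgroup.mem_pointwise_smul_iff_inv_smul_mem, ← map_inv,
        MulAut.smul_def, MulAut.conj_apply, inv_inv] at this
      exact this
    have hIb : I = ⊥ := not_normal_pgroup hn I (P.isPGroup'.to_le (iInf_le _ P)) hI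
    have hmem : (a : G) * b * (a : G)⁻¹ * (b : G)⁻¹ ∈ I := by
      rw [Subgroup.mem_iInf]
      intro R
      by_cases hR : R = P
      · subst hR
        exact mul_mem (mul_mem (mul_mem a.2 b.2) (inv_mem a.2)) (inv_mem b.2)
      have hidx := hall P R hR
      have hnorm : (P : Subgroup G) ≤ normalizer (((R : Subgroup G) ⊓ P : Subgroup G) : Set G) :=
        le_normalizer_of_relIndex_eq P.isPGroup' inf_le_right (by rw [inf_relIndex_right, hidx])
      let S : Subgroup P := (R : Subgroup G).subgroupOf P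
      have hS : S.Normal := by
        have := (normal_subgroupOf_iff_le_normalizer inf_le_right).mpr hnorm
        rwa [inf_subgroupOf_right] at this
      have hcard : Nat.card ((P : Subgroup G) ⧸ S) = 3 := hidx
      haveI : Fact (Nat.Prime 3) := ⟨Nat.prime_three⟩
      haveI : IsCyclic ((P : Subgroup G) ⧸ S) := isCyclic_of_prime_card hcard
      let cg := IsCyclic.commGroup (α := (P : Subgroup G) ⧸ S)
      have hc : QuotientGroup.mk' S a * QuotientGroup.mk' S b
          = QuotientGroup.mk' S b * QuotientGroup.mk' S a := cg.mul_comm _ _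
      have h4 : a * b * a⁻¹ * b⁻¹ ∈ S := by
        rw [← QuotientGroup.ker_mk' S, MonoidHom.mem_ker, map_mul, map_mul, map_mul, hc,
          map_inv, map_inv]
        group
      exact h4
    rw [hIb, Subgroup.mem_bot] at hmem
    apply Subtype.ext
    push_cast
    calc (a : G) * b = ((a : G) * b * (a : G)⁻¹ * (b : G)⁻¹) * (b * a) := by group
      _ = b * a := by rw [hmem, one_mul]
  obtain ⟨R, Q, hRQ⟩ := brodkey P
  let J : Subgroup G := ⨅ S : Sylow 3 G, (S : Subgroup G)
  have hle : (R : Subgroup G) ⊓ Q ≤ J := le_iInf hRQ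
  have hJn : J.Normal := by
    refine ⟨fun x hx g => ?_⟩
    rw [Subgroup.mem_iInf] at hx ⊢
    intro R
    have := hx (g⁻¹ • R)
    rw [Sylow.coe_subgroup_smul, Subgroup.mem_pointwise_smul_iff_inv_smul_mem, ← map_inv,
      MulAut.smul_def, MulAut.conj_apply, inv_inv] at this
    exact this
  have hJ : J = ⊥ := not_normal_pgroup hn J (P.isPGroup'.to_le (iInf_le _ P)) hJn
  rw [hJ, le_bot_iff] at hle
  have hne : Q ≠ R := by
    rintro rfl
    rw [inf_idem] at hle
    have := index_normalizer hn Q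
    rw [hle, normalizer_eq_top, index_top] at this
    omega
  have := hall R Q hne
  rw [← inf_relIndex_left, hle, relIndex_bot_left] at this
  exact (Nat.card_congr (Sylow.equiv P R).toEquiv).trans this

theorem relIndex_mul_pair (A B : Subgroup G) :
    A.index * B.relIndex A = B.index * A.relIndex B := by
  have h1 := relIndex_mul_index (H := A ⊓ B) (K := A) inf_le_left
  have h2 := relIndex_mul_index (H := A ⊓ B) (K := B) inf_le_right
  rw [inf_relIndex_left] at h1
  rw [inf_relIndex_right] at h2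
  rw [mul_comm, h1, mul_comm, h2]

local instance conjActionSubgroup : MulAction G (Subgroup G) :=
  MulAction.compHom (Subgroup G) (MulAut.conj : G →* MulAut G)

theorem conj_smul_def (g : G) (D : Subgroup G) :
    g • D = MulAut.conj g • D := rfl

theorem smul_sylow (g : G) (P : Sylow 3 G) :
    g • (P : Subgroup G) = ((g • P : Sylow 3 G) : Subgroup G) := rfl

theorem stabilizer_subgroup (D : Subgroup G) : stabilizer G D = normalizer (D : Set G) := by
  ext g
  rw [mem_stabilizer_iff, mem_normalizer_iff'', conj_smul_def]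
  constructor
  · intro h x
    conv_lhs => rw [← h]
    rw [Subgroup.mem_pointwise_smul_iff_inv_smul_mem, ← map_inv, MulAut.smul_def,
      MulAut.conj_apply, inv_inv]
  · intro h
    ext x
    rw [Subgroup.mem_pointwise_smul_iff_inv_smul_mem, ← map_inv, MulAut.smul_def,
      MulAut.conj_apply, inv_inv]
    exact (h x).symm

/-- Sylow 3-subgroups of order greater than 3 are impossible. -/
theorem card_sylow_eq_three [IsSimpleGroup G] (hn : Nat.card (Sylow 3 G) = 22) (P : Sylow 3 G) :
    Nat.card P = 3 := by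
  classical
  by_contra hP3
  obtain ⟨B₀, hB₀ne, hB₀⟩ : ∃ Q, Q ≠ P ∧ Nat.card (orbit (P : Subgroup G) Q) = 9 := by
    by_contra h
    push Not at h
    exact hP3 (card_eq_three hn P fun Q hQ => (orbit_cases hn P Q hQ).resolve_right (h Q hQ))
  set s : Set (Sylow 3 G) := {Q | Q ≠ P ∧ Nat.card (orbit (P : Subgroup G) Q) = 3} with hs
  set H := normalizer ((P : Subgroup G) : Set G) with hH
  have horbP : ∀ Q, Q ≠ P → ∀ R ∈ orbit (P : Subgroup G) Q, R ≠ P := by
    rintro Q hQ R ⟨u, rfl⟩ h
    refine hQ ?_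
    change (u : G) • Q = P at h
    rw [← inv_smul_smul (u : G) Q, h]
    exact Sylow.smul_eq_iff_mem_normalizer.mpr (inv_mem (le_normalizer u.2))
  set O := orbit (P : Subgroup G) B₀ with hO
  have hOcard : O.ncard = 9 := by rw [← Nat.card_coe_set_eq]; exact hB₀
  have hother : ({P}ᶜ : Set (Sylow 3 G)).ncard = 21 := by
    rw [Set.ncard_compl, Set.ncard_singleton, hn]
  have hOs : O ⊆ {P}ᶜ \ s := by
    intro R hR
    refine ⟨horbP _ hB₀ne R hR, fun hRs => ?_⟩
    have := hRs.2
    rw [orbit_eq_iff.mpr hR, ← hO, Nat.card_coe_set_eq] at this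
    omega
  have hOc : O ⊆ ({P}ᶜ : Set (Sylow 3 G)) := fun R hR => (hOs hR).1
  have hssub : s ⊆ {P}ᶜ := fun R hR => hR.1
  have hsplit : s.ncard + ({P}ᶜ \ s : Set (Sylow 3 G)).ncard = 21 := by
    rw [← hother, add_comm, Set.ncard_sdiff_add_ncard_of_subset hssub]
  have hs12 : s.ncard ≤ 12 := by
    have := Set.ncard_le_ncard hOs (Set.toFinite _)
    omega
  obtain ⟨Q, hQne, hQ3⟩ : ∃ Q, Q ≠ P ∧ Nat.card (orbit (P : Subgroup G) Q) = 3 := by
    by_contra h
    push Not at h
    have h9 : ∀ R, R ≠ P → Nat.card (orbit (P : Subgroup G) R) = 9 := fun R hR =>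
      (orbit_cases hn P R hR).resolve_left (h R hR)
    obtain ⟨C₀, hC₀⟩ : (({P}ᶜ : Set (Sylow 3 G)) \ O).Nonempty := by
      apply Set.nonempty_of_ncard_ne_zero
      rw [Set.ncard_sdiff hOc]
      omega
    have hsub2 : orbit (P : Subgroup G) C₀ ⊆ ({P}ᶜ : Set (Sylow 3 G)) \ O := fun R hR =>
      ⟨horbP _ hC₀.1 R hR, fun hRO => hC₀.2 (orbit_eq_iff.mp ((orbit_eq_iff.mpr hR).symm.trans (orbit_eq_iff.mpr hRO)))⟩
    obtain ⟨E₀, hE₀⟩ : ((({P}ᶜ : Set (Sylow 3 G)) \ O) \ orbit (P : Subgroup G) C₀).Nonempty := by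
      apply Set.nonempty_of_ncard_ne_zero
      rw [Set.ncard_sdiff hsub2, Set.ncard_sdiff hOc]
      have := h9 C₀ hC₀.1
      rw [Nat.card_coe_set_eq] at this
      omega
    have hsub3 : orbit (P : Subgroup G) E₀ ⊆
        (({P}ᶜ : Set (Sylow 3 G)) \ O) \ orbit (P : Subgroup G) C₀ := fun R hR =>
      ⟨⟨horbP _ hE₀.1.1 R hR, fun hRO => hE₀.1.2 (orbit_eq_iff.mp ((orbit_eq_iff.mpr hR).symm.trans (orbit_eq_iff.mpr hRO)))⟩,
       fun hRO => hE₀.2 (orbit_eq_iff.mp ((orbit_eq_iff.mpr hR).symm.trans (orbit_eq_iff.mpr hRO)))⟩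
    have := Set.ncard_le_ncard hsub3 (Set.toFinite _)
    rw [Set.ncard_sdiff hsub2, Set.ncard_sdiff hOc] at this
    have e1 := h9 C₀ hC₀.1; have e2 := h9 E₀ hE₀.1.1
    rw [Nat.card_coe_set_eq] at e1 e2
    omega
  -- facts about a short orbit
  have hshort : ∀ R ∈ s, ((P : Subgroup G) ⊓ (R : Subgroup G)).relIndex P = 3 ∧
      ((P : Subgroup G) ⊓ (R : Subgroup G)).relIndex R = 3 ∧
      (P : Subgroup G) ≤ normalizer (((P : Subgroup G) ⊓ (R : Subgroup G) : Subgroup G) : Set G) ∧
      (R : Subgroup G) ≤ normalizer (((P : Subgroup G) ⊓ (R : Subgroup G) : Subgroup G) : Set G) := by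
    intro R hR
    have h1 : ((P : Subgroup G) ⊓ (R : Subgroup G)).relIndex P = 3 := by
      rw [inf_relIndex_left, ← card_orbit_sylow_pair]; exact hR.2
    have h2 : ((P : Subgroup G) ⊓ (R : Subgroup G)).relIndex R = 3 := by
      have e : Nat.card (R : Subgroup G) = Nat.card (P : Subgroup G) :=
        Nat.card_congr (Sylow.equiv R P).toEquiv
      have a1 := relIndex_mul_relIndex ⊥ _ _ bot_le (inf_le_left : (P : Subgroup G) ⊓ R ≤ P)
      have a2 := relIndex_mul_relIndex ⊥ _ _ bot_le (inf_le_right : (P : Subgroup G) ⊓ R ≤ R)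
      rw [relIndex_bot_left, relIndex_bot_left] at a1 a2
      rw [h1] at a1
      rw [e, ← a1] at a2
      exact Nat.eq_of_mul_eq_mul_left Nat.card_pos a2
    exact ⟨h1, h2, le_normalizer_of_relIndex_eq P.isPGroup' inf_le_left h1,
      le_normalizer_of_relIndex_eq R.isPGroup' inf_le_right h2⟩
  have hsQ : Q ∈ s := ⟨hQne, hQ3⟩
  obtain ⟨hD3, hD3Q, hPD, hQD⟩ := hshort Q hsQ
  set D := (P : Subgroup G) ⊓ (Q : Subgroup G) with hD
  set M := normalizer (D : Set G) with hM
  have hDp : IsPGroup 3 D := P.isPGroup'.to_le inf_le_left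
  have hDne : D ≠ ⊥ := by
    intro h
    rw [h, relIndex_bot_left] at hD3
    exact hP3 hD3
  have hMtop : M ≠ ⊤ := normalizer_pgroup_ne_top hn D hDp hDne
  set orbD := orbit H D with horbD
  set j := M.relIndex H with hj
  set k := H.relIndex M with hk
  have hjcard : orbD.ncard = j := by
    rw [← Nat.card_coe_set_eq, horbD, card_orbit_subgroup, stabilizer_subgroup]
  have hkcard : {R : Sylow 3 G | D ≤ (R : Subgroup G) ∧ (R : Subgroup G) ≤ M}.ncard = k := by
    have : {R : Sylow 3 G | D ≤ (R : Subgroup G) ∧ (R : Subgroup G) ≤ M} = orbit M P := by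
      rw [orbit_eq_setOf_le P hPD]
      ext R
      exact ⟨fun h => h.2, fun h => ⟨le_sylow_of_normalizing hDp R h, h⟩⟩
    rw [this, ← Nat.card_coe_set_eq, card_orbit_sylow]
  have hmod : k % 3 = 1 := relIndex_normalizer_modEq_one P hPD
  have hj2 : 2 ≤ j := by
    rcases Nat.lt_or_ge j 2 with h | h
    · exfalso
      have h1 : j = 1 := by
        have : j ≠ 0 := Subgroup.index_ne_zero_of_finite
        omega
      rcases eq_normalizer_or_top hn P M (relIndex_eq_one.mp h1) with h | h
      · refine hQne (eq_of_le_normalizer (P := Q) (Q := P) ?_)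
        exact h ▸ hQD
      · exact hMtop h
    · exact h
  have hk4 : 4 ≤ k := by
    rcases Nat.lt_or_ge k 4 with h | h
    · exfalso
      have h1 : k = 1 := by omega
      rw [hk, relIndex_eq_one] at h1
      exact hQne (eq_of_le_normalizer (P := Q) (Q := P) (hQD.trans h1))
    · exact h
  have hfund : M.index * k = 22 * j := by
    rw [← index_normalizer hn P]; exact relIndex_mul_pair M H
  -- the sets of Sylow subgroups around the conjugates of D in P
  set S : Subgroup G → Set (Sylow 3 G) := fun E =>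
    {R | E ≤ (R : Subgroup G) ∧ (R : Subgroup G) ≤ normalizer (E : Set G)} \ {P} with hS
  have horb_facts : ∀ E ∈ orbD, E ≤ (P : Subgroup G) ∧ E.relIndex P = 3 ∧
      (P : Subgroup G) ≤ normalizer (E : Set G) ∧ (S E).ncard = k - 1 := by
    rintro E ⟨⟨h, hh⟩, rfl⟩
    have hfix : h • P = P := Sylow.smul_eq_iff_mem_normalizer.mpr hh
    have hEP : h • D ≤ (P : Subgroup G) := by
      conv_rhs => rw [← hfix]
      rw [Sylow.coe_subgroup_smul, conj_smul_def]
      exact pointwise_smul_le_pointwise_smul_iff.mpr inf_le_left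
    have hEi : (h • D).relIndex P = 3 := by
      conv_lhs => rw [← hfix]
      rw [Sylow.coe_subgroup_smul, conj_smul_def, relIndex_pointwise_smul]
      exact hD3
    refine ⟨hEP, hEi, le_normalizer_of_relIndex_eq P.isPGroup' hEP hEi, ?_⟩
    have himg : S (h • D) = (fun R => h • R) '' S D := by
      ext R
      have hn' : normalizer ((h • D : Subgroup G) : Set G) = h • normalizer (D : Set G) := by
        rw [← stabilizer_subgroup, ← stabilizer_subgroup, stabilizer_smul_eq_stabilizer_map_conj,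
          conj_smul_def, Subgroup.pointwise_smul_def]
        rfl
      constructor
      · rintro ⟨⟨h1, h2⟩, h3⟩
        refine ⟨h⁻¹ • R, ⟨⟨?_, ?_⟩, ?_⟩, smul_inv_smul h R⟩
        · rw [Sylow.coe_subgroup_smul, map_inv, subset_pointwise_smul_iff, inv_inv]
          exact h1
        · rw [Sylow.coe_subgroup_smul, map_inv, pointwise_smul_subset_iff, inv_inv]
          rw [hn'] at h2
          exact h2
        · intro h4
          rw [Set.mem_singleton_iff, inv_smul_eq_iff, hfix] at h4
          exact h3 h4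
      · rintro ⟨R, ⟨⟨h1, h2⟩, h3⟩, rfl⟩
        refine ⟨⟨?_, ?_⟩, ?_⟩
        · rw [Sylow.coe_subgroup_smul]; exact pointwise_smul_le_pointwise_smul_iff.mpr h1
        · rw [hn', Sylow.coe_subgroup_smul]; exact pointwise_smul_le_pointwise_smul_iff.mpr h2
        · intro h4
          rw [Set.mem_singleton_iff] at h4
          change h • R = P at h4
          refine h3 ?_
          rw [Set.mem_singleton_iff, ← inv_smul_smul h R, h4, inv_smul_eq_iff, hfix]
    change (S (h • D)).ncard = k - 1
    rw [himg, Set.ncard_image_of_injective _ (MulAction.injective h), hS]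
    have hPin : P ∈ {R : Sylow 3 G | D ≤ (R : Subgroup G) ∧ (R : Subgroup G) ≤ M} := ⟨inf_le_left, hPD⟩
    rw [Set.ncard_sdiff_singleton_of_mem hPin, hkcard]
  have hmaxE : ∀ E : Subgroup G, E ≤ (P : Subgroup G) → E.relIndex P = 3 → ∀ F : Subgroup G,
      E ≤ F → F < (P : Subgroup G) → F = E := by
    intro E hEP hE3 F hEF hFP
    have h1 := relIndex_mul_relIndex E F P hEF hFP.le
    rw [hE3] at h1
    rcases (Nat.dvd_prime Nat.prime_three).mp ⟨_, h1.symm⟩ with h | h
    · exact le_antisymm (relIndex_eq_one.mp h) hEF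
    · exfalso
      rw [h] at h1
      exact hFP.not_ge (relIndex_eq_one.mp (by omega))
  have hSs : ∀ E ∈ orbD, ∀ R ∈ S E, R ∈ s ∧ (P : Subgroup G) ⊓ (R : Subgroup G) = E := by
    intro E hE R hR
    obtain ⟨hEP, hE3, -, -⟩ := horb_facts E hE
    have hne : R ≠ P := hR.2
    have hinf : (P : Subgroup G) ⊓ (R : Subgroup G) = E :=
      hmaxE E hEP hE3 _ (le_inf hEP hR.1.1) (inf_lt_of_ne hne.symm)
    refine ⟨⟨hne, ?_⟩, hinf⟩
    rw [card_orbit_sylow_pair, ← inf_relIndex_left, hinf, hE3]
  set U : Set (Sylow 3 G) := ⋃ E ∈ orbD, S E with hU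
  have hUcard : U.ncard = j * (k - 1) := by
    rw [hU, Set.Finite.ncard_biUnion (Set.toFinite _) (fun _ _ => Set.toFinite _)]
    · rw [finsum_mem_eq_finite_toFinset_sum _ (Set.toFinite _),
        Finset.sum_congr rfl (fun E hE => (horb_facts E ((Set.Finite.mem_toFinset _).mp hE)).2.2.2),
        Finset.sum_const, smul_eq_mul, ← Set.ncard_eq_toFinset_card _ (Set.toFinite _), hjcard]
    · intro E hE F hF hEF
      refine Set.disjoint_left.mpr fun R h1 h2 => hEF ?_
      rw [← (hSs E hE R h1).2, (hSs F hF R h2).2]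
  have hUs : U ⊆ s := by
    intro R hR
    obtain ⟨E, hE, hR⟩ := Set.mem_iUnion₂.mp hR
    exact (hSs E hE R hR).1
  have hle12 : j * (k - 1) ≤ 12 := hUcard ▸ (Set.ncard_le_ncard hUs (Set.toFinite _)).trans hs12
  have hcases : (j = 2 ∧ k = 4 ∧ M.index = 11) ∨ (j = 4 ∧ k = 4 ∧ M.index = 22) := by
    have hjle : j ≤ 4 := by nlinarith [Nat.sub_add_cancel (show 1 ≤ k by omega)]
    have hkle : k ≤ 7 := by
      have : k - 1 ≤ 6 := by nlinarith
      omega
    interval_cases j <;> interval_cases k <;> omega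
  -- the action on the conjugates of D
  set X : Set (Subgroup G) := orbit G D with hX
  have hXcard : X.ncard = M.index := by
    rw [hX, ← index_stabilizer, stabilizer_subgroup]
  have hXp : ∀ E ∈ X, IsPGroup 3 E ∧ Nat.card E = Nat.card D := by
    rintro E ⟨g, rfl⟩
    exact ⟨hDp.map _, Nat.card_congr (Subgroup.equivSMul (MulAut.conj g) D).toEquiv.symm⟩
  set T : Subgroup G → Set (Subgroup G) := fun E =>
    {F | F ∈ X ∧ E ≤ normalizer (F : Set G) ∧ ¬ F ≤ (P : Subgroup G)} with hT
  have hjX : orbD ⊆ {F | F ∈ X ∧ F ≤ (P : Subgroup G)} := by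
    rintro E hE
    refine ⟨?_, (horb_facts E hE).1⟩
    obtain ⟨h, rfl⟩ := hE
    exact ⟨(h : G), rfl⟩
  have hTbound : ∀ R ∈ s, 3 * (j - 1) ≤ (T ((P : Subgroup G) ⊓ (R : Subgroup G))).ncard ∧
      ((P : Subgroup G) ⊓ (R : Subgroup G) ∉ X → 3 * j ≤ (T ((P : Subgroup G) ⊓ (R : Subgroup G))).ncard) := by
    intro R hR
    obtain ⟨hE3, -, hPE, -⟩ := hshort R hR
    set E := (P : Subgroup G) ⊓ (R : Subgroup G) with hE
    set O' := orbit (P : Subgroup G) R with hO'
    have hO'card : O'.ncard = 3 := by rw [← Nat.card_coe_set_eq]; exact hR.2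
    have hER : ∀ R' ∈ O', E ≤ (R' : Subgroup G) ∧ R' ≠ P := by
      intro R' hR'
      refine ⟨?_, horbP R hR.1 R' hR'⟩
      obtain ⟨u, rfl⟩ := hR'
      have hEfix : MulAut.conj (u : G) • E = E :=
        ((conj_smul_def _ _).symm.trans (mem_stabilizer_iff.mp
          ((stabilizer_subgroup E).symm ▸ hPE u.2)))
      change E ≤ (((u : G) • R : Sylow 3 G) : Subgroup G)
      rw [Sylow.coe_subgroup_smul, ← hEfix]
      exact pointwise_smul_le_pointwise_smul_iff.mpr inf_le_right
    have hsel : ∀ R' : Sylow 3 G, ∃ g : G, g • P = R' := fun R' => exists_smul_eq G P R'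
    choose g hg using hsel
    set Y : Sylow 3 G → Set (Subgroup G) := fun R' => ((fun F => g R' • F) '' orbD) \ {E} with hY
    have hYmem : ∀ R' ∈ O', ∀ F ∈ Y R', F ≤ (R' : Subgroup G) ∧ F ∈ T E := by
      rintro R' hR' F ⟨⟨F₀, hF₀, rfl⟩, hne⟩
      have hle : g R' • F₀ ≤ (R' : Subgroup G) := by
        conv_rhs => rw [← hg R']
        rw [Sylow.coe_subgroup_smul, conj_smul_def]
        exact pointwise_smul_le_pointwise_smul_iff.mpr (horb_facts F₀ hF₀).1
      have hFX : g R' • F₀ ∈ X := by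
        obtain ⟨h, rfl⟩ := hF₀
        exact ⟨g R' * h, mul_smul (g R') (h : G) D⟩
      have hnorm : (R' : Subgroup G) ≤ normalizer ((g R' • F₀ : Subgroup G) : Set G) := by
        have hn' : normalizer ((g R' • F₀ : Subgroup G) : Set G) = g R' • normalizer (F₀ : Set G) := by
          rw [← stabilizer_subgroup, ← stabilizer_subgroup, stabilizer_smul_eq_stabilizer_map_conj,
            conj_smul_def, Subgroup.pointwise_smul_def]
          rfl
        conv_lhs => rw [← hg R']
        rw [hn', Sylow.coe_subgroup_smul, conj_smul_def]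
        exact pointwise_smul_le_pointwise_smul_iff.mpr (horb_facts F₀ hF₀).2.2.1
      refine ⟨hle, hFX, ((hER R' hR').1).trans hnorm, fun hP => hne ?_⟩
      rw [Set.mem_singleton_iff]
      refine eq_of_le_of_card_ge (hmaxE E inf_le_left hE3 _ (le_inf inf_le_left (hER R' hR').1)
        (inf_lt_of_ne (hER R' hR').2.symm) ▸ le_inf hP hle) ?_
      rw [(hXp _ hFX).2]
      have a1 := relIndex_mul_relIndex ⊥ E P bot_le inf_le_left
      have a2 := relIndex_mul_relIndex ⊥ D P bot_le inf_le_left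
      rw [relIndex_bot_left, relIndex_bot_left, hE3] at a1
      rw [relIndex_bot_left, relIndex_bot_left, hD3] at a2
      omega
    have hEle : ∀ R' ∈ O', ∀ R'' ∈ O', R' ≠ R'' → ∀ F, F ∈ Y R' → F ∈ Y R'' → False := by
      intro R' h' R'' h'' hne F hF' hF''
      have hFT := (hYmem R' h' F hF').2
      have hl : F ≤ (R' : Subgroup G) ⊓ (R'' : Subgroup G) :=
        le_inf (hYmem R' h' F hF').1 (hYmem R'' h'' F hF'').1
      have hcardE : Nat.card E * 3 = Nat.card (P : Subgroup G) := by
        have a1 := relIndex_mul_relIndex ⊥ E P bot_le inf_le_left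
        rwa [relIndex_bot_left, relIndex_bot_left, hE3] at a1
      have hEI : E ≤ (R' : Subgroup G) ⊓ (R'' : Subgroup G) := le_inf (hER R' h').1 (hER R'' h'').1
      have hcardR : Nat.card (R' : Subgroup G) = Nat.card (P : Subgroup G) :=
        Nat.card_congr (Sylow.equiv R' P).toEquiv
      have hEeq : E = (R' : Subgroup G) ⊓ (R'' : Subgroup G) := by
        have hlt : (R' : Subgroup G) ⊓ (R'' : Subgroup G) < R' := inf_lt_of_ne hne
        have a1 := relIndex_mul_relIndex E _ _ hEI hlt.le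
        have a0 := relIndex_mul_relIndex ⊥ E (R' : Subgroup G) bot_le (hER R' h').1
        rw [relIndex_bot_left, relIndex_bot_left, hcardR, ← hcardE] at a0
        have a0' : E.relIndex (R' : Subgroup G) = 3 := Nat.eq_of_mul_eq_mul_left Nat.card_pos a0
        rw [a0'] at a1
        rcases (Nat.dvd_prime Nat.prime_three).mp ⟨_, a1.symm⟩ with h | h
        · exact le_antisymm hEI (relIndex_eq_one.mp h)
        · exfalso
          rw [h] at a1
          exact hlt.not_ge (relIndex_eq_one.mp (by omega))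
      rw [← hEeq] at hl
      exact hFT.2.2 (hl.trans inf_le_left)
    have hYsub : (⋃ R' ∈ O', Y R') ⊆ T E := by
      intro F hF
      obtain ⟨R', hR', hF⟩ := Set.mem_iUnion₂.mp hF
      exact (hYmem R' hR' F hF).2
    have hbd : ∀ c : ℕ, (∀ R' ∈ O', c ≤ (Y R').ncard) → 3 * c ≤ (T E).ncard := by
      intro c hc
      refine le_trans ?_ (Set.ncard_le_ncard hYsub (Set.toFinite _))
      rw [Set.Finite.ncard_biUnion (Set.toFinite _) (fun _ _ => Set.toFinite _)
        (fun a ha b hb hab => Set.disjoint_left.mpr fun F => hEle a ha b hb hab F),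
        finsum_mem_eq_finite_toFinset_sum _ (Set.toFinite _)]
      refine le_trans (le_of_eq ?_)
        (Finset.card_nsmul_le_sum _ _ c fun R' hR' => hc R' ((Set.Finite.mem_toFinset _).mp hR'))
      rw [smul_eq_mul, ← Set.ncard_eq_toFinset_card _ (Set.toFinite _), hO'card]
    refine ⟨hbd _ fun R' _ => ?_, fun hEX => hbd _ fun R' hR' => ?_⟩
    · rw [← hjcard, ← Set.ncard_image_of_injective orbD (MulAction.injective (g R'))]
      exact Set.pred_ncard_le_ncard_sdiff_singleton _ _
    · rw [← hjcard, ← Set.ncard_image_of_injective orbD (MulAction.injective (g R'))]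
      refine le_of_eq (congrArg Set.ncard ?_)
      refine (Set.sdiff_singleton_eq_self ?_).symm
      rintro ⟨F₀, hF₀, he⟩
      obtain ⟨h, rfl⟩ := hF₀
      exact hEX ⟨g R' * h, (mul_smul (g R') (h : G) D).trans he⟩
  have hdisj : ∀ E F : Subgroup G, E ≤ (P : Subgroup G) → E.relIndex P = 3 → F ≤ (P : Subgroup G) →
      F.relIndex P = 3 → E ≠ F → Disjoint (T E) (T F) := by
    intro E F hEP hE3 hFP hF3 hne
    refine Set.disjoint_left.mpr fun Z hZE hZF => hZE.2.2 ?_
    refine le_sylow_of_normalizing (hXp Z hZE.1).1 P ?_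
    have hsup : E ⊔ F = (P : Subgroup G) := by
      by_contra h
      have hlt : E ⊔ F < (P : Subgroup G) := lt_of_le_of_ne (sup_le hEP hFP) h
      exact hne ((hmaxE E hEP hE3 _ le_sup_left hlt).symm.trans (hmaxE F hFP hF3 _ le_sup_right hlt))
    exact hsup ▸ sup_le hZE.2.1 hZF.2.1
  set Fix : Set (Subgroup G) := {F | F ∈ X ∧ F ≤ (P : Subgroup G)} with hFix
  have hTX : ∀ E, Disjoint Fix (T E) := fun E => Set.disjoint_left.mpr fun F h1 h2 => h2.2.2 h1.2
  have horbT : ∀ E ∈ orbD, 3 * (j - 1) ≤ (T E).ncard := by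
    intro E hE
    obtain ⟨R, hR⟩ : (S E).Nonempty := by
      apply Set.nonempty_of_ncard_ne_zero
      rw [(horb_facts E hE).2.2.2]; omega
    obtain ⟨hRs, hinf⟩ := hSs E hE R hR
    exact hinf ▸ (hTbound R hRs).1
  have hTunion : (⋃ E ∈ orbD, T E).ncard ≥ j * (3 * (j - 1)) := by
    rw [Set.Finite.ncard_biUnion (Set.toFinite _) (fun _ _ => Set.toFinite _),
      finsum_mem_eq_finite_toFinset_sum _ (Set.toFinite _)]
    · refine le_trans (le_of_eq ?_) (Finset.card_nsmul_le_sum _ _ (3 * (j - 1))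
        fun E hE => horbT E ((Set.Finite.mem_toFinset _).mp hE))
      rw [smul_eq_mul, ← Set.ncard_eq_toFinset_card _ (Set.toFinite _), hjcard]
    · intro E hE F hF hne
      exact hdisj E F (horb_facts E hE).1 (horb_facts E hE).2.1 (horb_facts F hF).1 (horb_facts F hF).2.1 hne
  have hFixge : j ≤ Fix.ncard := hjcard ▸ Set.ncard_le_ncard hjX (Set.toFinite _)
  have hTU : Disjoint Fix (⋃ E ∈ orbD, T E) := Set.disjoint_iUnion₂_right.mpr fun E _ => hTX E
  rcases hcases with ⟨hj', hk', hidx⟩ | ⟨hj', hk', hidx⟩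
  · -- j = 2
    have hrest : (s \ U).Nonempty := by
      apply Set.nonempty_of_ncard_ne_zero
      rw [Set.ncard_sdiff hUs, hUcard, hj', hk']
      intro hzero
      have hU6 : U.ncard = 6 := by rw [hUcard, hj', hk']
      have hsU : s.ncard = 6 := by
        have := Set.ncard_le_ncard hUs (Set.toFinite _)
        omega
      have hbig : (({P}ᶜ : Set (Sylow 3 G)) \ s).ncard = 15 := by omega
      obtain ⟨C₀, hC₀⟩ : ((({P}ᶜ : Set (Sylow 3 G)) \ s) \ O).Nonempty := by
        apply Set.nonempty_of_ncard_ne_zero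
        rw [Set.ncard_sdiff hOs]; omega
      have h9 : Nat.card (orbit (P : Subgroup G) C₀) = 9 :=
        (orbit_cases hn P C₀ hC₀.1.1).resolve_left fun h => hC₀.1.2 ⟨hC₀.1.1, h⟩
      have hsub : orbit (P : Subgroup G) C₀ ⊆ (({P}ᶜ : Set (Sylow 3 G)) \ s) \ O := by
        intro R hR
        refine ⟨⟨horbP _ hC₀.1.1 R hR, fun hRs => ?_⟩, fun hRO => hC₀.2 (orbit_eq_iff.mp ((orbit_eq_iff.mpr hR).symm.trans (orbit_eq_iff.mpr hRO)))⟩
        have := hRs.2
        rw [orbit_eq_iff.mpr hR] at this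
        omega
      have := Set.ncard_le_ncard hsub (Set.toFinite _)
      rw [Set.ncard_sdiff hOs, ← Nat.card_coe_set_eq (orbit _ C₀)] at this
      omega
    obtain ⟨R, hRs, hRU⟩ := hrest
    set E' := (P : Subgroup G) ⊓ (R : Subgroup G) with hE'
    have hE'notin : E' ∉ orbD := fun h => hRU (Set.mem_iUnion₂.mpr
      ⟨E', h, ⟨⟨inf_le_right, (hshort R hRs).2.2.2⟩, hRs.1⟩⟩)
    have hd2 : Disjoint (⋃ E ∈ orbD, T E) (T E') := Set.disjoint_iUnion₂_left.mpr fun E hE =>
      hdisj E E' (horb_facts E hE).1 (horb_facts E hE).2.1 inf_le_left (hshort R hRs).1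
        (fun h => hE'notin (h ▸ hE))
    have hall : Fix ∪ ((⋃ E ∈ orbD, T E) ∪ T E') ⊆ X := by
      rintro F (h | h | h)
      · exact h.1
      · obtain ⟨E, -, hF⟩ := Set.mem_iUnion₂.mp h
        exact hF.1
      · exact h.1
    have hlast := Set.ncard_le_ncard hall (Set.toFinite _)
    rw [Set.ncard_union_eq (Set.disjoint_union_right.mpr ⟨hTU, hTX E'⟩) (Set.toFinite _) (Set.toFinite _),
      Set.ncard_union_eq hd2 (Set.toFinite _) (Set.toFinite _), hXcard, hidx] at hlast
    rw [hj'] at hTunion hFixge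
    by_cases hEX : E' ∈ X
    · have h3 : 3 ≤ Fix.ncard := by
        have hsub : insert E' orbD ⊆ Fix := Set.insert_subset ⟨hEX, inf_le_left⟩ hjX
        have := Set.ncard_le_ncard hsub (Set.toFinite _)
        rw [Set.ncard_insert_of_notMem hE'notin, hjcard, hj'] at this
        exact this
      have := (hTbound R hRs).1
      rw [hj', ← hE'] at this
      omega
    · have := (hTbound R hRs).2 hEX
      rw [hj', ← hE'] at this
      omega
  · -- j = 4
    have hall : Fix ∪ (⋃ E ∈ orbD, T E) ⊆ X := by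
      rintro F (h | h)
      · exact h.1
      · obtain ⟨E, -, hF⟩ := Set.mem_iUnion₂.mp h
        exact hF.1
    have hlast := Set.ncard_le_ncard hall (Set.toFinite _)
    rw [Set.ncard_union_eq hTU (Set.toFinite _) (Set.toFinite _), hXcard, hidx] at hlast
    rw [hj'] at hTunion hFixge
    omega

end Cfsg.Agent.Lib.SylowNumbers.N22
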