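import Cfsg.Agent.Lib.SylowNumbers.N22
import Cfsg.Agent.Lib.SylowNumbers.DegreeSeven
import Mathlib.Combinatorics.Enumerative.DoubleCounting

/-!
A simple group cannot have 22 Sylow 3-subgroups of order 3.
-/

set_option autoImplicit false
set_option linter.unusedSectionVars false
set_option linter.style.haveILetI false

namespace Cfsg.Agent.Lib.SylowNumbers.N22Small

open Subgroup MulAction
open Cfsg.Agent.Lib.SylowNumbers.Basic
open Cfsg.Agent.Lib.SylowNumbers.Actions
open Cfsg.Agent.Lib.SylowNumbers.SimpleAux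
open scoped Pointwise

variable {G : Type*} [Group G] [Finite G]

private local instance fact_three : Fact (Nat.Prime 3) := ⟨Nat.prime_three⟩
private local instance fact_eleven : Fact (Nat.Prime 11) := ⟨by norm_num⟩

/-- The cases left by the congruence for the number of Sylow 11-subgroups. -/
theorem cases_eb (e b : ℕ) (he : e ∣ 10) (he1 : e ≠ 1) (hb : b ∣ 560) (n : ℕ) (hn : n % 11 = 1)
    (h : n * e = 12 * b) :
    (b = 2 ∧ e = 2) ∨ (b = 5 ∧ e = 5) ∨ (b = 10 ∧ e = 10) ∨ b = 35 ∨ b = 112 ∨ b = 280 ∨ b = 560 := by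
  have he' : e ∈ Nat.divisors 10 := Nat.mem_divisors.mpr ⟨he, by norm_num⟩
  have hb' : b ∈ Nat.divisors 560 := Nat.mem_divisors.mpr ⟨hb, by norm_num⟩
  rw [show Nat.divisors 10 = {1, 2, 5, 10} by decide] at he'
  rw [show Nat.divisors 560 = {1, 2, 4, 5, 7, 8, 10, 14, 16, 20, 28, 35, 40, 56, 70, 80, 112, 140,
    280, 560} by decide +kernel] at hb'
  simp only [Finset.mem_insert, Finset.mem_singleton] at he' hb'
  rcases he' with rfl | rfl | rfl | rfl <;>
    rcases hb' with rfl | rfl | rfl | rfl | rfl | rfl | rfl | rfl | rfl | rfl | rfl | rfl | rfl | rfl |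
      rfl | rfl | rfl | rfl | rfl | rfl <;> omega

/-- Disjoint union count. -/
theorem le_ncard_biUnion {ι α : Type*} [Finite ι] [Finite α] (f : ι → Set α) (c : ℕ)
    (hc : ∀ i, c ≤ (f i).ncard) (hd : ∀ i j, ∀ a, a ∈ f i → a ∈ f j → i = j) :
    Nat.card ι * c ≤ (⋃ i, f i).ncard := by
  classical
  have := Fintype.ofFinite ι
  rw [Set.ncard_iUnion_of_finite (fun _ => Set.toFinite _)
      (fun i j hij => Set.disjoint_left.mpr fun a h1 h2 => hij (hd i j a h1 h2)),
    finsum_eq_sum_of_fintype, Nat.card_eq_fintype_card]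
  calc Fintype.card ι * c = Finset.univ.card • c := by rw [Finset.card_univ, smul_eq_mul]
    _ ≤ _ := Finset.card_nsmul_le_sum _ _ c fun i _ => hc i

theorem orbit_eq_of_fpf {α : Type*} [MulAction G α] [Finite α] {x : G} {p : ℕ} [Fact p.Prime]
    (hx : orderOf x = p) {a : α} (ha : x • a ≠ a) (hle : Nat.card (orbit (zpowers x) a) < p * p) :
    Nat.card (orbit (zpowers x) a) = p := by
  obtain ⟨k, hk⟩ := (IsPGroup.of_card (n := 1) (by rw [Nat.card_zpowers, hx, pow_one]) :
    IsPGroup p (zpowers x)).card_orbit a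
  rw [hk] at hle ⊢
  rcases k with _ | _ | k
  · exfalso
    have h1 : (⟨x • a, ⟨⟨x, mem_zpowers x⟩, rfl⟩⟩ : orbit (zpowers x) a) = ⟨a, mem_orbit_self a⟩ := by
      rw [pow_zero, Nat.card_eq_one_iff_unique] at hk
      exact hk.1.elim _ _
    exact ha (congrArg Subtype.val h1)
  · rw [pow_one]
  · exfalso
    have := Nat.pow_le_pow_right (Fact.out : p.Prime).pos (show 2 ≤ k + 1 + 1 by omega)
    rw [pow_two] at this
    omega

theorem false_of_card_three [IsSimpleGroup G] (hn : Nat.card (Sylow 3 G) = 22)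
    (h3 : ∀ P : Sylow 3 G, Nat.card P = 3) : False := by
  classical
  haveI := Fintype.ofFinite (Sylow 3 G)
  obtain ⟨P⟩ : Nonempty (Sylow 3 G) := inferInstance
  set H := normalizer ((P : Subgroup G) : Set G) with hH
  set C := centralizer ((P : Subgroup G) : Set G) with hC
  haveI hcyc : IsCyclic (P : Subgroup G) := isCyclic_of_prime_card (h3 P)
  obtain ⟨⟨z, hzP⟩, hgen⟩ := hcyc.exists_generator
  have hz : orderOf z = 3 := by
    have := orderOf_eq_card_of_forall_mem_zpowers hgen
    rw [h3 P, Subgroup.orderOf_mk] at this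
    exact this
  have hPz : (P : Subgroup G) = zpowers z := by
    refine (eq_of_le_of_card_ge (zpowers_le.mpr hzP) ?_).symm
    rw [Nat.card_zpowers, hz, h3 P]
  have hzC : ∀ c ∈ C, Commute c z := fun c hc => (mem_centralizer_iff.mp hc z hzP).symm
  have hPC : (P : Subgroup G) ≤ C := by
    intro a ha
    rw [hC, mem_centralizer_iff]
    intro b hb
    rw [hPz] at ha
    rw [SetLike.mem_coe, hPz] at hb
    obtain ⟨i, rfl⟩ := mem_zpowers_iff.mp ha
    obtain ⟨j, rfl⟩ := mem_zpowers_iff.mp hb
    rw [← zpow_add, ← zpow_add, add_comm]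
  have hCH : C ≤ H := centralizer_le_normalizer ((P : Subgroup G) : Set G)
  have hGH : Nat.card G = Nat.card H * 22 := by
    rw [← N22.index_normalizer hn P, hH, Subgroup.card_mul_index]
  have hidx : C.relIndex H = 2 := by
    have h1 := relIndex_centralizer_dvd_totient (P : Subgroup G) hcyc
    rw [h3 P, Nat.totient_prime Nat.prime_three] at h1
    rcases (Nat.dvd_prime Nat.prime_two).mp h1 with h | h
    · exfalso
      refine not_normalizer_le_centralizer P ?_ ?_ (relIndex_eq_one.mp h)
      · intro e; have := h3 P; rw [e, Subgroup.card_bot] at this; omega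
      · intro e
        have := N22.index_normalizer hn P
        rw [e, normalizer_eq_top, index_top] at this
        omega
    · exact h
  have hHC : Nat.card H = 2 * Nat.card C := by
    have := relIndex_mul_relIndex ⊥ C H bot_le hCH
    rw [relIndex_bot_left, relIndex_bot_left, hidx] at this
    omega
  obtain ⟨b, hb⟩ : 3 ∣ Nat.card C := h3 P ▸ card_dvd_of_le hPC
  have hG : Nat.card G = 132 * b := by rw [hGH, hHC, hb]; ring
  have hb3 : ¬ 3 ∣ b := by
    rintro ⟨c, rfl⟩
    refine P.not_dvd_index ⟨44 * c, ?_⟩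
    have := (P : Subgroup G).card_mul_index
    rw [h3 P, hG] at this
    omega
  have hnt : Nontrivial (Sylow 3 G) := Finite.one_lt_card_iff_nontrivial.mp (by omega)
  have hfaith : ∀ g : G, (∀ Q : Sylow 3 G, g • Q = Q) → g = 1 := fun g h => faithful_of_simple _ h
  -- orbits of P on the other Sylow subgroups
  have horb : ∀ Q : Sylow 3 G, Q ≠ P → (orbit (P : Subgroup G) Q).ncard = 3 := by
    intro Q hQ
    have hle : Nat.card (orbit (P : Subgroup G) Q) ≤ 3 := by
      rw [card_orbit_sylow_pair]
      exact (Nat.le_of_dvd Nat.card_pos (relIndex_dvd_card ..)).trans (h3 P).le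
    rw [← Nat.card_coe_set_eq]
    rcases N22.orbit_cases hn P Q hQ with h | h <;> omega
  have hzmov : ∀ Q : Sylow 3 G, Q ≠ P → z • Q ≠ Q := by
    intro Q hQ h
    refine hQ (eq_of_le_normalizer ?_).symm
    rw [hPz, zpowers_le]
    exact Sylow.smul_eq_iff_mem_normalizer.mp h
  have horbne : ∀ Q : Sylow 3 G, Q ≠ P → ∀ R ∈ orbit (P : Subgroup G) Q, R ≠ P := by
    rintro Q hQ R ⟨u, rfl⟩ h
    refine hQ ?_
    change (u : G) • Q = P at h
    rw [← inv_smul_smul (u : G) Q, h]
    exact Sylow.smul_eq_iff_mem_normalizer.mpr (inv_mem (le_normalizer u.2))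
  let X : Set (Set (Sylow 3 G)) := (fun Q => orbit (P : Subgroup G) Q) '' {P}ᶜ
  have hXsmul : ∀ c ∈ C, ∀ S ∈ X, c • S ∈ X := by
    rintro c hc S ⟨Q, hQ, rfl⟩
    refine ⟨c • Q, ?_, ?_⟩
    · intro h
      rw [Set.mem_singleton_iff] at h
      refine hQ ?_
      rw [Set.mem_singleton_iff, ← inv_smul_smul c Q, h]
      exact Sylow.smul_eq_iff_mem_normalizer.mpr (inv_mem (hCH hc))
    · ext R
      constructor
      · rintro ⟨u, rfl⟩
        refine ⟨(u : G) • Q, ⟨u, rfl⟩, ?_⟩
        change c • (u : G) • Q = (u : G) • c • Q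
        rw [← mul_smul, ← mul_smul, mem_centralizer_iff.mp hc u u.2]
      · rintro ⟨R', ⟨u, rfl⟩, rfl⟩
        refine ⟨u, ?_⟩
        change (u : G) • c • Q = c • (u : G) • Q
        rw [← mul_smul, ← mul_smul, mem_centralizer_iff.mp hc u u.2]
  let Xact : SubMulAction C (Set (Sylow 3 G)) :=
    { carrier := X
      smul_mem' := fun c S hS => hXsmul c c.2 S hS }
  haveI : Fintype Xact := Fintype.ofFinite _
  have hXcard : Fintype.card Xact = 7 := by
    have hunion : (⋃ S ∈ X, S) = ({P}ᶜ : Set (Sylow 3 G)) := by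
      ext R
      simp only [Set.mem_iUnion, exists_prop]
      constructor
      · rintro ⟨S, ⟨Q, hQ, rfl⟩, hR⟩; exact horbne Q hQ R hR
      · intro hR; exact ⟨_, ⟨R, hR, rfl⟩, mem_orbit_self R⟩
    have h1 := congrArg Set.ncard hunion
    rw [Set.Finite.ncard_biUnion (Set.toFinite _) (fun _ _ => Set.toFinite _),
      finsum_mem_eq_finite_toFinset_sum _ (Set.toFinite _), Set.ncard_compl, Set.ncard_singleton,
      hn, Finset.sum_congr rfl (g := fun _ => 3) (fun S hS => ?_), Finset.sum_const, smul_eq_mul,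
      ← Set.ncard_eq_toFinset_card _ (Set.toFinite _)] at h1
    · rw [← Nat.card_eq_fintype_card]
      change Nat.card X = 7
      rw [Nat.card_coe_set_eq]
      omega
    · obtain ⟨Q, hQ, rfl⟩ := (Set.Finite.mem_toFinset _).mp hS
      exact horb Q hQ
    · rintro S ⟨Q, -, rfl⟩ T ⟨R, -, rfl⟩ hne
      refine Set.disjoint_left.mpr fun W h1 h2 => hne ?_
      exact (orbit_eq_iff.mpr h1).symm.trans (orbit_eq_iff.mpr h2)
  let φ : C →* Equiv.Perm Xact := MulAction.toPermHom C Xact
  have hker : φ.ker = (P : Subgroup G).subgroupOf C := by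
    apply le_antisymm
    · rintro ⟨u, hu⟩ hk
      rw [mem_subgroupOf]
      have hfix : ∀ Q : Sylow 3 G, u ^ 3 • Q = Q := by
        intro Q
        by_cases hQ : Q = P
        · subst hQ
          exact Sylow.smul_eq_iff_mem_normalizer.mpr (pow_mem (hCH hu) 3)
        · refine pow_smul_eq_of_mem_orbit (hzC u hu) (by rw [← hz]; exact pow_orderOf_eq_one z) ?_
          have h1 := congrArg Subtype.val (Equiv.congr_fun (show φ ⟨u, hu⟩ = 1 from hk)
            (⟨orbit (P : Subgroup G) Q, ⟨Q, hQ, rfl⟩⟩ : Xact))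
          change u • orbit (P : Subgroup G) Q = orbit (P : Subgroup G) Q at h1
          have h2 : u • Q ∈ orbit (P : Subgroup G) Q := h1 ▸ Set.smul_mem_smul_set (mem_orbit_self Q)
          obtain ⟨⟨w, hw⟩, hwQ⟩ := h2
          exact ⟨⟨w, hPz ▸ hw⟩, hwQ⟩
      have hu3 : u ^ 3 = 1 := hfaith _ hfix
      refine mem_sylow_of_mem_normalizer ?_ P (hCH hu)
      rcases (Nat.dvd_prime Nat.prime_three).mp (orderOf_dvd_of_pow_eq_one hu3) with h | h
      · exact isPGroup_zpowers (k := 0) (by rw [h, pow_zero])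
      · exact isPGroup_zpowers (k := 1) (by rw [h, pow_one])
    · rintro ⟨u, hu⟩ huP
      rw [mem_subgroupOf] at huP
      refine Equiv.ext fun S => Subtype.ext ?_
      obtain ⟨S, Q, hQ, rfl⟩ := S
      change u • orbit (P : Subgroup G) Q = orbit (P : Subgroup G) Q
      exact smul_orbit (⟨u, huP⟩ : (P : Subgroup G)) Q
  have hrange : Nat.card φ.range = b := by
    rw [← index_ker, hker]
    have := relIndex_mul_relIndex ⊥ (P : Subgroup G) C bot_le hPC
    rw [relIndex_bot_left, relIndex_bot_left, h3 P, hb] at this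
    change (P : Subgroup G).relIndex C = b
    omega
  have hb560 : b ∣ 560 := by
    have h1 : b ∣ 5040 := by
      rw [← hrange]
      refine (card_subgroup_dvd_card _).trans ?_
      rw [Nat.card_perm, Nat.card_eq_fintype_card, hXcard]
      decide
    exact ((Nat.Prime.coprime_iff_not_dvd Nat.prime_three).mpr hb3).symm.pow_right 2 |>.dvd_of_dvd_mul_left h1
  -- an element of order 11
  have hb11 : ¬ 11 ∣ b := fun h => by
    have := h.trans hb560
    norm_num at this
  obtain ⟨x, hx⟩ := exists_prime_orderOf_dvd_card' (G := G) 11 (by rw [hG]; exact Dvd.intro (12 * b) (by ring))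
  have hxmov : ∀ Q : Sylow 3 G, x • Q ≠ Q := by
    intro Q hQ
    have hmem := Sylow.smul_eq_iff_mem_normalizer.mp hQ
    have h1 : 11 ∣ Nat.card (normalizer ((Q : Subgroup G) : Set G)) := by
      have := orderOf_dvd_natCard (⟨x, hmem⟩ : normalizer ((Q : Subgroup G) : Set G))
      rwa [Subgroup.orderOf_mk, hx] at this
    have h2 : Nat.card (normalizer ((Q : Subgroup G) : Set G)) = 6 * b := by
      have := (normalizer ((Q : Subgroup G) : Set G)).card_mul_index
      rw [N22.index_normalizer hn Q, hG] at this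
      omega
    rw [h2] at h1
    rcases (Nat.Prime.dvd_mul (by norm_num)).mp h1 with h | h
    · norm_num at h
    · exact hb11 h
  have hxorb : ∀ Q : Sylow 3 G, (orbit (zpowers x) Q).ncard = 11 := by
    intro Q
    rw [← Nat.card_coe_set_eq]
    refine orbit_eq_of_fpf hx (hxmov Q) ?_
    rw [Nat.card_coe_set_eq]
    have := Set.ncard_le_ncard (Set.subset_univ (orbit (zpowers x) Q)) (Set.toFinite _)
    rw [Set.ncard_univ, hn] at this
    omega
  have hbig : 2 < Nat.card G := by
    have : b ≠ 0 := fun h => hb3 (h ▸ dvd_zero 3)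
    omega
  have hCx : centralizer ((zpowers x : Subgroup G) : Set G) = zpowers x := by
    have hp : IsPGroup 11 (centralizer ((zpowers x : Subgroup G) : Set G)) := by
      refine IsPGroup.of_card (n := _) (Nat.eq_prime_pow_of_unique_prime_dvd Nat.card_pos.ne' ?_)
      intro r hr hrd
      haveI : Fact r.Prime := ⟨hr⟩
      obtain ⟨⟨u, huC⟩, hu⟩ := exists_prime_orderOf_dvd_card' r hrd
      rw [Subgroup.orderOf_mk] at hu
      by_contra hne
      have hc : Commute u x := (mem_centralizer_iff.mp huC x (mem_zpowers x)).symm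
      have hkill : (∀ Q : Sylow 3 G, u • Q ∈ orbit (zpowers x) Q) → False := by
        intro hall
        have : u ^ 11 = 1 := hfaith _ fun Q =>
          pow_smul_eq_of_mem_orbit hc (by rw [← hx]; exact pow_orderOf_eq_one x) (hall Q)
        have := orderOf_dvd_of_pow_eq_one this
        rw [hu] at this
        exact hne ((Nat.prime_dvd_prime_iff_eq hr (by norm_num)).mp this)
      by_cases hr2 : r = 2
      · subst hr2
        by_cases hsome : ∃ Q : Sylow 3 G, u • Q ∈ orbit (zpowers x) Q
        · obtain ⟨Q, hQ⟩ := hsome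
          refine hkill fun R => ?_
          have hinv : ∀ S ∈ orbit (zpowers x) Q, u • S ∈ orbit (zpowers x) Q := by
            rintro S ⟨⟨w, hw⟩, rfl⟩
            obtain ⟨i, rfl⟩ := mem_zpowers_iff.mp hw
            change u • x ^ i • Q ∈ orbit (zpowers x) Q
            rw [← mul_smul, (hc.zpow_right i).eq, mul_smul]
            exact mem_orbit_of_mem_orbit (⟨x ^ i, zpow_mem (mem_zpowers x) i⟩ : zpowers x) hQ
          by_cases hRQ : R ∈ orbit (zpowers x) Q
          · rw [orbit_eq_iff.mpr hRQ]; exact hinv R hRQ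
          · have hdis : Disjoint (orbit (zpowers x) Q) (orbit (zpowers x) R) :=
              Set.disjoint_left.mpr fun W h1 h2 => hRQ
                (orbit_eq_iff.mp ((orbit_eq_iff.mpr h2).symm.trans (orbit_eq_iff.mpr h1)))
            have huniv : orbit (zpowers x) Q ∪ orbit (zpowers x) R = Set.univ := by
              refine Set.eq_of_subset_of_ncard_le (Set.subset_univ _) ?_ (Set.toFinite _)
              rw [Set.ncard_union_eq hdis, hxorb, hxorb, Set.ncard_univ, hn]
            have hu1 : u • u • R = R := by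
              rw [← mul_smul, ← pow_two, ← hu, pow_orderOf_eq_one, one_smul]
            rcases (huniv ▸ Set.mem_univ (u • R) : u • R ∈ orbit (zpowers x) Q ∪ orbit (zpowers x) R) with h | h
            · exact absurd (hu1 ▸ hinv _ h) hRQ
            · exact h
        · push Not at hsome
          have hmov : ∀ Q : Sylow 3 G, u • Q ≠ Q := fun Q h => hsome Q (h.symm ▸ mem_orbit_self Q)
          set σ := MulAction.toPermHom G (Sylow 3 G) u with hσ
          have hσ2 : orderOf σ = 2 := by
            refine orderOf_eq_prime ?_ ?_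
            · rw [hσ, ← map_pow, ← hu, pow_orderOf_eq_one, map_one]
            · intro h1
              exact hmov P (Equiv.congr_fun h1 P)
          obtain ⟨m, hm⟩ := Equiv.Perm.cycleType_prime_order (σ := σ) (by rw [hσ2]; norm_num)
          rw [hσ2] at hm
          have hsupp : σ.support = Finset.univ := Finset.eq_univ_iff_forall.mpr fun Q =>
            Equiv.Perm.mem_support.mpr (hmov Q)
          have h1 := Equiv.Perm.sum_cycleType σ
          rw [hsupp, Finset.card_univ, ← Nat.card_eq_fintype_card, hn, hm, Multiset.sum_replicate,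
            smul_eq_mul] at h1
          have hs := sign_eq_one hbig (MulAction.toPermHom G (Sylow 3 G)) u
          rw [← hσ, Equiv.Perm.sign_of_cycleType, hm, Multiset.sum_replicate, Multiset.card_replicate,
            smul_eq_mul] at hs
          have hm10 : m = 10 := by omega
          subst hm10
          exact absurd hs (by decide)
      · refine hkill fun Q => mem_orbit_of_commute hr hu (by norm_num) hx hc (hxmov Q) ?_
        have := hr.two_le
        omega
    obtain ⟨k, hk⟩ := IsPGroup.iff_card.mp hp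
    refine (eq_of_le_of_card_ge ?_ ?_).symm
    · intro a ha
      rw [mem_centralizer_iff]
      intro c hc
      obtain ⟨i, rfl⟩ := mem_zpowers_iff.mp ha
      obtain ⟨j, rfl⟩ := mem_zpowers_iff.mp hc
      rw [← zpow_add, ← zpow_add, add_comm]
    · rw [Nat.card_zpowers, hx, hk]
      rcases Nat.lt_or_ge k 2 with h | h
      · exact Nat.le_trans (Nat.pow_le_pow_right (by norm_num) (show k ≤ 1 by omega)) (le_of_eq (pow_one 11))
      · exfalso
        have h121 : 11 ^ 2 ∣ 132 * b := by
          rw [← hG]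
          exact (pow_dvd_pow 11 h).trans (hk ▸ card_subgroup_dvd_card _)
        have : 11 ∣ 12 * b := Nat.dvd_of_mul_dvd_mul_left (by norm_num : 0 < 11)
          (by rw [← mul_assoc]; simpa using h121)
        rcases (Nat.Prime.dvd_mul (by norm_num)).mp this with h | h
        · norm_num at h
        · exact hb11 h
  have hSyl : ¬ 11 ∣ (zpowers x).index := by
    intro h
    have := (zpowers x).card_mul_index
    rw [Nat.card_zpowers, hx, hG] at this
    have h2 : (zpowers x).index = 12 * b := by omega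
    rw [h2] at h
    rcases (Nat.Prime.dvd_mul (by norm_num)).mp h with h | h
    · norm_num at h
    · exact hb11 h
  set S : Sylow 11 G := (IsPGroup.of_card (n := 1) (by rw [Nat.card_zpowers, hx, pow_one]) :
    IsPGroup 11 (zpowers x)).toSylow hSyl with hSdef
  have hScoe : (S : Subgroup G) = zpowers x := IsPGroup.toSylow_coe _ _
  set N := normalizer ((S : Subgroup G) : Set G) with hN
  set e := (zpowers x).relIndex N with he
  have hxN : zpowers x ≤ N := hScoe ▸ le_normalizer
  have hNcard : Nat.card N = 11 * e := by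
    have h1 := relIndex_mul_relIndex ⊥ (zpowers x) N bot_le hxN
    rw [relIndex_bot_left, relIndex_bot_left, Nat.card_zpowers, hx] at h1
    exact h1.symm
  have he10 : e ∣ 10 := by
    have h1 := relIndex_centralizer_dvd_totient (zpowers x) (Subgroup.isCyclic_zpowers x)
    rw [hCx, Nat.card_zpowers, hx, Nat.totient_prime (by norm_num)] at h1
    rw [he, hN, hScoe]
    exact h1
  have he1 : e ≠ 1 := by
    intro h
    rw [he, hN, hScoe, relIndex_eq_one] at h
    refine not_normalizer_le_centralizer S ?_ ?_ ?_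
    · rw [hScoe, Ne, zpowers_eq_bot]; rintro rfl; rw [orderOf_one] at hx; omega
    · intro h2
      have := Nat.card_zpowers x
      rw [← hScoe, h2, card_top, hx, hG] at this
      omega
    · rw [hScoe, hCx]; exact h
  have hn11 := S.card_eq_index_normalizer
  have hNidx : N.index * e = 12 * b := by
    have := N.card_mul_index
    rw [hNcard, hG] at this
    nlinarith
  have hmod : Nat.card (Sylow 11 G) % 11 = 1 := card_sylow_modEq_one 11 G
  obtain ⟨he', hbval⟩ : e = b ∧ (b = 2 ∨ b = 5 ∨ b = 10) := by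
    have h7 := DegreeSeven.card_ne hXcard φ.range
    rw [hrange] at h7
    have := cases_eb e b he10 he1 hb560 (Nat.card (Sylow 11 G)) hmod (by rw [hn11]; exact hNidx)
    omega
  have hY : Nat.card (Sylow 11 G) = 12 := by
    rw [hn11]
    change N.index = 12
    rw [he'] at hNidx
    exact Nat.eq_of_mul_eq_mul_right (by omega) hNidx
  haveI : Nontrivial (Sylow 11 G) := Finite.one_lt_card_iff_nontrivial.mp (by omega)
  have hNall : ∀ Q : Sylow 11 G, Nat.card (normalizer ((Q : Subgroup G) : Set G)) = 11 * b := by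
    intro Q
    have h1 := Q.card_eq_index_normalizer
    rw [hY] at h1
    have h2 := (normalizer ((Q : Subgroup G) : Set G)).card_mul_index
    rw [show (normalizer ((Q : Subgroup G) : Set G)).index = 12 from h1.symm, hG] at h2
    omega
  have hzY : ∀ Q : Sylow 11 G, z • Q ≠ Q := by
    intro Q hQ
    have h1 := orderOf_dvd_natCard (⟨z, Sylow.smul_eq_iff_mem_normalizer.mp hQ⟩ :
      normalizer ((Q : Subgroup G) : Set G))
    rw [Subgroup.orderOf_mk, hz] at h1
    have h1' : 3 ∣ 11 * b := hNall Q ▸ h1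
    omega
  by_cases hb2 : b = 2
  swap
  · -- b = 5 or 10
    haveI : Fact (Nat.Prime 5) := ⟨by norm_num⟩
    obtain ⟨⟨u, huC⟩, hu⟩ := exists_prime_orderOf_dvd_card' (G := C) 5
      (by rw [hb]; exact Dvd.dvd.mul_left (by omega) 3)
    rw [Subgroup.orderOf_mk] at hu
    have : u ^ 3 = 1 := faithful_of_simple (Sylow 11 G) fun Q =>
      pow_smul_eq_of_mem_orbit (hzC u huC) (by rw [← hz]; exact pow_orderOf_eq_one z)
        (mem_orbit_of_commute (by norm_num) hu Nat.prime_three hz (hzC u huC) (hzY Q) (by omega))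
    have := orderOf_dvd_of_pow_eq_one this
    rw [hu] at this
    norm_num at this
  -- b = 2 : the group would have order 264
  rw [hb2] at hG hb hNall
  haveI := Fintype.ofFinite G
  haveI := Fintype.ofFinite (Sylow 11 G)
  let fx : G → ℕ := fun g => (Finset.univ.filter fun Q : Sylow 11 G => g • Q = Q).card
  have hsum : ∑ g : G, fx g = 264 := by
    have h := Finset.sum_card_bipartiteAbove_eq_sum_card_bipartiteBelow
      (s := (Finset.univ : Finset G)) (t := (Finset.univ : Finset (Sylow 11 G)))
      (fun g Q => g • Q = Q)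
    refine h.trans ?_
    rw [Finset.sum_congr rfl (g := fun _ => 22) fun Q _ => ?_, Finset.sum_const, Finset.card_univ,
      ← Nat.card_eq_fintype_card, hY, smul_eq_mul]
    rw [Finset.bipartiteBelow, ← Fintype.card_subtype, ← Nat.card_eq_fintype_card]
    refine Eq.trans (Nat.card_congr (Equiv.subtypeEquivRight fun g => ?_)) (hNall Q)
    exact Sylow.smul_eq_iff_mem_normalizer
  have hQcard : ∀ Q : Sylow 11 G, Nat.card Q = 11 := fun Q => by
    rw [Nat.card_congr (Sylow.equiv Q S).toEquiv]
    rw [hScoe, Nat.card_zpowers, hx]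
  have hQgen : ∀ Q : Sylow 11 G, ∀ w ∈ (Q : Subgroup G), w ≠ 1 → orderOf w = 11 ∧ (Q : Subgroup G) = zpowers w := by
    intro Q w hw hw1
    have hd := orderOf_dvd_natCard (⟨w, hw⟩ : (Q : Subgroup G))
    rw [Subgroup.orderOf_mk, hQcard Q] at hd
    have ho : orderOf w = 11 := ((Nat.dvd_prime (by norm_num)).mp hd).resolve_left (by
      rwa [orderOf_eq_one_iff])
    refine ⟨ho, (eq_of_le_of_card_ge (zpowers_le.mpr hw) ?_).symm⟩
    rw [Nat.card_zpowers, ho]
    exact (hQcard Q).le
  have hfree : ∀ Q R : Sylow 11 G, R ≠ Q → ∀ w ∈ (Q : Subgroup G), w • R = R → w = 1 := by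
    intro Q R hR w hw hfix
    by_contra hw1
    obtain ⟨-, hgen'⟩ := hQgen Q w hw hw1
    refine hR (eq_of_le_normalizer ?_).symm
    rw [hgen', zpowers_le]
    exact Sylow.smul_eq_iff_mem_normalizer.mp hfix
  have hCQ : ∀ Q : Sylow 11 G, ∀ g : G, (∀ w ∈ (Q : Subgroup G), w * g = g * w) → g ∈ (Q : Subgroup G) := by
    intro Q g hg
    obtain ⟨k, hk⟩ := exists_smul_eq G S Q
    have hmem : k⁻¹ * g * k ∈ centralizer ((zpowers x : Subgroup G) : Set G) := by
      rw [mem_centralizer_iff]
      intro w hw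
      have hw' : k * w * k⁻¹ ∈ (Q : Subgroup G) := by
        rw [← hk, Sylow.coe_subgroup_smul]
        exact Subgroup.smul_mem_pointwise_smul _ (MulAut.conj k) _ (hScoe ▸ hw)
      calc w * (k⁻¹ * g * k) = k⁻¹ * ((k * w * k⁻¹) * g) * k := by group
        _ = k⁻¹ * (g * (k * w * k⁻¹)) * k := by rw [hg _ hw']
        _ = (k⁻¹ * g * k) * w := by group
    rw [hCx, ← hScoe] at hmem
    rw [← hk, Sylow.coe_subgroup_smul]
    have := Subgroup.smul_mem_pointwise_smul _ (MulAut.conj k) _ hmem
    rwa [MulAut.smul_def, MulAut.conj_apply, show k * (k⁻¹ * g * k) * k⁻¹ = g by group] at this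
  have hfix11 : ∀ g : G, orderOf g = 11 → fx g ≤ 1 := by
    intro g hg
    refine Finset.card_le_one.mpr fun Q hQ R hR => ?_
    simp only [Finset.mem_filter, Finset.mem_univ, true_and] at hQ hR
    by_contra hne
    have hgQ : g ∈ (Q : Subgroup G) :=
      mem_sylow_of_mem_normalizer (isPGroup_zpowers (k := 1) (by rw [hg, pow_one])) Q
        (Sylow.smul_eq_iff_mem_normalizer.mp hQ)
    have := hfree Q R (Ne.symm hne) g hgQ hR
    rw [this, orderOf_one] at hg
    omega
  have hfix2 : ∀ g : G, g ≠ 1 → fx g ≤ 2 := by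
    intro g hg1
    by_contra hlt
    push Not at hlt
    obtain ⟨Q, R, R', hQ, hR, hR', hne1, hne2, hne3⟩ := Finset.two_lt_card_iff.mp hlt
    simp only [Finset.mem_filter, Finset.mem_univ, true_and] at hQ hR hR'
    haveI : IsCyclic (Q : Subgroup G) := isCyclic_of_prime_card (hQcard Q)
    obtain ⟨w, hwQ, hw1⟩ : ∃ w ∈ (Q : Subgroup G), w ≠ 1 := by
      suffices hb : (Q : Subgroup G) ≠ ⊥ by
        obtain ⟨⟨w, hw'⟩, hw⟩ := Subgroup.ne_bot_iff_exists_ne_one.mp hb
        exact ⟨w, hw', fun h => hw (Subtype.ext h)⟩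
      intro h; have := hQcard Q; rw [h, Subgroup.card_bot] at this; omega
    obtain ⟨hw, hQw⟩ := hQgen Q w hwQ hw1
    have hwR : w • R ≠ R := fun h => hw1 (hfree Q R (Ne.symm hne1) w hwQ h)
    have horbR : (orbit (zpowers w) R).ncard = 11 := by
      rw [← Nat.card_coe_set_eq]
      refine orbit_eq_of_fpf hw hwR ?_
      rw [Nat.card_coe_set_eq]
      have := Set.ncard_le_ncard (Set.subset_univ (orbit (zpowers w) R)) (Set.toFinite _)
      rw [Set.ncard_univ, hY] at this
      omega
    have hsub : orbit (zpowers w) R ⊆ ({Q}ᶜ : Set (Sylow 11 G)) := by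
      rintro T ⟨⟨v, hv⟩, rfl⟩ h
      change v • R = Q at h
      refine hne1 ?_
      rw [← inv_smul_smul v R, h]
      exact (Sylow.smul_eq_iff_mem_normalizer.mpr (inv_mem (le_normalizer (hQw ▸ hv)))).symm
    have heq : orbit (zpowers w) R = ({Q}ᶜ : Set (Sylow 11 G)) := by
      refine Set.eq_of_subset_of_ncard_le hsub ?_ (Set.toFinite _)
      rw [Set.ncard_compl, Set.ncard_singleton, hY, horbR]
    obtain ⟨⟨v, hv⟩, hvR⟩ : R' ∈ orbit (zpowers w) R := by
      rw [heq]; exact Ne.symm hne2
    replace hvR : v • R = R' := hvR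
    have hvQ : v ∈ (Q : Subgroup G) := hQw ▸ hv
    have hgN := Sylow.smul_eq_iff_mem_normalizer.mp hQ
    have hv' : v⁻¹ * (g * v * g⁻¹) ∈ (Q : Subgroup G) :=
      mul_mem (inv_mem hvQ) ((mem_normalizer_iff.mp hgN v).mp hvQ)
    have hveq : v⁻¹ * (g * v * g⁻¹) = 1 := by
      refine hfree Q R (Ne.symm hne1) _ hv' ?_
      have e1 : g⁻¹ • R = R := inv_smul_eq_iff.mpr hR.symm
      rw [mul_smul, mul_smul, mul_smul, e1, hvR, hR', ← hvR, inv_smul_smul]
    have hv1 : v ≠ 1 := by rintro rfl; rw [one_smul] at hvR; exact hne3 hvR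
    obtain ⟨-, hQv⟩ := hQgen Q v hvQ hv1
    have hcomm : Commute g v := by
      have : g * v * g⁻¹ = v := by
        calc g * v * g⁻¹ = v * (v⁻¹ * (g * v * g⁻¹)) := by group
          _ = v := by rw [hveq, mul_one]
      calc g * v = (g * v * g⁻¹) * g := by group
        _ = v * g := by rw [this]
    have hgQ : g ∈ (Q : Subgroup G) := hCQ Q g fun t ht => by
      rw [hQv] at ht
      obtain ⟨i, rfl⟩ := mem_zpowers_iff.mp ht
      exact ((hcomm.zpow_right i).eq).symm
    exact hg1 (hfree Q R (Ne.symm hne1) g hgQ hR)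
  have hfix0 : ∀ g : G, orderOf g = 3 ∨ orderOf g = 6 → fx g = 0 := by
    intro g hg
    refine Finset.card_eq_zero.mpr (Finset.filter_eq_empty_iff.mpr fun Q _ hQ => ?_)
    have h1 := orderOf_dvd_natCard (⟨g, Sylow.smul_eq_iff_mem_normalizer.mp hQ⟩ :
      normalizer ((Q : Subgroup G) : Set G))
    rw [Subgroup.orderOf_mk] at h1
    have h1' : orderOf g ∣ 11 * 2 := hNall Q ▸ h1
    rcases hg with h | h <;> rw [h] at h1' <;> omega
  have hcount11 : 120 ≤ {g : G | orderOf g = 11}.ncard := by
    have := le_ncard_biUnion (fun Q : Sylow 11 G => ((Q : Subgroup G) : Set G) \ {1}) 10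
      (fun Q => by
        rw [Set.ncard_sdiff_singleton_of_mem (one_mem (Q : Subgroup G)), ← Nat.card_coe_set_eq]
        exact le_of_eq (by rw [show Nat.card ((Q : Subgroup G) : Set G) = 11 from hQcard Q]))
      (fun Q R a hQ hR => by
        have h1 := (hQgen Q a hQ.1 hQ.2).2
        have h2 := (hQgen R a hR.1 hR.2).2
        exact Sylow.ext (h1.trans h2.symm))
    rw [hY] at this
    refine this.trans (Set.ncard_le_ncard ?_ (Set.toFinite _))
    intro a ha
    obtain ⟨Q, hQ⟩ := Set.mem_iUnion.mp ha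
    exact (hQgen Q a hQ.1 hQ.2).1
  have hmem3 : ∀ T : Sylow 3 G, ∀ w ∈ (T : Subgroup G), w ≠ 1 → orderOf w = 3 ∧ (T : Subgroup G) = zpowers w := by
    intro T w hw hw1
    have hd := orderOf_dvd_natCard (⟨w, hw⟩ : (T : Subgroup G))
    rw [Subgroup.orderOf_mk, h3 T] at hd
    have ho : orderOf w = 3 := ((Nat.dvd_prime Nat.prime_three).mp hd).resolve_left (by
      rwa [orderOf_eq_one_iff])
    refine ⟨ho, (eq_of_le_of_card_ge (zpowers_le.mpr hw) ?_).symm⟩
    rw [Nat.card_zpowers, ho]
    exact (h3 T).le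
  have hcount3 : 44 ≤ {g : G | orderOf g = 3}.ncard := by
    have := le_ncard_biUnion (fun T : Sylow 3 G => ((T : Subgroup G) : Set G) \ {1}) 2
      (fun T => by
        rw [Set.ncard_sdiff_singleton_of_mem (one_mem (T : Subgroup G)), ← Nat.card_coe_set_eq]
        exact le_of_eq (by rw [show Nat.card ((T : Subgroup G) : Set G) = 3 from h3 T]))
      (fun Q R a hQ hR => Sylow.ext ((hmem3 Q a hQ.1 hQ.2).2.trans (hmem3 R a hR.1 hR.2).2.symm))
    rw [hn] at this
    refine this.trans (Set.ncard_le_ncard ?_ (Set.toFinite _))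
    intro a ha
    obtain ⟨T, hT⟩ := Set.mem_iUnion.mp ha
    exact (hmem3 T a hT.1 hT.2).1
  have hcount6 : 44 ≤ {g : G | orderOf g = 6}.ncard := by
    haveI : Fact (Nat.Prime 2) := ⟨Nat.prime_two⟩
    obtain ⟨⟨y, hyC⟩, hy⟩ := exists_prime_orderOf_dvd_card' (G := C) 2 (by rw [hb]; norm_num)
    rw [Subgroup.orderOf_mk] at hy
    have hw : orderOf (y * z) = 6 := by
      rw [(hzC y hyC).orderOf_mul_eq_mul_orderOf_of_coprime (by rw [hy, hz]; norm_num), hy, hz]
    have hsel : ∀ T : Sylow 3 G, ∃ g : G, g • P = T := fun T => exists_smul_eq G P T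
    choose t ht using hsel
    let w : Sylow 3 G → G := fun T => t T * (y * z) * (t T)⁻¹
    have hw6 : ∀ T, orderOf (w T) = 6 := fun T => by
      rw [show w T = MulAut.conj (t T) (y * z) from rfl, MulEquiv.orderOf_eq, hw]
    have hwsq : ∀ T : Sylow 3 G, (w T) ^ 2 ∈ (T : Subgroup G) := by
      intro T
      have : (y * z) ^ 2 ∈ (P : Subgroup G) := by
        rw [(hzC y hyC).mul_pow, ← hy, pow_orderOf_eq_one, one_mul]
        exact pow_mem hzP _
      have h2 : (w T) ^ 2 ∈ ((t T • P : Sylow 3 G) : Subgroup G) := by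
        rw [Sylow.coe_subgroup_smul, show w T = MulAut.conj (t T) (y * z) from rfl, ← map_pow]
        exact Subgroup.smul_mem_pointwise_smul _ (MulAut.conj (t T)) _ this
      rwa [ht T] at h2
    have := le_ncard_biUnion (fun T : Sylow 3 G => ({w T, (w T)⁻¹} : Set G)) 2
      (fun T => by
        rw [Set.ncard_pair]
        intro h
        have h2 : (w T) ^ 2 = 1 := by rw [pow_two]; nth_rw 2 [h]; exact mul_inv_cancel _
        have := orderOf_dvd_of_pow_eq_one h2
        rw [hw6 T] at this
        omega)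
      (fun T R a hT hR => by
        have key : ∀ U : Sylow 3 G, a ∈ ({w U, (w U)⁻¹} : Set G) → a ^ 2 ∈ (U : Subgroup G) ∧ a ^ 2 ≠ 1 := by
          intro U hU
          constructor
          · rcases hU with rfl | rfl
            · exact hwsq U
            · rw [inv_pow]; exact inv_mem (hwsq U)
          · intro h
            have h1 := orderOf_dvd_of_pow_eq_one h
            rcases hU with rfl | rfl
            · rw [hw6 U] at h1; omega
            · rw [orderOf_inv, hw6 U] at h1; omega
        obtain ⟨a1, a2⟩ := key T hT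
        obtain ⟨b1, b2⟩ := key R hR
        exact Sylow.ext ((hmem3 T _ a1 a2).2.trans (hmem3 R _ b1 b2).2.symm))
    rw [hn] at this
    refine this.trans (Set.ncard_le_ncard ?_ (Set.toFinite _))
    intro a ha
    obtain ⟨T, hT⟩ := Set.mem_iUnion.mp ha
    rcases hT with rfl | rfl
    · exact hw6 T
    · exact (orderOf_inv _).trans (hw6 T)
  -- final count
  let bound : G → ℕ := fun g => if g = 1 then 12 else if orderOf g = 11 then 1
    else if orderOf g = 3 ∨ orderOf g = 6 then 0 else 2
  have hle : ∀ g : G, fx g ≤ bound g := by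
    intro g
    simp only [bound]
    split_ifs with h1 h2 h3'
    · exact (Finset.card_filter_le _ _).trans (by rw [Finset.card_univ, ← Nat.card_eq_fintype_card, hY])
    · exact hfix11 g h2
    · exact (hfix0 g h3').le
    · exact hfix2 g h1
  let A : Finset G := Finset.univ.filter fun g => orderOf g = 11
  let B : Finset G := Finset.univ.filter fun g => orderOf g = 3 ∨ orderOf g = 6
  have hA : 120 ≤ A.card := by
    rw [Set.ncard_eq_toFinset_card' ] at hcount11
    refine hcount11.trans (le_of_eq (congrArg Finset.card ?_))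
    ext g; simp [A]
  have hB : 88 ≤ B.card := by
    have hd : Disjoint {g : G | orderOf g = 3} {g : G | orderOf g = 6} :=
      Set.disjoint_left.mpr fun g (h1 : orderOf g = 3) (h2 : orderOf g = 6) => by omega
    have h1 := Set.ncard_union_eq hd (Set.toFinite _) (Set.toFinite _)
    rw [Set.ncard_eq_toFinset_card'] at h1
    have h2 : ({g : G | orderOf g = 3} ∪ {g : G | orderOf g = 6}).toFinset = B := by ext g; simp [B]
    rw [h2] at h1
    omega
  have hpt : ∀ g : G, bound g + ((if g ∈ A then 1 else 0) + 2 * (if g ∈ B then 1 else 0)) =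
      2 + (if g = 1 then 10 else 0) := by
    intro g
    simp only [bound, A, B, Finset.mem_filter, Finset.mem_univ, true_and]
    by_cases h1 : g = 1
    · subst h1; simp [orderOf_one]
    · split_ifs <;> omega
  have hsumb := Finset.sum_congr (s₁ := (Finset.univ : Finset G)) rfl (fun g _ => hpt g)
  rw [Finset.sum_add_distrib, Finset.sum_add_distrib, ← Finset.mul_sum, Finset.sum_boole,
    Finset.sum_boole, Finset.sum_add_distrib, Finset.sum_const, Finset.sum_ite_eq',
    Finset.card_univ, ← Nat.card_eq_fintype_card, hG, smul_eq_mul] at hsumb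
  simp only [Finset.filter_univ_mem, Nat.cast_id, Finset.mem_univ, if_true] at hsumb
  have := Finset.sum_le_sum (s := (Finset.univ : Finset G)) fun g _ => hle g
  omega

end Cfsg.Agent.Lib.SylowNumbers.N22Small
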