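import Cfsg.Agent.Lib.SylowNumbers.Actions

/-!
Sylow numbers of quotients by subgroups normalising every Sylow subgroup, and of normal subgroups of
index prime to p.
-/

set_option autoImplicit false
set_option linter.unusedSectionVars false

namespace Cfsg.Agent.Lib.SylowNumbers.Quotient

open Subgroup MulAction
open Cfsg.Agent.Lib.SylowNumbers.Basic
open Cfsg.Agent.Lib.SylowNumbers.Actions
open scoped Pointwise

variable {G : Type*} [Group G] [Finite G] {p : ℕ} [Fact p.Prime]

theorem card_sylow_quotient (K : Subgroup G) [K.Normal]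
    (hK : ∀ R : Sylow p G, K ≤ normalizer ((R : Subgroup G) : Set G)) :
    Nat.card (Sylow p (G ⧸ K)) = Nat.card (Sylow p G) := by
  refine (Nat.card_congr (Equiv.ofBijective _
    ⟨fun R R' h => ?_, Sylow.mapSurjective_surjective (QuotientGroup.mk'_surjective K) p⟩)).symm
  have h' : (R : Subgroup G).map (QuotientGroup.mk' K) = (R' : Subgroup G).map (QuotientGroup.mk' K) :=
    congrArg (fun S => S.toSubgroup) h
  refine (eq_of_le_normalizer (fun a ha => ?_)).symm
  obtain ⟨b, hb, hba⟩ : QuotientGroup.mk' K a ∈ (R : Subgroup G).map (QuotientGroup.mk' K) :=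
    h'.symm ▸ Subgroup.mem_map_of_mem _ ha
  have hk : b⁻¹ * a ∈ K := by
    rw [← QuotientGroup.ker_mk' K, MonoidHom.mem_ker, map_mul, map_inv, hba, inv_mul_cancel]
  have := mul_mem (le_normalizer hb) (hK R hk)
  rwa [mul_inv_cancel_left] at this

theorem sylow_le_of_index (H : Subgroup G) [H.Normal] (h : ¬ p ∣ H.index) (Q : Sylow p G) :
    (Q : Subgroup G) ≤ H := by
  obtain ⟨P, hP⟩ := exists_sylow_le (p := p) H h
  obtain ⟨g, rfl⟩ := exists_smul_eq G P Q
  rintro x ⟨y, hy, rfl⟩
  exact (inferInstance : H.Normal).conj_mem y (hP hy) g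

theorem card_sylow_normal (H : Subgroup G) [H.Normal] (h : ¬ p ∣ H.index) :
    Nat.card (Sylow p H) = Nat.card (Sylow p G) := by
  refine (Nat.card_congr (Equiv.ofBijective
    (fun Q : Sylow p G => Q.subtype (sylow_le_of_index H h Q)) ⟨?_, ?_⟩)).symm
  · intro Q Q' e
    exact Sylow.subtype_injective e
  · intro S
    obtain ⟨Q, hQ⟩ := Sylow.exists_comap_subtype_eq S
    exact ⟨Q, Sylow.ext hQ⟩

end Cfsg.Agent.Lib.SylowNumbers.Quotient
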