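import Mathlib

/-!
Redundant Sylow subgroups: generalities and invariance under central quotients.
-/

set_option autoImplicit false
set_option linter.unusedSectionVars false
set_option linter.style.haveILetI false

namespace Cfsg.Agent.Lib.SylowNumbers.Redundant

variable {p : ℕ} [Fact p.Prime] {G H : Type*} [Group G] [Group H]

/-- Some Sylow `p`-subgroup is redundant for covering the `p`-elements. -/
def Red (p : ℕ) (G : Type*) [Group G] : Prop :=
  ∃ Q : Sylow p G, ∀ x : G, (∃ k : ℕ, orderOf x = p ^ k) → ∃ P : Sylow p G, P ≠ Q ∧ x ∈ P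

theorem isPElement_of_mem {Q : Sylow p G} {x : G} (hx : x ∈ Q) : ∃ k : ℕ, orderOf x = p ^ k := by
  obtain ⟨k, hk⟩ := IsPGroup.iff_orderOf.mp Q.isPGroup' ⟨x, hx⟩
  exact ⟨k, by rwa [Subgroup.orderOf_mk] at hk⟩

theorem exists_sylow_mem {x : G} (hx : ∃ k : ℕ, orderOf x = p ^ k) : ∃ P : Sylow p G, x ∈ P := by
  obtain ⟨k, hk⟩ := hx
  obtain ⟨P, hP⟩ := (IsPGroup.of_card (n := k) (by rw [Nat.card_zpowers, hk]) :
    IsPGroup p (Subgroup.zpowers x)).exists_le_sylow
  exact ⟨P, hP (Subgroup.mem_zpowers x)⟩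

theorem not_red_of_unique
    (h : ∀ Q : Sylow p G, ∃ x ∈ Q, ∀ P : Sylow p G, x ∈ P → P = Q) : ¬ Red p G := by
  rintro ⟨Q, hQ⟩
  obtain ⟨x, hxQ, hx⟩ := h Q
  obtain ⟨P, hne, hxP⟩ := hQ x (isPElement_of_mem hxQ)
  exact hne (hx P hxP)

theorem red_of_two (h : ∀ x : G, (∃ k : ℕ, orderOf x = p ^ k) →
    ∃ P P' : Sylow p G, P ≠ P' ∧ x ∈ P ∧ x ∈ P') : Red p G := by
  obtain ⟨Q⟩ := (inferInstance : Nonempty (Sylow p G))
  refine ⟨Q, fun x hx => ?_⟩
  obtain ⟨P, P', hne, h1, h2⟩ := h x hx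
  by_cases hP : P = Q
  · exact ⟨P', fun e => hne (hP.trans e.symm), h2⟩
  · exact ⟨P, hP, h1⟩

theorem not_red_of_isCyclic (h : ∀ Q : Sylow p G, IsCyclic (Q : Subgroup G)) [Finite G] :
    ¬ Red p G := by
  refine not_red_of_unique fun Q => ?_
  have := h Q
  obtain ⟨g, hg⟩ := IsCyclic.exists_generator (α := (Q : Subgroup G))
  refine ⟨g, g.2, fun P hP => ?_⟩
  refine Sylow.ext (Q.is_maximal' P.isPGroup' fun y hy => ?_)
  obtain ⟨n, hn⟩ := Subgroup.mem_zpowers_iff.mp (hg ⟨y, hy⟩)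
  have e : y = ((g : G)) ^ n := by rw [← Subgroup.coe_zpow, hn]
  rw [e]
  exact Subgroup.zpow_mem _ hP n

section CentralQuotient

variable [Finite G] {f : G →* H}

/-- A `p`-element of `P * ker f` lies in `P` when the kernel is central. -/
theorem mem_of_map_mem (hker : f.ker ≤ Subgroup.center G) (P : Sylow p G) {x : G}
    (hx : ∃ k : ℕ, orderOf x = p ^ k) (h : f x ∈ (P : Subgroup G).map f) : x ∈ P := by
  obtain ⟨y, hy, hxy⟩ := h
  have hz : y⁻¹ * x ∈ Subgroup.center G := hker (by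
    rw [MonoidHom.mem_ker, map_mul, map_inv, hxy, inv_mul_cancel])
  have hn : x ∈ Subgroup.normalizer ((P : Subgroup G) : Set G) := by
    have e : x = y * (y⁻¹ * x) := by group
    rw [e]
    refine Subgroup.mul_mem _ (Subgroup.le_normalizer hy) ?_
    exact (Subgroup.center_le_normalizer _) hz
  obtain ⟨k, hk⟩ := hx
  have hpg : IsPGroup p (Subgroup.zpowers x) :=
    IsPGroup.of_card (n := k) (by rw [Nat.card_zpowers, hk])
  have hle : Subgroup.zpowers x ≤ Subgroup.normalizer ((P : Subgroup G) : Set G) :=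
    Subgroup.zpowers_le.mpr hn
  have h2 : IsPGroup p ((Subgroup.zpowers x ⊔ (P : Subgroup G) : Subgroup G)) :=
    hpg.to_sup_of_normal_right' P.isPGroup' hle
  have := P.is_maximal' h2 le_sup_right
  have h3 : x ∈ Subgroup.zpowers x ⊔ (P : Subgroup G) :=
    Subgroup.mem_sup_left (Subgroup.mem_zpowers x)
  rw [this] at h3
  exact h3

theorem red_iff_of_surjective (hf : Function.Surjective f) (hker : f.ker ≤ Subgroup.center G) :
    Red p G ↔ Red p H := by
  have hinj : Function.Injective (Sylow.mapSurjective hf : Sylow p G → Sylow p H) := by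
    intro P P' h
    refine Sylow.ext (P.is_maximal' P'.isPGroup' fun x hx => ?_).symm
    refine mem_of_map_mem hker P' (isPElement_of_mem hx) ?_
    rw [← Sylow.coe_mapSurjective hf P', ← h, Sylow.coe_mapSurjective]
    exact ⟨x, hx, rfl⟩
  constructor
  · rintro ⟨Q, hQ⟩
    refine ⟨Q.mapSurjective hf, fun y hy => ?_⟩
    obtain ⟨R, hR⟩ := exists_sylow_mem hy
    obtain ⟨R', rfl⟩ := Sylow.mapSurjective_surjective hf p R
    obtain ⟨x, hxR, rfl⟩ : y ∈ (R' : Subgroup G).map f := by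
      rwa [← Sylow.coe_mapSurjective hf R']
    obtain ⟨P, hne, hxP⟩ := hQ x (isPElement_of_mem hxR)
    refine ⟨P.mapSurjective hf, fun e => hne (hinj e), ?_⟩
    show f x ∈ ((P.mapSurjective hf : Sylow p H) : Subgroup H)
    rw [Sylow.coe_mapSurjective]
    exact ⟨x, hxP, rfl⟩
  · rintro ⟨Q, hQ⟩
    obtain ⟨Q', rfl⟩ := Sylow.mapSurjective_surjective hf p Q
    refine ⟨Q', fun x hx => ?_⟩
    obtain ⟨R, hR⟩ := exists_sylow_mem hx
    have hfx : f x ∈ R.mapSurjective hf := by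
      show f x ∈ ((R.mapSurjective hf : Sylow p H) : Subgroup H)
      rw [Sylow.coe_mapSurjective]
      exact ⟨x, hR, rfl⟩
    obtain ⟨P, hne, hP⟩ := hQ (f x) (isPElement_of_mem hfx)
    obtain ⟨P', rfl⟩ := Sylow.mapSurjective_surjective hf p P
    refine ⟨P', fun e => hne (by rw [e]), mem_of_map_mem hker P' hx ?_⟩
    rw [← Sylow.coe_mapSurjective hf P']
    exact hP

end CentralQuotient

end Cfsg.Agent.Lib.SylowNumbers.Redundant
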