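import Cfsg.Agent.Lib.SylowNumbers.Redundant
import Cfsg.Agent.Lib.Dickson.Setup
import Cfsg.Agent.Lib.ClassCount48.Basic
import Cfsg.Agent.Lib.Linear.Order

/-!
Which Sylow subgroups of `SL₂(q)` are redundant.
-/

set_option autoImplicit false
set_option linter.unusedSectionVars false
set_option linter.style.haveILetI false

namespace Cfsg.Agent.Lib.SylowNumbers.RedundantSL2

open Matrix Cfsg.Agent.Lib.Linear Cfsg.Agent.Lib.SylowNumbers.Redundant
open Cfsg.Agent.Lib.Dickson (negI coe_negI negI_mul_self nonScalar_iff commute_of_commute)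

variable {F : Type*} [Field F] [Fintype F]

local notation "SL2" => Matrix.SpecialLinearGroup (Fin 2) F
local notation "M2" => Matrix (Fin 2) (Fin 2) F

section Char

variable {ℓ : ℕ} [Fact ℓ.Prime] [CharP F ℓ]

theorem nonScalar_of_mem (P : Sylow ℓ SL2) {x : SL2} (hxP : x ∈ P) (hx : x ≠ 1) : NonScalar x := by
  refine nonScalar_iff.2 ?_
  rintro (h | h)
  · exact hx h
  · obtain ⟨k, hk⟩ := isPElement_of_mem hxP
    have h2 : orderOf x ∣ 2 := orderOf_dvd_of_pow_eq_one (by rw [sq, h, negI_mul_self])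
    have h1 : orderOf x ≠ 1 := fun e => hx (orderOf_eq_one_iff.mp e)
    have e2 : orderOf x = 2 := ((Nat.dvd_prime Nat.prime_two).mp h2).resolve_left h1
    have hl : ℓ = 2 := by
      have hp : ℓ.Prime := Fact.out
      have h2' : 2 ∣ ℓ ^ k := by rw [← hk, e2]
      exact ((Nat.prime_dvd_prime_iff_eq Nat.prime_two hp).mp
        (Nat.prime_two.dvd_of_dvd_pow h2')).symm
    subst hl
    apply hx
    rw [h]
    apply Subtype.ext
    rw [coe_negI, Matrix.SpecialLinearGroup.coe_one]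
    ext i j
    simp only [Matrix.neg_apply]
    exact CharTwo.neg_eq _

theorem commute_of_mem (P : Sylow ℓ SL2) {x : SL2} (hxP : x ∈ P) (hx : x ≠ 1) {a : SL2}
    (ha : a ∈ P) : a * x = x * a := by
  have : Nontrivial (P : Subgroup SL2) :=
    ⟨⟨⟨x, hxP⟩, 1, fun e => hx (congrArg Subtype.val e)⟩⟩
  have := P.isPGroup'.center_nontrivial
  obtain ⟨z, hz⟩ := exists_ne (1 : Subgroup.center (P : Subgroup SL2))
  have hz1 : ((z : (P : Subgroup SL2)) : SL2) ≠ 1 := fun e => hz (Subtype.ext (Subtype.ext e))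
  have hc : ∀ b ∈ P, b * ((z : (P : Subgroup SL2)) : SL2) = ((z : (P : Subgroup SL2)) : SL2) * b :=
    fun b hb => congrArg Subtype.val (Subgroup.mem_center_iff.mp z.2 ⟨b, hb⟩)
  exact commute_of_commute (nonScalar_of_mem P (z : (P : Subgroup SL2)).2 hz1) (hc a ha) (hc x hxP)

theorem eq_of_mem_char (P P' : Sylow ℓ SL2) {x : SL2} (hx : x ≠ 1) (h : x ∈ P) (h' : x ∈ P') :
    P' = P := by
  have hle : (P' : Subgroup SL2) ≤ Subgroup.normalizer ((P : Subgroup SL2) : Set SL2) := by
    intro b hb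
    rw [Subgroup.mem_normalizer_iff]
    have key : ∀ a ∈ P, b * a = a * b := fun a ha =>
      commute_of_commute (nonScalar_of_mem P h hx) (commute_of_mem P' h' hx hb)
        (commute_of_mem P h hx ha)
    intro a
    constructor
    · intro ha
      rw [key a ha, mul_inv_cancel_right]
      exact ha
    · intro ha
      have := key _ ha
      have e : a = b * a * b⁻¹ := by
        rw [← mul_assoc, ← mul_assoc] at this
        calc a = b⁻¹ * (b * a * b⁻¹ * b) := by group
          _ = b⁻¹ * (b * b * a * b⁻¹) := by rw [← this]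
          _ = _ := by group
      rw [e]; exact ha
  have h2 := P.is_maximal' (P'.isPGroup'.to_sup_of_normal_right' P.isPGroup' hle) le_sup_right
  refine Sylow.ext (P'.is_maximal' P.isPGroup' ?_).symm
  exact (le_sup_left : (P' : Subgroup SL2) ≤ (P' : Subgroup SL2) ⊔ P).trans h2.le

theorem not_red_char : ¬ Red ℓ SL2 := by
  refine not_red_of_unique fun Q => ?_
  have hp : ℓ.Prime := Fact.out
  obtain ⟨n, -, hn⟩ := exists_card_eq_pow (F := F) ℓ
  have hd : ℓ ∣ Nat.card SL2 := by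
    have h1 : ℓ ∣ Fintype.card F := by
      rw [hn]
      refine dvd_pow_self ℓ ?_
      rintro rfl
      rw [pow_zero] at hn
      exact (Fintype.one_lt_card (α := F)).ne' hn
    rw [card_SL_two]
    exact (h1.mul_right _).mul_right _
  have : Nontrivial (Q : Subgroup SL2) :=
    Finite.one_lt_card_iff_nontrivial.mp (hp.one_lt.trans_le
      (Nat.le_of_dvd Nat.card_pos (Q.dvd_card_of_dvd_card hd)))
  obtain ⟨x, hx⟩ := exists_ne (1 : (Q : Subgroup SL2))
  exact ⟨x, x.2, fun P hP => eq_of_mem_char Q P (fun e => hx (Subtype.ext e)) x.2 hP⟩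

end Char

theorem not_red_odd {r : ℕ} [Fact r.Prime] (hr : r ≠ 2) {ℓ : ℕ} [Fact ℓ.Prime] [CharP F ℓ]
    (hrl : r ≠ ℓ) : ¬ Red r SL2 :=
  not_red_of_isCyclic fun Q => isCyclic_of_isPGroup ℓ r hr hrl (Q : Subgroup SL2) Q.isPGroup'

theorem conj_of_sq_eq_neg_one (hF : Odd (Fintype.card F)) {x y : SL2}
    (hx : (x : M2) * (x : M2) = -1) (hy : (y : M2) * (y : M2) = -1) : ∃ g : SL2, g * x * g⁻¹ = y := by
  classical
  suffices key : ∀ z : SL2, (z : M2) * (z : M2) = -1 →
      ∃ g : SL2, (g : M2) * (z : M2) = ClassCount48.compan 0 1 * (g : M2) by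
    obtain ⟨g, hg⟩ := key x hx
    obtain ⟨g', hg'⟩ := key y hy
    refine ⟨g'⁻¹ * g, ?_⟩
    let c : SL2 := ⟨ClassCount48.compan 0 1, ClassCount48.det_comp 0 1⟩
    have e1 : g * x = c * g := Subtype.ext hg
    have e2 : g' * y = c * g' := Subtype.ext hg'
    calc g'⁻¹ * g * x * (g'⁻¹ * g)⁻¹ = g'⁻¹ * (g * x) * g⁻¹ * g' := by group
      _ = g'⁻¹ * (c * g') := by rw [e1]; group
      _ = y := by rw [← e2]; group
  intro z hz
  have h2 : (2 : F) ≠ 0 := two_ne_zero_of_odd_card hF
  have htr : Matrix.trace (z : M2) = 0 := by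
    have h := sl2_mul_self z
    rw [hz] at h
    have h' : Matrix.trace (z : M2) • (z : M2) = 0 := by
      have h3 := h.symm
      rwa [sub_eq_iff_eq_add, neg_add_cancel] at h3
    by_contra hne
    have h0 : (z : M2) = 0 := (smul_eq_zero.mp h').resolve_left hne
    have := z.2
    rw [h0] at this
    simp at this
  have hns : ClassCount48.NonScal (z : M2) := by
    by_contra hb
    unfold ClassCount48.NonScal at hb
    push Not at hb
    have hd := sl2_det z
    rw [Matrix.trace_fin_two] at htr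
    have h00 : (z : M2) 0 0 = 0 := by
      have : (2 : F) * (z : M2) 0 0 = 0 := by linear_combination htr + hb.2.2
      exact (mul_eq_zero.mp this).resolve_left h2
    rw [hb.1, ← hb.2.2, h00] at hd
    simp at hd
  obtain ⟨x₀, y₀, h0⟩ := ClassCount48.exists_qform_ne_zero hns
  obtain ⟨a, b, hab⟩ := FiniteField.exists_root_sum_quadratic (R := F)
    (f := Polynomial.X ^ 2) (g := Polynomial.X ^ 2 - Polynomial.C (ClassCount48.qform (z : M2) x₀ y₀))
    (Polynomial.degree_X_pow 2) (Polynomial.degree_X_pow_sub_C (by decide) _) (Nat.odd_iff.mp hF)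
  simp at hab
  refine ClassCount48.exists_conj_sl (N := ClassCount48.compan 0 1) (x' := a) (y' := b) (by rw [htr, ClassCount48.trace_comp])
    (by rw [z.2, ClassCount48.det_comp]) h0 ?_
  have e : ClassCount48.qform (ClassCount48.compan 0 1) a b = a ^ 2 + b ^ 2 := by
    simp [ClassCount48.qform, ClassCount48.compan]
  rw [e]
  linear_combination hab

section Two

variable {ℓ : ℕ} [Fact ℓ.Prime] [CharP F ℓ]

theorem two_ne_char (hF : Odd (Fintype.card F)) : ℓ ≠ 2 := by
  rintro rfl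
  obtain ⟨n, hn0, hn⟩ := exists_card_eq_pow (F := F) 2
  have h1 : Fintype.card F % 2 = 1 := Nat.odd_iff.mp hF
  have h2 : 2 ∣ Fintype.card F := by
    rw [hn]
    refine dvd_pow_self 2 ?_
    rintro rfl
    rw [pow_zero] at hn
    exact (Fintype.one_lt_card (α := F)).ne' hn
  omega

/-- The numerical data of the maximal torus of order divisible by four. -/
structure Torus (h₀ : Matrix.SpecialLinearGroup (Fin 2) F) (a m : ℕ) : Prop where
  two_le : 2 ≤ a
  odd : Odd m
  order : orderOf h₀ = 2 ^ a * m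
  or_eq : 2 ^ a * m = Fintype.card F - 1 ∨ 2 ^ a * m = Fintype.card F + 1
  val : (Nat.card (Matrix.SpecialLinearGroup (Fin 2) F)).factorization 2 = a + 1

theorem exists_torus (hF : Odd (Fintype.card F)) : ∃ h₀ : SL2, ∃ a m, Torus h₀ a m := by
  obtain ⟨k, hk⟩ := hF
  have hq : 1 < Fintype.card F := Fintype.one_lt_card
  have main : ∀ n other : ℕ, 4 ∣ n → n ≠ 0 →
      (∃ x : SL2, orderOf x = n) → Nat.card SL2 = Fintype.card F * other * n →
      (∃ s, other = 2 * (2 * s + 1)) → (n = Fintype.card F - 1 ∨ n = Fintype.card F + 1) →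
      ∃ h₀ : SL2, ∃ a m, Torus h₀ a m := by
    rintro n other h4 hn0 ⟨x, hx⟩ hcard ⟨s, hs⟩ hor
    refine ⟨x, n.factorization 2, n / 2 ^ n.factorization 2, ?_⟩
    have hdec : 2 ^ n.factorization 2 * (n / 2 ^ n.factorization 2) = n :=
      Nat.ordProj_mul_ordCompl_eq_self n 2
    refine ⟨?_, ?_, by rw [hdec, hx], by rw [hdec]; exact hor, ?_⟩
    · exact (Nat.Prime.pow_dvd_iff_le_factorization Nat.prime_two hn0).mp (by simpa using h4)
    · rw [Nat.odd_iff, ← Nat.two_dvd_ne_zero]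
      exact Nat.not_dvd_ordCompl Nat.prime_two hn0
    · rw [hcard, hs, Nat.factorization_mul (by positivity) hn0,
        Nat.factorization_mul (by omega) (by omega), Nat.factorization_mul (by omega) (by omega)]
      simp only [Finsupp.add_apply]
      rw [Nat.factorization_eq_zero_of_not_dvd (show ¬ 2 ∣ Fintype.card F by omega),
        Nat.factorization_eq_zero_of_not_dvd (show ¬ 2 ∣ 2 * s + 1 by omega),
        Nat.Prime.factorization_self Nat.prime_two]
      ring
  rcases Nat.even_or_odd k with ⟨s, hs⟩ | ⟨s, hs⟩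
  · exact main (Fintype.card F - 1) (Fintype.card F + 1) ⟨s, by omega⟩ (by omega)
      exists_orderOf_eq_card_sub_one (by rw [card_SL_two]; ring) ⟨s, by omega⟩ (Or.inl rfl)
  · exact main (Fintype.card F + 1) (Fintype.card F - 1) ⟨s + 1, by omega⟩ (by omega)
      exists_orderOf_eq_card_add_one (by rw [card_SL_two]) ⟨s, by omega⟩ (Or.inr rfl)

variable {h₀ : Matrix.SpecialLinearGroup (Fin 2) F} {a m : ℕ}

theorem Torus.m_pos (hT : Torus h₀ a m) : 0 < m := hT.odd.pos

theorem Torus.orderOf_pow_m (hT : Torus h₀ a m) : orderOf (h₀ ^ m) = 2 ^ a := by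
  rw [orderOf_pow, hT.order, Nat.gcd_eq_right (dvd_mul_left m (2 ^ a)),
    Nat.mul_div_cancel _ hT.m_pos]

theorem Torus.four_dvd (hT : Torus h₀ a m) : 4 ∣ 2 ^ a :=
  (pow_dvd_pow 2 hT.two_le : 2 ^ 2 ∣ 2 ^ a)

theorem not_dvd_two_mul_char (hF : Odd (Fintype.card F)) {n : ℕ} (h : 4 ∣ n) : ¬ n ∣ 2 * ℓ := by
  intro h'
  have h4 : 2 * 2 ∣ 2 * ℓ := h.trans h'
  have := (Nat.mul_dvd_mul_iff_left (by norm_num : 0 < 2)).mp h4
  exact two_ne_char (ℓ := ℓ) hF
    (((Nat.prime_dvd_prime_iff_eq Nat.prime_two Fact.out).mp this).symm)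

theorem mem_zpowers_of_commute (hF : Odd (Fintype.card F)) (hT : Torus h₀ a m) {g : SL2}
    (hg : g * h₀ ^ m = h₀ ^ m * g) : g ∈ Subgroup.zpowers h₀ := by
  obtain ⟨ℓ, hl⟩ := CharP.exists F
  have : Fact ℓ.Prime := ⟨(CharP.char_is_prime_or_zero F ℓ).resolve_right
    (fun h => CharP.char_ne_zero_of_finite F ℓ h)⟩
  set i : SL2 := (h₀ ^ m) ^ 2 ^ (a - 2) with hi
  have hio : orderOf i = 4 := by
    have e : 2 ^ a = 4 * 2 ^ (a - 2) := by
      rw [show (4 : ℕ) = 2 ^ 2 by norm_num, ← pow_add, Nat.add_sub_cancel' hT.two_le]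
    rw [hi, orderOf_pow, hT.orderOf_pow_m, e, Nat.gcd_eq_right (dvd_mul_left _ _),
      Nat.mul_div_cancel _ (by positivity)]
  have hcyc : IsCyclic (Subgroup.centralizer ({i} : Set SL2)) :=
    isCyclic_of_le_centralizer_of_not_dvd ℓ (x := i)
      (not_dvd_two_mul_char hF (by rw [hio])) _ le_rfl
  have hh0 : h₀ ∈ Subgroup.centralizer ({i} : Set SL2) := by
    rw [Subgroup.mem_centralizer_singleton_iff, hi]
    exact (((Commute.refl h₀).pow_right m).pow_right _).eq
  have hgc : g ∈ Subgroup.centralizer ({i} : Set SL2) := by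
    rw [Subgroup.mem_centralizer_singleton_iff, hi]
    exact (Commute.pow_right hg _).eq
  obtain ⟨c, hc⟩ := IsCyclic.exists_generator (α := Subgroup.centralizer ({i} : Set SL2))
  have hmem : ∀ y ∈ Subgroup.centralizer ({i} : Set SL2), y ∈ Subgroup.zpowers (c : SL2) := by
    intro y hy
    obtain ⟨n, hn⟩ := Subgroup.mem_zpowers_iff.mp (hc ⟨y, hy⟩)
    exact Subgroup.mem_zpowers_iff.mpr ⟨n, by rw [← Subgroup.coe_zpow, hn]⟩
  have hdvd : 2 ^ a * m ∣ orderOf (c : SL2) := by
    rw [← hT.order, ← Nat.card_zpowers (c : SL2), ← Nat.card_zpowers h₀]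
    exact Subgroup.card_dvd_of_le (Subgroup.zpowers_le.mpr (hmem h₀ hh0))
  have hc4 : 4 ∣ orderOf (c : SL2) := (hT.four_dvd.mul_right m).trans hdvd
  have hn4 : 4 ∣ 2 ^ a * m := hT.four_dvd.mul_right m
  have hle : orderOf (c : SL2) ∣ 2 ^ a * m := by
    have hor := hT.or_eq
    rcases orderOf_dvd_cases ℓ (c : SL2) with h | h | h
    · rcases hor with e | e
      · rwa [e]
      · have := hc4.trans h
        have hq : 1 < Fintype.card F := Fintype.one_lt_card
        omega
    · rcases hor with e | e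
      · have := hc4.trans h
        have hq : 1 < Fintype.card F := Fintype.one_lt_card
        omega
      · rwa [e]
    · exact absurd h (not_dvd_two_mul_char hF hc4)
  have heq : Subgroup.zpowers h₀ = Subgroup.zpowers (c : SL2) :=
    Subgroup.eq_of_le_of_card_ge (Subgroup.zpowers_le.mpr (hmem h₀ hh0)) (by
      rw [Nat.card_zpowers, Nat.card_zpowers, hT.order, Nat.dvd_antisymm hle hdvd])
  rw [heq]
  exact hmem g hgc

theorem commute_or_invert (hF : Odd (Fintype.card F)) (hT : Torus h₀ a m) {P : Sylow 2 SL2}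
    (hP : h₀ ^ m ∈ P) {g : SL2} (hg : g ∈ P) :
    g ∈ Subgroup.zpowers (h₀ ^ m) ∨ g * h₀ ^ m * g⁻¹ = (h₀ ^ m)⁻¹ := by
  obtain ⟨ℓ, hl⟩ := CharP.exists F
  have : Fact ℓ.Prime := ⟨(CharP.char_is_prime_or_zero F ℓ).resolve_right
    (fun h => CharP.char_ne_zero_of_finite F ℓ h)⟩
  set h := h₀ ^ m with hh
  have hcardP : Nat.card (P : Subgroup SL2) = 2 ^ (a + 1) := by
    rw [P.card_eq_multiplicity, hT.val]
  have hle : Subgroup.zpowers h ≤ (P : Subgroup SL2) := Subgroup.zpowers_le.mpr hP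
  have hidx : ((Subgroup.zpowers h).subgroupOf (P : Subgroup SL2)).index = 2 := by
    have h1 := ((Subgroup.zpowers h).subgroupOf (P : Subgroup SL2)).card_mul_index
    rw [Nat.card_congr (Subgroup.subgroupOfEquivOfLe hle).toEquiv, Nat.card_zpowers,
      hT.orderOf_pow_m, hcardP, pow_succ] at h1
    exact Nat.eq_of_mul_eq_mul_left (by positivity) h1
  have hnorm := Subgroup.normal_of_index_eq_two hidx
  have hconj : g * h * g⁻¹ ∈ Subgroup.zpowers h := by
    have := hnorm.conj_mem ⟨h, hP⟩ (Subgroup.mem_zpowers h) ⟨g, hg⟩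
    simpa [Subgroup.mem_subgroupOf] using this
  have hne : Matrix.trace (h : M2) ^ 2 ≠ 4 := by
    intro ht
    have := orderOf_dvd_of_pow_eq_one
      (Cfsg.Agent.Lib.Dickson.pow_two_mul_eq_one (p := ℓ) (two_ne_zero_of_odd_card hF) ht)
    rw [hh, hT.orderOf_pow_m] at this
    exact not_dvd_two_mul_char hF hT.four_dvd this
  obtain ⟨n, hn⟩ := Subgroup.mem_zpowers_iff.mp hconj
  have hc : g * h * g⁻¹ * h = h * (g * h * g⁻¹) := by
    rw [← hn]; exact (Commute.refl h).zpow_left n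
  rcases Cfsg.Agent.Lib.Dickson.eq_or_eq_inv_of_conj (two_ne_zero_of_odd_card hF) hne hc with e | e
  · left
    have hgh : g * h = h * g := by
      calc g * h = g * h * g⁻¹ * g := by group
        _ = h * g := by rw [e]
    obtain ⟨j, hj⟩ := mem_powers_iff_mem_zpowers.mpr (mem_zpowers_of_commute hF hT hgh)
    have hj' : h₀ ^ j = g := hj
    have h1 : g ^ 2 ^ (a + 1) = 1 := by
      rw [← hcardP]
      exact congrArg Subtype.val (pow_card_eq_one' (x := (⟨g, hg⟩ : (P : Subgroup SL2))))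
    rw [← hj', ← pow_mul] at h1
    have h2 : m ∣ j * 2 ^ (a + 1) := by
      refine (dvd_mul_left m (2 ^ a)).trans ?_
      rw [← hT.order]
      exact orderOf_dvd_of_pow_eq_one h1
    have hcop : Nat.Coprime m (2 ^ (a + 1)) :=
      (Nat.coprime_two_right.mpr hT.odd).pow_right (a + 1)
    obtain ⟨t, rfl⟩ := hcop.dvd_of_dvd_mul_right h2
    rw [← hj', pow_mul]
    exact Subgroup.pow_mem _ (Subgroup.mem_zpowers _) t
  · exact Or.inr e

theorem exists_not_mem (hT : Torus h₀ a m) (P : Sylow 2 SL2) :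
    ∃ g ∈ P, g ∉ Subgroup.zpowers (h₀ ^ m) := by
  by_contra h
  push Not at h
  have := Subgroup.card_le_of_le (H := (P : Subgroup SL2)) (K := Subgroup.zpowers (h₀ ^ m)) h
  rw [P.card_eq_multiplicity, hT.val, Nat.card_zpowers, hT.orderOf_pow_m, pow_succ] at this
  have : 0 < 2 ^ a := by positivity
  omega

theorem not_red_two (hF : Odd (Fintype.card F)) (hT : Torus h₀ a 1) : ¬ Red 2 SL2 := by
  refine not_red_of_unique fun Q => ?_
  obtain ⟨P, hP⟩ := exists_sylow_mem (p := 2) (x := h₀) ⟨a, by rw [hT.order, mul_one]⟩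
  obtain ⟨c, hc⟩ := MulAction.exists_smul_eq SL2 P Q
  have huniq : ∀ R : Sylow 2 SL2, h₀ ∈ R → R = P := by
    intro R hR
    refine Sylow.ext (R.is_maximal' P.isPGroup' fun g hg => ?_).symm
    have hR' : h₀ ^ 1 ∈ R := by rwa [pow_one]
    have hP' : h₀ ^ 1 ∈ P := by rwa [pow_one]
    rcases commute_or_invert hF hT hR' hg with h | h
    · exact (Subgroup.zpowers_le.mpr hP' : Subgroup.zpowers (h₀ ^ 1) ≤ (P : Subgroup SL2)) h
    · obtain ⟨g', hg'P, hg'⟩ := exists_not_mem hT P
      have h' := (commute_or_invert hF hT hP' hg'P).resolve_left hg'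
      have hcomm : g'⁻¹ * g * h₀ ^ 1 = h₀ ^ 1 * (g'⁻¹ * g) := by
        calc g'⁻¹ * g * h₀ ^ 1 = g'⁻¹ * (g * h₀ ^ 1 * g⁻¹) * g := by group
          _ = g'⁻¹ * (g' * h₀ ^ 1 * g'⁻¹) * g := by rw [h, h']
          _ = h₀ ^ 1 * (g'⁻¹ * g) := by group
      have h3 := mem_zpowers_of_commute hF hT hcomm
      have h4 : g'⁻¹ * g ∈ (P : Subgroup SL2) :=
        (Subgroup.zpowers_le.mpr hP : Subgroup.zpowers h₀ ≤ (P : Subgroup SL2)) h3
      have := (P : Subgroup SL2).mul_mem hg'P h4
      rwa [mul_inv_cancel_left] at this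
  refine ⟨c * h₀ * c⁻¹, ?_, fun R hR => ?_⟩
  · rw [← hc]
    show c * h₀ * c⁻¹ ∈ ((c • P : Sylow 2 SL2) : Subgroup SL2)
    rw [Sylow.coe_subgroup_smul]
    exact Subgroup.smul_mem_pointwise_smul h₀ (MulAut.conj c) _ hP
  · have hR' : h₀ ∈ c⁻¹ • R := by
      show h₀ ∈ ((c⁻¹ • R : Sylow 2 SL2) : Subgroup SL2)
      rw [Sylow.coe_subgroup_smul]
      have e : h₀ = c⁻¹ * (c * h₀ * c⁻¹) * c⁻¹⁻¹ := by group
      rw [e]
      exact Subgroup.smul_mem_pointwise_smul _ (MulAut.conj c⁻¹) _ hR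
    rw [← hc, ← huniq _ hR', smul_inv_smul]

theorem red_two (hF : Odd (Fintype.card F)) (hT : Torus h₀ a m) (hm : m ≠ 1) : Red 2 SL2 := by
  set h := h₀ ^ m with hh
  obtain ⟨P, hP⟩ := exists_sylow_mem (p := 2) (x := h) ⟨a, hT.orderOf_pow_m⟩
  set t := h₀ ^ 2 ^ a with ht
  have hto : orderOf t = m := by
    rw [ht, orderOf_pow, hT.order, Nat.gcd_eq_right (dvd_mul_right (2 ^ a) m),
      Nat.mul_div_cancel_left _ (by positivity)]
  have hth : Commute t h := ((Commute.refl h₀).pow_pow _ _)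
  -- a second Sylow subgroup on the torus
  have hne : t • P ≠ P := by
    intro e
    obtain ⟨g, hgP, hg⟩ := exists_not_mem hT P
    have hinv := (commute_or_invert hF hT hP hgP).resolve_left hg
    rw [← hh] at hinv
    have hgh0 : g * h₀ * g⁻¹ ∈ Subgroup.zpowers h₀ := by
      refine mem_zpowers_of_commute hF hT ?_
      have h1 : Commute h₀ h⁻¹ := ((Commute.refl h₀).pow_right m).inv_right
      have h2 : Commute (g * h₀ * g⁻¹) (g * h⁻¹ * g⁻¹) := by
        show _ = _
        calc g * h₀ * g⁻¹ * (g * h⁻¹ * g⁻¹) = g * (h₀ * h⁻¹) * g⁻¹ := by group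
          _ = g * (h⁻¹ * h₀) * g⁻¹ := by rw [h1.eq]
          _ = _ := by group
      have e3 : g * h⁻¹ * g⁻¹ = h := by
        have := congrArg (·⁻¹) hinv
        simpa [_root_.mul_inv_rev, mul_assoc] using this
      rw [e3] at h2
      exact h2.eq
    obtain ⟨ℓ, hl⟩ := CharP.exists F
    have : Fact ℓ.Prime := ⟨(CharP.char_is_prime_or_zero F ℓ).resolve_right
      (fun h => CharP.char_ne_zero_of_finite F ℓ h)⟩
    have hne4 : Matrix.trace (h₀ : M2) ^ 2 ≠ 4 := by
      intro ht4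
      have := orderOf_dvd_of_pow_eq_one
        (Cfsg.Agent.Lib.Dickson.pow_two_mul_eq_one (p := ℓ) (two_ne_zero_of_odd_card hF) ht4)
      rw [hT.order] at this
      exact not_dvd_two_mul_char hF (hT.four_dvd.mul_right m) this
    obtain ⟨n, hn⟩ := Subgroup.mem_zpowers_iff.mp hgh0
    have hc : g * h₀ * g⁻¹ * h₀ = h₀ * (g * h₀ * g⁻¹) := by
      rw [← hn]; exact (Commute.refl h₀).zpow_left n
    have hg0 : g * h₀ * g⁻¹ = h₀⁻¹ := by
      refine (Cfsg.Agent.Lib.Dickson.eq_or_eq_inv_of_conj (two_ne_zero_of_odd_card hF) hne4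
        hc).resolve_left fun e' => hg ?_
      have hgc : Commute g h₀ := by
        show g * h₀ = h₀ * g
        calc g * h₀ = g * h₀ * g⁻¹ * g := by group
          _ = h₀ * g := by rw [e']
      have h3 : g * h * g⁻¹ = h := by rw [(hgc.pow_right m).eq, mul_inv_cancel_right]
      rw [h3] at hinv
      have h4 : h ^ 2 = 1 := by rw [sq]; nth_rw 1 [hinv]; exact inv_mul_cancel h
      have h5 := Nat.le_of_dvd (by norm_num)
        ((hT.four_dvd).trans (hT.orderOf_pow_m ▸ orderOf_dvd_of_pow_eq_one h4))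
      omega
    have hgt : g * t * g⁻¹ = t⁻¹ := by
      rw [ht, ← conj_pow, hg0, inv_pow]
    have h2 : t * g * t⁻¹ * g⁻¹ = t * t := by
      calc t * g * t⁻¹ * g⁻¹ = t * (g * t * g⁻¹)⁻¹ := by group
        _ = t * t := by rw [hgt, inv_inv]
    have h3 : t * g * t⁻¹ ∈ (P : Subgroup SL2) := by
      rw [← e, Sylow.coe_subgroup_smul]
      exact Subgroup.smul_mem_pointwise_smul g (MulAut.conj t) _ hgP
    have h4 : t * t ∈ (P : Subgroup SL2) :=
      h2 ▸ (P : Subgroup SL2).mul_mem h3 ((P : Subgroup SL2).inv_mem hgP)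
    obtain ⟨k, hk⟩ := isPElement_of_mem (Q := P) h4
    have h5 : orderOf (t * t) = m := by
      rw [← sq, Nat.Coprime.orderOf_pow, hto]
      rw [hto]
      exact Nat.coprime_two_right.mpr hT.odd
    rw [h5] at hk
    obtain ⟨s, hs⟩ := hT.odd
    cases k with
    | zero => exact hm (by rw [hk, pow_zero])
    | succ k => rw [pow_succ] at hk; omega
  have key : ∀ y ∈ Subgroup.zpowers h, ∃ R R' : Sylow 2 SL2, R ≠ R' ∧ y ∈ R ∧ y ∈ R' := by
    intro y hy
    have hyP : y ∈ (P : Subgroup SL2) := Subgroup.zpowers_le.mpr hP hy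
    refine ⟨t • P, P, hne, ?_, hyP⟩
    show y ∈ ((t • P : Sylow 2 SL2) : Subgroup SL2)
    rw [Sylow.coe_subgroup_smul]
    obtain ⟨n, rfl⟩ := Subgroup.mem_zpowers_iff.mp hy
    have e : h ^ n = t * h ^ n * t⁻¹ := by rw [(hth.zpow_right n).eq, mul_inv_cancel_right]
    rw [e]
    exact Subgroup.smul_mem_pointwise_smul _ (MulAut.conj t) _ hyP
  have transfer : ∀ (c y : SL2), (∃ R R' : Sylow 2 SL2, R ≠ R' ∧ y ∈ R ∧ y ∈ R') →
      ∃ R R' : Sylow 2 SL2, R ≠ R' ∧ c * y * c⁻¹ ∈ R ∧ c * y * c⁻¹ ∈ R' := by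
    rintro c y ⟨R, R', hRR, h1, h2⟩
    refine ⟨c • R, c • R', fun e => hRR (MulAction.injective c e), ?_, ?_⟩
    · show c * y * c⁻¹ ∈ ((c • R : Sylow 2 SL2) : Subgroup SL2)
      rw [Sylow.coe_subgroup_smul]
      exact Subgroup.smul_mem_pointwise_smul y (MulAut.conj c) _ h1
    · show c * y * c⁻¹ ∈ ((c • R' : Sylow 2 SL2) : Subgroup SL2)
      rw [Sylow.coe_subgroup_smul]
      exact Subgroup.smul_mem_pointwise_smul y (MulAut.conj c) _ h2
  refine red_of_two fun x hx => ?_
  obtain ⟨R, hR⟩ := exists_sylow_mem hx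
  obtain ⟨c, hc⟩ := MulAction.exists_smul_eq SL2 P R
  obtain ⟨y, hy, rfl⟩ : ∃ y ∈ (P : Subgroup SL2), c * y * c⁻¹ = x := by
    have hR' : x ∈ ((R : Sylow 2 SL2) : Subgroup SL2) := hR
    rw [← hc, Sylow.coe_subgroup_smul] at hR'
    exact hR'
  refine transfer c y ?_
  rcases commute_or_invert hF hT hP hy with hy' | hy'
  · exact key y hy'
  · rw [← hh] at hy'
    by_cases hy2 : y * y = 1
    · by_cases hy1 : y = 1
      · exact key y (hy1 ▸ Subgroup.one_mem _)
      · -- the central involution lies on the torus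
        refine key y ?_
        have hi : (h ^ 2 ^ (a - 1)) * (h ^ 2 ^ (a - 1)) = 1 := by
          rw [← pow_add, ← two_mul, ← pow_succ', show a - 1 + 1 = a by have := hT.two_le; omega,
            ← hT.orderOf_pow_m]
          exact pow_orderOf_eq_one _
        have hne1 : h ^ 2 ^ (a - 1) ≠ 1 := by
          intro e
          have := Nat.le_of_dvd (by positivity) (hT.orderOf_pow_m ▸ orderOf_dvd_of_pow_eq_one e)
          have h' : 2 ^ (a - 1) < 2 ^ a := Nat.pow_lt_pow_right (by norm_num)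
            (by have := hT.two_le; omega)
          omega
        have h2 : (2 : F) ≠ 0 := two_ne_zero_of_odd_card hF
        have : y = h ^ 2 ^ (a - 1) := Subtype.ext
          ((eq_neg_one_of_mul_self h2 hy1 hy2).trans (eq_neg_one_of_mul_self h2 hne1 hi).symm)
        rw [this]
        exact Subgroup.pow_mem _ (Subgroup.mem_zpowers _) _
    · -- an element of order four: conjugate into the torus
      have h2 : (2 : F) ≠ 0 := two_ne_zero_of_odd_card hF
      set y2 := y * y with hy2def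
      have hyc : y2 * h = h * y2 := by
        have h1 : y * h = h⁻¹ * y := by rw [← hy']; group
        have h1' : y * h⁻¹ = h * y := by
          have := congrArg (fun z => h * z * h⁻¹) h1
          simpa [mul_assoc] using this.symm
        calc y * y * h = y * (y * h) := mul_assoc _ _ _
          _ = y * h⁻¹ * y := by rw [h1, ← mul_assoc]
          _ = h * (y * y) := by rw [h1', mul_assoc]
      have hy2sq : y2 * y2 = 1 := by
        rcases commute_or_invert hF hT hP ((P : Subgroup SL2).mul_mem hy hy) with h' | h'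
        · obtain ⟨n, hn⟩ := Subgroup.mem_zpowers_iff.mp h'
          have e1 : y * y2 * y⁻¹ = y2 := by rw [hy2def]; group
          rw [← hy2def] at hn
          have e2 : y * y2 * y⁻¹ = y2⁻¹ := by
            rw [← hn, ← conj_zpow, hy', _root_.inv_zpow]
          rw [e1] at e2
          nth_rw 1 [e2]
          exact inv_mul_cancel _
        · rw [hyc, mul_inv_cancel_right] at h'
          have h4 : h ^ 2 = 1 := by rw [sq]; nth_rw 1 [h']; exact inv_mul_cancel h
          have h5 := Nat.le_of_dvd (by norm_num)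
            ((hT.four_dvd).trans (hT.orderOf_pow_m ▸ orderOf_dvd_of_pow_eq_one h4))
          omega
      have hy1 : (y : M2) * y = -1 := by
        rw [← Matrix.SpecialLinearGroup.coe_mul]
        exact eq_neg_one_of_mul_self h2 hy2 hy2sq
      set j := h ^ 2 ^ (a - 2) with hj
      have hj4 : orderOf j = 4 := by
        have e : 2 ^ a = 4 * 2 ^ (a - 2) := by
          rw [show (4 : ℕ) = 2 ^ 2 by norm_num, ← pow_add, Nat.add_sub_cancel' hT.two_le]
        rw [hj, orderOf_pow, hT.orderOf_pow_m, e, Nat.gcd_eq_right (dvd_mul_left _ _),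
          Nat.mul_div_cancel _ (by positivity)]
      have hj1 : (j : M2) * j = -1 := by
        rw [← Matrix.SpecialLinearGroup.coe_mul]
        refine eq_neg_one_of_mul_self h2 (fun e => ?_) ?_
        · have := Nat.le_of_dvd (by norm_num) (hj4 ▸ orderOf_dvd_of_pow_eq_one
            (show j ^ 2 = 1 by rw [sq]; exact e))
          omega
        · rw [← sq, ← sq, ← pow_mul, show 2 * 2 = orderOf j from hj4.symm]
          exact pow_orderOf_eq_one j
      obtain ⟨d, hd⟩ := conj_of_sq_eq_neg_one hF hj1 hy1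
      rw [← hd]
      exact transfer d j (key j (Subgroup.pow_mem _ (Subgroup.mem_zpowers _) _))

end Two

/-- The classification of redundant Sylow subgroups of `SL₂(q)`. -/
theorem red_iff {p : ℕ} [Fact p.Prime] :
    Red p SL2 ↔ (p = 2 ∧ (¬ ∃ k : ℕ, Fintype.card F + 1 = 2 ^ k) ∧
      (¬ ∃ k : ℕ, Fintype.card F = 2 ^ k) ∧ ¬ ∃ k : ℕ, Fintype.card F = 2 ^ k + 1) := by
  obtain ⟨ℓ, hl⟩ := CharP.exists F
  have : Fact ℓ.Prime := ⟨(CharP.char_is_prime_or_zero F ℓ).resolve_right
    (fun h => CharP.char_ne_zero_of_finite F ℓ h)⟩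
  by_cases hpl : p = ℓ
  · subst hpl
    refine iff_of_false (not_red_char (ℓ := p)) ?_
    rintro ⟨rfl, -, h, -⟩
    obtain ⟨n, -, hn⟩ := exists_card_eq_pow (F := F) 2
    exact h ⟨n, hn⟩
  by_cases hp : p = 2
  swap
  · exact iff_of_false (not_red_odd hp hpl) (fun h => hp h.1)
  subst hp
  have hF : Odd (Fintype.card F) := by
    obtain ⟨n, -, hn⟩ := exists_card_eq_pow (F := F) ℓ
    rw [hn]
    exact ((Fact.out : ℓ.Prime).odd_of_ne_two (Ne.symm hpl)).pow
  obtain ⟨h₀, a, m, hT⟩ := exists_torus hF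
  have hq : 1 < Fintype.card F := Fintype.one_lt_card
  by_cases hm : m = 1
  · subst hm
    refine iff_of_false (not_red_two hF hT) ?_
    rintro ⟨-, h1, -, h3⟩
    rcases hT.or_eq with e | e
    · exact h3 ⟨a, by omega⟩
    · exact h1 ⟨a, by omega⟩
  · refine iff_of_true (red_two hF hT hm) ⟨rfl, ?_, ?_, ?_⟩
    all_goals
      rintro ⟨k, hk⟩
      have h4 : 4 ∣ 2 ^ a * m := hT.four_dvd.mul_right m
      have hm' : ∀ j, 2 ^ a * m ≠ 2 ^ j := by
        intro j hj
        have hmj : m ∣ 2 ^ j := hj ▸ dvd_mul_left m (2 ^ a)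
        exact hm (Nat.eq_one_of_dvd_coprimes
          ((Nat.coprime_two_right.mpr hT.odd).pow_right j) dvd_rfl hmj)
      have hor := hT.or_eq
      obtain ⟨s, hs⟩ := hF
      have hcases : k ≤ 1 ∨ 2 ≤ k := by omega
      have hmk := hm' k
      have hm2 := hm' 2
      rcases hcases with hk1 | hk2
      · interval_cases k <;> omega
      · have h2k : 4 ∣ 2 ^ k := (pow_dvd_pow 2 hk2 : 2 ^ 2 ∣ 2 ^ k)
        omega

end Cfsg.Agent.Lib.SylowNumbers.RedundantSL2
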