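import Mathlib.GroupTheory.Perm.Sign
import Mathlib.Data.Finset.Image
import Mathlib.Data.Fintype.Card
import Mathlib.Algebra.Group.Subgroup.Lattice
import Mathlib.Data.List.FinRange

/-!
A set of `m` transpositions leaves invariant a partition into at least `n - m` parts.
-/

set_option autoImplicit false

namespace Cfsg.Agent.Lib.SylowNumbers.SwapPartition

open Subgroup

variable {α : Type*} [Fintype α] [DecidableEq α]

theorem exists_partition (l : List (Equiv.Perm α)) (hl : ∀ t ∈ l, t.IsSwap) :
    ∃ f : α → α, (∀ t ∈ l, ∀ x, f (t x) = f x) ∧
      Fintype.card α ≤ (Finset.univ.image f).card + l.length := by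
  induction l with
  | nil => exact ⟨id, by simp, by simp⟩
  | cons t l ih =>
    obtain ⟨f, hf, hcard⟩ := ih (fun s hs => hl s (List.mem_cons_of_mem _ hs))
    obtain ⟨a, b, -, rfl⟩ := hl t List.mem_cons_self
    refine ⟨fun x => if f x = f b then f a else f x, ?_, ?_⟩
    · intro s hs x
      rcases List.mem_cons.mp hs with rfl | hs
      · by_cases hxa : x = a
        · subst hxa; simp
        · by_cases hxb : x = b
          · subst hxb; simp
          · rw [Equiv.swap_apply_of_ne_of_ne hxa hxb]
      · simp only [hf s hs x]
    · have hsub : (Finset.univ.image f).erase (f b) ⊆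
          Finset.univ.image (fun x => if f x = f b then f a else f x) := by
        intro y hy
        obtain ⟨h1, h2⟩ := Finset.mem_erase.mp hy
        obtain ⟨x, -, rfl⟩ := Finset.mem_image.mp h2
        exact Finset.mem_image.mpr ⟨x, Finset.mem_univ x, if_neg h1⟩
      have h1 := Finset.card_le_card hsub
      have h2 := Finset.card_erase_add_one (Finset.mem_image_of_mem f (Finset.mem_univ b))
      rw [List.length_cons]
      omega

theorem invariant_closure {β : Type*} (S : Set (Equiv.Perm α)) (f : α → β)
    (hf : ∀ t ∈ S, ∀ x, f (t x) = f x) : ∀ g ∈ closure S, ∀ x, f (g x) = f x := by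
  intro g hg
  induction hg using Subgroup.closure_induction with
  | mem t ht => exact hf t ht
  | one => intro x; rfl
  | mul a b _ _ ha hb => intro x; exact (ha (b x)).trans (hb x)
  | inv a _ ha => intro x; conv_rhs => rw [← Equiv.apply_symm_apply a x]
                  exact (ha (a.symm x)).symm

end Cfsg.Agent.Lib.SylowNumbers.SwapPartition
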