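import Mathlib
import Cfsg.Agent.Lib.SylowNumbers.Basic

/-!
Elements of 2-power order of a finite symmetric group lying in a unique Sylow 2-subgroup.
-/

set_option autoImplicit false
set_option linter.unusedSectionVars false
set_option linter.style.haveILetI false

namespace Cfsg.Agent.Lib.SylowNumbers.SymUnique

open Equiv Equiv.Perm
open scoped Pointwise

variable {α : Type} [Finite α]

/-- The length of the cycle through a point. -/
noncomputable abbrev per (x : Perm α) (a : α) : ℕ := Function.minimalPeriod x a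

theorem pow_apply_eq_iff (x : Perm α) (a : α) (k : ℕ) : (x ^ k) a = a ↔ per x a ∣ k := by
  rw [← Function.isPeriodicPt_iff_minimalPeriod_dvd, coe_pow]
  rfl

theorem per_eq_one_iff (x : Perm α) (a : α) : per x a = 1 ↔ x a = a := by
  rw [← Nat.dvd_one, ← pow_apply_eq_iff, pow_one]

theorem per_eq_of_forall (x : Perm α) (a : α) (h : ℕ) (hh : ∀ k, (x ^ k) a = a ↔ h ∣ k) :
    per x a = h :=
  Nat.dvd_antisymm ((pow_apply_eq_iff x a h).mp ((hh h).mpr dvd_rfl))
    ((hh _).mp ((pow_apply_eq_iff x a _).mpr dvd_rfl))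

theorem exists_per_eq_two_mul {x : Perm α} {N : ℕ} (hx : x ^ 2 ^ N = 1) {a : α} (ha : x a ≠ a) :
    ∃ h : ℕ, 0 < h ∧ per x a = 2 * h := by
  have h1 : per x a ∣ 2 ^ N := (pow_apply_eq_iff x a _).mp (by rw [hx]; rfl)
  obtain ⟨i, -, hi⟩ := (Nat.dvd_prime_pow Nat.prime_two).mp h1
  rcases i with _ | i
  · exact absurd ((per_eq_one_iff x a).mp hi) ha
  · exact ⟨2 ^ i, Nat.two_pow_pos i, by rw [hi, pow_succ']⟩

/-- At most two fixed points, and cycles of equal length coincide. -/
def Good (x : Perm α) : Prop :=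
  (∀ a b : α, x a ≠ a → per x a = per x b → SameCycle x a b) ∧
    ∀ a b c : α, x a = a → x b = b → x c = c → a = b ∨ a = c ∨ b = c

/-- An involution with at most one fixed point. -/
def Pairing (t : Perm α) : Prop :=
  t * t = 1 ∧ ∀ a b : α, t a = a → t b = b → a = b

theorem Pairing.apply_apply {t : Perm α} (ht : Pairing t) (a : α) : t (t a) = a :=
  Equiv.congr_fun ht.1 a

theorem pow_apply_comm {x t : Perm α} (hc : Commute x t) (k : ℕ) (a : α) :
    (x ^ k) (t a) = t ((x ^ k) a) :=
  Equiv.congr_fun (hc.pow_left k).eq a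

theorem apply_comm {x t : Perm α} (hc : Commute x t) (a : α) : x (t a) = t (x a) :=
  Equiv.congr_fun hc.eq a

theorem pairing_moved {x t : Perm α} {N : ℕ} (hx : x ^ 2 ^ N = 1) (hg : Good x) (ht : Pairing t)
    (hc : Commute x t) {a : α} (ha : x a ≠ a) :
    ∃ h : ℕ, 0 < h ∧ per x a = 2 * h ∧ t a = (x ^ h) a := by
  obtain ⟨h, hh, hL⟩ := exists_per_eq_two_mul hx ha
  refine ⟨h, hh, hL, ?_⟩
  have hper : per x (t a) = per x a := by
    refine per_eq_of_forall x _ _ fun k => ?_
    rw [pow_apply_comm hc, t.injective.eq_iff, pow_apply_eq_iff]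
  obtain ⟨j, -, hj⟩ := (hg.1 a (t a) ha hper.symm).exists_pow_eq'
  have h2 : (x ^ (j + j)) a = a := by
    rw [pow_add, mul_apply, hj, pow_apply_comm hc, hj, ht.apply_apply]
  rw [pow_apply_eq_iff, hL] at h2
  have hnd : ¬ (2 * h) ∣ j := by
    intro hd
    rw [← hL, ← pow_apply_eq_iff, hj] at hd
    exact ha (ht.2 (x a) a (by rw [← apply_comm hc, hd]) hd)
  obtain ⟨i, hi⟩ : h ∣ j := Nat.dvd_of_mul_dvd_mul_left two_pos (by rwa [two_mul j])
  rcases Nat.even_or_odd i with ⟨r, hr⟩ | ⟨r, hr⟩
  · exact absurd ⟨r, by rw [hi, hr]; ring⟩ hnd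
  · rw [← hj, hi, hr, show h * (2 * r + 1) = h + 2 * h * r by ring, pow_add, mul_apply,
      (pow_apply_eq_iff x a _).mpr (by rw [hL]; exact dvd_mul_right _ _)]

theorem pairing_unique {x t t' : Perm α} {N : ℕ} (hx : x ^ 2 ^ N = 1) (hg : Good x) (ht : Pairing t)
    (hc : Commute x t) (ht' : Pairing t') (hc' : Commute x t') : t = t' := by
  ext a
  by_cases ha : x a = a
  · have h1 : x (t a) = t a := by rw [apply_comm hc, ha]
    have h2 : x (t' a) = t' a := by rw [apply_comm hc', ha]
    have key : ∀ s s' : Perm α, Pairing s → Commute x s → x (s' a) = s' a → s a = a → s' a = a := by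
      intro s s' hs hcs hb hsa
      by_contra hne
      have hb' : x (s (s' a)) = s (s' a) := by rw [apply_comm hcs, hb]
      rcases hg.2 a (s' a) (s (s' a)) ha hb hb' with e | e | e
      · exact hne e.symm
      · exact hne (s.injective (e.symm.trans hsa.symm))
      · exact hne (hs.2 _ _ e.symm hsa)
    by_cases e1 : t a = a
    · rw [e1, key t t' ht hc h2 e1]
    · by_cases e2 : t' a = a
      · exact absurd (key t' t ht' hc' h1 e2) e1
      · rcases hg.2 a (t a) (t' a) ha h1 h2 with e | e | e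
        · exact absurd e.symm e1
        · exact absurd e.symm e2
        · exact e
  · obtain ⟨h, -, hL, he⟩ := pairing_moved hx hg ht hc ha
    obtain ⟨h', -, hL', he'⟩ := pairing_moved hx hg ht' hc' ha
    rw [he, he', show h = h' by omega]

theorem exists_pairing (α : Type) [Fintype α] [DecidableEq α] :
    ∃ t : Perm α, Pairing t ∧ ¬ 2 ∣ (Subgroup.centralizer ({t} : Set (Perm α))).index := by
  set n := Fintype.card α with hn
  obtain ⟨t, ht⟩ := (exists_with_cycleType_iff α (m := Multiset.replicate (n / 2) 2)).mpr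
    ⟨by rw [Multiset.sum_replicate, smul_eq_mul]; omega,
      fun a ha => (Multiset.eq_of_mem_replicate ha).ge⟩
  refine ⟨t, ⟨?_, ?_⟩, ?_⟩
  · have h : orderOf t ∣ 2 := by
      rw [← lcm_cycleType, ht]
      exact Multiset.lcm_dvd.mpr fun a ha => (Multiset.eq_of_mem_replicate ha).dvd
    have h2 := orderOf_dvd_iff_pow_eq_one.mp h
    rwa [pow_two] at h2
  · intro a b ha hb
    by_contra hne
    have hs : t.support.card = n / 2 * 2 := by
      rw [← sum_cycleType, ht, Multiset.sum_replicate, smul_eq_mul]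
    have hsub : ({a, b} : Finset α) ⊆ t.supportᶜ := by
      intro c hc
      rw [Finset.mem_compl, mem_support, not_not]
      rcases Finset.mem_insert.mp hc with rfl | hc
      · exact ha
      · rw [Finset.mem_singleton.mp hc]; exact hb
    have := Finset.card_le_card hsub
    rw [Finset.card_pair hne, Finset.card_compl, hs] at this
    omega
  · intro hd
    haveI : Fact (Nat.Prime 2) := ⟨Nat.prime_two⟩
    have hcard := Subgroup.card_mul_index (Subgroup.centralizer ({t} : Set (Perm α)))
    rw [nat_card_centralizer, ht, Multiset.sum_replicate, Multiset.prod_replicate, smul_eq_mul,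
      Nat.card_perm, Nat.card_eq_fintype_card, ← hn] at hcard
    have hcnt : ∏ k ∈ (Multiset.replicate (n / 2) 2).toFinset,
        (Multiset.count k (Multiset.replicate (n / 2) 2)).factorial = (n / 2).factorial := by
      rcases Nat.eq_zero_or_pos (n / 2) with h0 | h0
      · simp [h0]
      · rw [Multiset.toFinset_replicate, if_neg h0.ne', Finset.prod_singleton,
          Multiset.count_replicate_self]
    have hfix : (n - n / 2 * 2).factorial = 1 := by
      rcases Nat.mod_two_eq_zero_or_one n with e | e <;>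
        rw [show n - n / 2 * 2 = n % 2 by omega, e] <;> rfl
    rw [hcnt, hfix, one_mul] at hcard
    have hv : padicValNat 2 n.factorial = n / 2 + padicValNat 2 (n / 2).factorial := by
      have h2 : (2 * (n / 2)).factorial ≠ 0 := Nat.factorial_ne_zero _
      rcases Nat.mod_two_eq_zero_or_one n with e | e
      · conv_lhs => rw [show n = 2 * (n / 2) by omega]
        rw [padicValNat_factorial_mul, add_comm]
      · conv_lhs => rw [show n = 2 * (n / 2) + 1 by omega, Nat.factorial_succ]
        rw [padicValNat.mul (Nat.succ_ne_zero _) h2,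
          padicValNat.eq_zero_of_not_dvd (show ¬ 2 ∣ 2 * (n / 2) + 1 by omega), zero_add,
          padicValNat_factorial_mul, add_comm]
    have hidx : (Subgroup.centralizer ({t} : Set (Perm α))).index ≠ 0 :=
      Subgroup.index_ne_zero_of_finite
    rw [← hcard, padicValNat.mul (mul_ne_zero (pow_ne_zero _ two_ne_zero) (Nat.factorial_ne_zero _))
      hidx, padicValNat.mul (pow_ne_zero _ two_ne_zero) (Nat.factorial_ne_zero _),
      padicValNat.prime_pow] at hv
    have := one_le_padicValNat_of_dvd hidx hd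
    omega

theorem exists_pairing_of_sylow (P : Sylow 2 (Perm α)) :
    ∃ t : Perm α, Pairing t ∧ ∀ σ ∈ (P : Subgroup (Perm α)), Commute σ t := by
  classical
  haveI := Fintype.ofFinite α
  haveI : Fact (Nat.Prime 2) := ⟨Nat.prime_two⟩
  obtain ⟨t, ht, hidx⟩ := exists_pairing α
  obtain ⟨P₀, hP₀⟩ := Basic.exists_sylow_le _ hidx
  obtain ⟨g, rfl⟩ := MulAction.exists_smul_eq (Perm α) P₀ P
  refine ⟨g * t * g⁻¹, ⟨?_, ?_⟩, ?_⟩
  · rw [show g * t * g⁻¹ * (g * t * g⁻¹) = g * (t * t) * g⁻¹ by group, ht.1]; group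
  · intro a b ha hb
    refine g⁻¹.injective (ht.2 _ _ ?_ ?_)
    · conv_rhs => rw [← ha]
      simp [mul_apply]
    · conv_rhs => rw [← hb]
      simp [mul_apply]
  · intro σ hσ
    rw [Sylow.coe_subgroup_smul, Subgroup.mem_pointwise_smul_iff_inv_smul_mem, ← map_inv,
      MulAut.smul_def, MulAut.conj_apply, inv_inv] at hσ
    have h1 : Commute (g⁻¹ * σ * g) t := Subgroup.mem_centralizer_singleton_iff.mp (hP₀ hσ)
    have := (SemiconjBy.conj_mk g (g⁻¹ * σ * g)).eq
    show σ * (g * t * g⁻¹) = g * t * g⁻¹ * σ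
    calc σ * (g * t * g⁻¹) = g * ((g⁻¹ * σ * g) * t) * g⁻¹ := by group
      _ = g * (t * (g⁻¹ * σ * g)) * g⁻¹ := by rw [h1.eq]
      _ = g * t * g⁻¹ * σ := by group

/-- The pairs of a pairing involution. -/
def pairSetoid (t : Perm α) (ht : Pairing t) : Setoid α where
  r a b := b = a ∨ b = t a
  iseqv :=
    { refl := fun a => Or.inl rfl
      symm := fun {a b} h => by
        rcases h with rfl | rfl
        · exact Or.inl rfl
        · exact Or.inr (ht.apply_apply a).symm
      trans := fun {a b c} h h' => by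
        rcases h with rfl | rfl <;> rcases h' with rfl | rfl
        · exact Or.inl rfl
        · exact Or.inr rfl
        · exact Or.inr rfl
        · exact Or.inl (ht.apply_apply a) }

theorem centralizer_apply {t : Perm α} (σ : Subgroup.centralizer ({t} : Set (Perm α))) (a : α) :
    (σ : Perm α) (t a) = t ((σ : Perm α) a) :=
  Equiv.congr_fun (Subgroup.mem_centralizer_singleton_iff.mp σ.2) a

/-- The action of the centralizer of a pairing involution on the pairs. -/
def pairHom (t : Perm α) (ht : Pairing t) :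
    Subgroup.centralizer ({t} : Set (Perm α)) →* Perm (Quotient (pairSetoid t ht)) where
  toFun σ := Quotient.congr (σ : Perm α) fun a b => by
    show (b = a ∨ b = t a) ↔ ((σ : Perm α) b = (σ : Perm α) a ∨ (σ : Perm α) b = t ((σ : Perm α) a))
    rw [← centralizer_apply, (σ : Perm α).injective.eq_iff, (σ : Perm α).injective.eq_iff]
  map_one' := by
    ext q; induction q using Quotient.inductionOn; rfl
  map_mul' σ τ := by
    ext q; induction q using Quotient.inductionOn; rfl

theorem isPGroup_ker (t : Perm α) (ht : Pairing t) : IsPGroup 2 (pairHom t ht).ker := by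
  rintro ⟨σ, hσ⟩
  refine ⟨1, Subtype.ext (Subtype.ext (Equiv.ext fun a => ?_))⟩
  have h : (σ : Perm α) a = a ∨ (σ : Perm α) a = t a := by
    have := Equiv.congr_fun (MonoidHom.mem_ker.mp hσ) (Quotient.mk _ a)
    exact Quotient.exact this.symm
  show (((σ : Perm α)) ^ 2 ^ 1) a = a
  rw [pow_one, pow_two, mul_apply]
  rcases h with h | h
  · rw [h, h]
  · rw [h, centralizer_apply, h, ht.apply_apply]

theorem good_pairs {x t : Perm α} {N : ℕ} (hx : x ^ 2 ^ N = 1) (hg : Good x) (ht : Pairing t)
    (hc : Commute x t) :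
    Good (pairHom t ht ⟨x, Subgroup.mem_centralizer_singleton_iff.mpr hc.eq⟩) := by
  set xc : Subgroup.centralizer ({t} : Set (Perm α)) :=
    ⟨x, Subgroup.mem_centralizer_singleton_iff.mpr hc.eq⟩ with hxc
  set y := pairHom t ht xc with hy
  have hyz : ∀ (k : ℤ) (a : α), (y ^ k) (Quotient.mk _ a) = Quotient.mk _ ((x ^ k) a) := by
    intro k a
    rw [hy, ← map_zpow]
    show Quotient.mk _ (((xc ^ k : Subgroup.centralizer ({t} : Set (Perm α))) : Perm α) a) = _
    rw [Subgroup.coe_zpow]
  have hyn : ∀ (k : ℕ) (a : α), (y ^ k) (Quotient.mk _ a) = Quotient.mk _ ((x ^ k) a) := by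
    intro k a
    simpa using hyz k a
  have hper : ∀ a : α, x a ≠ a → 2 * per y (Quotient.mk _ a) = per x a := by
    intro a ha
    obtain ⟨h, -, hL, hta⟩ := pairing_moved hx hg ht hc ha
    rw [hL, per_eq_of_forall y _ h]
    intro k
    rw [hyn, Quotient.eq]
    constructor
    · rintro (e | e)
      · have := (pow_apply_eq_iff x a k).mp e.symm
        rw [hL] at this
        exact dvd_trans (dvd_mul_left h 2) this
      · have e' : (x ^ (k + h)) a = a := by
          rw [pow_add, mul_apply, ← hta, pow_apply_comm hc, ← e]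
        rw [pow_apply_eq_iff, hL] at e'
        exact (Nat.dvd_add_left dvd_rfl).mp (dvd_trans (dvd_mul_left h 2) e')
    · rintro ⟨i, rfl⟩
      rcases Nat.even_or_odd i with ⟨r, hr⟩ | ⟨r, hr⟩
      · left
        exact ((pow_apply_eq_iff x a _).mpr ⟨r, by rw [hL, hr]; ring⟩).symm
      · right
        have h1 : (x ^ (2 * h * r)) a = a := (pow_apply_eq_iff x a _).mpr ⟨r, by rw [hL]⟩
        rw [hr, show h * (2 * r + 1) = h + 2 * h * r by ring, pow_add, mul_apply, h1, ← hta,
          ht.apply_apply]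
  have hper1 : ∀ a : α, x a = a → per y (Quotient.mk _ a) = 1 := by
    intro a ha
    rw [per_eq_one_iff]
    have := hyn 1 a
    rwa [pow_one, pow_one, ha] at this
  constructor
  · intro qa qb
    induction qa using Quotient.inductionOn with | _ a => ?_
    induction qb using Quotient.inductionOn with | _ b => ?_
    intro hqa he
    have hne : per y (Quotient.mk _ a) ≠ 1 := fun e => hqa ((per_eq_one_iff _ _).mp e)
    have ha : x a ≠ a := fun e => hne (hper1 a e)
    have hb : x b ≠ b := fun e => hne (he.trans (hper1 b e))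
    obtain ⟨i, hi⟩ := hg.1 a b ha (by rw [← hper a ha, ← hper b hb, he])
    exact ⟨i, by rw [hyz, hi]⟩
  · intro qa qb qc
    induction qa using Quotient.inductionOn with | _ a => ?_
    induction qb using Quotient.inductionOn with | _ b => ?_
    induction qc using Quotient.inductionOn with | _ c => ?_
    intro ha hb hc'
    have hA : ∀ u v : α, x u = u → x v = v →
        (Quotient.mk (pairSetoid t ht) u) = Quotient.mk _ v := by
      intro u v hu hv
      refine Quotient.sound ?_
      show v = u ∨ v = t u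
      by_contra hne
      push Not at hne
      rcases hg.2 u v (t u) hu hv (by rw [apply_comm hc, hu]) with e | e | e
      · exact hne.1 e.symm
      · rcases hg.2 u v (t v) hu hv (by rw [apply_comm hc, hv]) with e' | e' | e'
        · exact hne.1 e'.symm
        · exact hne.1 (t.injective (e'.symm.trans e))
        · exact hne.1 (ht.2 v u e'.symm e.symm)
      · exact hne.2 e
    have hB : ∀ u v : α, x u ≠ u → x v ≠ v → y (Quotient.mk _ u) = Quotient.mk _ u →
        y (Quotient.mk _ v) = Quotient.mk _ v →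
        (Quotient.mk (pairSetoid t ht) u) = Quotient.mk _ v := by
      intro u v hu hv hyu hyv
      have h1 := hper u hu
      have h2 := hper v hv
      rw [(per_eq_one_iff y _).mpr hyu] at h1
      rw [(per_eq_one_iff y _).mpr hyv] at h2
      obtain ⟨i, hi⟩ := hg.1 u v hu (h1.symm.trans h2)
      rw [← hi, ← hyz, zpow_apply_eq_self_of_apply_eq_self hyu]
    by_cases pa : x a = a <;> by_cases pb : x b = b <;> by_cases pc : x c = c
    · exact Or.inl (hA a b pa pb)
    · exact Or.inl (hA a b pa pb)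
    · exact Or.inr (Or.inl (hA a c pa pc))
    · exact Or.inr (Or.inr (hB b c pb pc hb hc'))
    · exact Or.inr (Or.inr (hA b c pb pc))
    · exact Or.inr (Or.inl (hB a c pa pc ha hc'))
    · exact Or.inl (hB a b pa pb ha hb)
    · exact Or.inl (hB a b pa pb ha hb)

theorem unique_of_good : ∀ n : ℕ, ∀ (α : Type) [Finite α], Nat.card α = n → ∀ (x : Perm α) (N : ℕ),
    x ^ 2 ^ N = 1 → Good x → ∀ P Q : Sylow 2 (Perm α), x ∈ P → x ∈ Q → P = Q := by
  intro n
  induction n using Nat.strong_induction_on with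
  | _ n ih =>
    intro α _ hn x N hx hg P Q hP hQ
    haveI : Fact (Nat.Prime 2) := ⟨Nat.prime_two⟩
    rcases subsingleton_or_nontrivial α with hs | hs
    · exact Sylow.ext (Subsingleton.elim _ _)
    obtain ⟨t, ht, htP⟩ := exists_pairing_of_sylow P
    obtain ⟨t', ht', htQ⟩ := exists_pairing_of_sylow Q
    obtain rfl := pairing_unique hx hg ht (htP x hP) ht' (htQ x hQ)
    set C := Subgroup.centralizer ({t} : Set (Perm α))
    set f := pairHom t ht
    set xc : C := ⟨x, Subgroup.mem_centralizer_singleton_iff.mpr (htP x hP).eq⟩ with hxc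
    have hlt : Nat.card (Quotient (pairSetoid t ht)) < n := by
      rw [← hn]
      refine lt_of_le_of_ne (Nat.card_le_card_of_surjective _ Quotient.mk_surjective) fun e => ?_
      have hinj := ((Nat.bijective_iff_surjective_and_card (Quotient.mk (pairSetoid t ht))).mpr
        ⟨Quotient.mk_surjective, e.symm⟩).1
      obtain ⟨a, b, hab⟩ := exists_pair_ne α
      have hfix : ∀ u : α, t u = u := fun u => hinj (Quotient.sound (Or.inr (ht.apply_apply u).symm))
      exact hab (ht.2 a b (hfix a) (hfix b))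
    have hy : f xc ^ 2 ^ N = 1 := by
      have hxc' : xc ^ 2 ^ N = 1 := Subtype.ext (by simpa using hx)
      rw [← map_pow, hxc', map_one]
    have hgood : Good (f xc) := good_pairs hx hg ht (htP x hP)
    have key : ∀ S : Sylow 2 (Perm α), (∀ σ ∈ (S : Subgroup (Perm α)), Commute σ t) → x ∈ S →
        ∃ R : Sylow 2 (Perm (Quotient (pairSetoid t ht))), f xc ∈ R ∧
          (S : Subgroup (Perm α)) ≤ ((R : Subgroup _).comap f).map C.subtype := by
      intro S hS hxS
      obtain ⟨R, hR⟩ := ((S.isPGroup'.comap_of_injective C.subtype C.subtype_injective).map f).exists_le_sylow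
      refine ⟨R, hR ⟨xc, hxS, rfl⟩, fun σ hσ => ?_⟩
      exact ⟨⟨σ, Subgroup.mem_centralizer_singleton_iff.mpr (hS σ hσ).eq⟩, hR ⟨_, hσ, rfl⟩, rfl⟩
    obtain ⟨R, hR1, hR2⟩ := key P htP hP
    obtain ⟨R', hR1', hR2'⟩ := key Q htQ hQ
    obtain rfl := ih _ hlt _ rfl (f xc) N hy hgood R R' hR1 hR1'
    have hS : IsPGroup 2 (((R : Subgroup _).comap f).map C.subtype) :=
      (R.isPGroup'.comap_of_ker_isPGroup f (isPGroup_ker t ht)).map _
    exact Sylow.ext ((P.is_maximal' hS hR2).symm.trans (Q.is_maximal' hS hR2'))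

theorem not_unique_of_witness {G : Type} [Group G] [Finite G] (x : G) {N : ℕ} (hx : x ^ 2 ^ N = 1)
    (B : Subgroup G) (hB : IsPGroup 2 B) (hxB : x ∈ Subgroup.normalizer (B : Set G)) (t₁ t₂ : G)
    (h1 : t₁ * t₁ = 1) (h2 : t₂ * t₂ = 1) (h12 : orderOf (t₁ * t₂) = 3)
    (hn : ∀ t, t = t₁ ∨ t = t₂ → t ∈ Subgroup.normalizer (B : Set G) ∧ t * x * t⁻¹ * x⁻¹ ∈ B) :
    ¬ ∃! P : Sylow 2 G, x ∈ P := by
  rintro ⟨P₁, -, huniq⟩
  haveI : Fact (Nat.Prime 2) := ⟨Nat.prime_two⟩
  have hpg : IsPGroup 2 (Subgroup.zpowers x) := by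
    obtain ⟨i, -, hi⟩ := (Nat.dvd_prime_pow Nat.prime_two).mp (orderOf_dvd_of_pow_eq_one hx)
    exact Basic.isPGroup_zpowers hi
  have hO : IsPGroup 2 (Subgroup.zpowers x ⊔ B : Subgroup G) :=
    hpg.to_sup_of_normal_right' hB (Subgroup.zpowers_le.mpr hxB)
  obtain ⟨P, hP⟩ := hO.exists_le_sylow
  have hxP : x ∈ P := hP (Subgroup.mem_sup_left (Subgroup.mem_zpowers x))
  have hmem : ∀ t, t = t₁ ∨ t = t₂ → t ∈ (P : Subgroup G) := by
    intro t ht
    have htt : t * t = 1 := by rcases ht with rfl | rfl <;> assumption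
    obtain ⟨htB, htx⟩ := hn t ht
    have hxt : x ∈ (t • P : Sylow 2 G) := by
      show x ∈ ((t • P : Sylow 2 G) : Subgroup G)
      rw [Sylow.coe_subgroup_smul, Subgroup.mem_pointwise_smul_iff_inv_smul_mem, ← map_inv,
        MulAut.smul_def, MulAut.conj_apply, inv_inv]
      have ht' : t⁻¹ = t := inv_eq_of_mul_eq_one_right htt
      have : t * x * t⁻¹ = (t * x * t⁻¹ * x⁻¹) * x := by group
      rw [ht'] at this ⊢
      rw [this]
      refine mul_mem (hP (Subgroup.mem_sup_right ?_)) hxP
      rwa [ht'] at htx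
    have hPP : t • P = P := (huniq _ hxt).trans (huniq _ hxP).symm
    refine Basic.mem_sylow_of_mem_normalizer ?_ P (Sylow.smul_eq_iff_mem_normalizer.mp hPP)
    obtain ⟨i, -, hi⟩ := (Nat.dvd_prime_pow Nat.prime_two).mp
      (orderOf_dvd_of_pow_eq_one (show t ^ 2 ^ 1 = 1 by rw [pow_one, pow_two, htt]))
    exact Basic.isPGroup_zpowers hi
  obtain ⟨k, hk⟩ := IsPGroup.iff_orderOf.mp P.isPGroup'
    ⟨t₁ * t₂, mul_mem (hmem _ (Or.inl rfl)) (hmem _ (Or.inr rfl))⟩
  rw [Subgroup.orderOf_mk, h12] at hk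
  rcases k with _ | k
  · simp at hk
  · have : 2 ∣ 3 := hk ▸ dvd_pow_self 2 k.succ_ne_zero
    omega

theorem fixed_of_unique {x : Perm α} {N : ℕ} (hx : x ^ 2 ^ N = 1)
    (hu : ∃! P : Sylow 2 (Perm α), x ∈ P) (a b c : α) (ha : x a = a) (hb : x b = b) (hc : x c = c) :
    a = b ∨ a = c ∨ b = c := by
  classical
  haveI := Fintype.ofFinite α
  by_contra h
  push Not at h
  obtain ⟨hab, hac, hbc⟩ := h
  refine not_unique_of_witness x hx ⊥ IsPGroup.of_bot ?_ (swap a b) (swap a c)
    (swap_mul_self a b) (swap_mul_self a c) (isThreeCycle_swap_mul_swap_same hab hac hbc).orderOf ?_ hu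
  · rw [Subgroup.mem_normalizer_iff]
    intro y
    simp
  · intro t ht
    refine ⟨?_, ?_⟩
    · rw [Subgroup.mem_normalizer_iff]
      intro y
      simp
    · have hcomm : x * t * x⁻¹ = t := by
        rcases ht with rfl | rfl <;> rw [← swap_apply_apply]
        · rw [ha, hb]
        · rw [ha, hc]
      rw [Subgroup.mem_bot]
      have := mul_inv_eq_iff_eq_mul.mp hcomm
      rw [← this]; group

/-- The block of four points of each residue. -/
abbrev V4 : Type := ZMod 2 × ZMod 2

/-- Translations in each block. -/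
def transl (h : ℕ) : Multiplicative (ZMod h → V4) →* Perm (ZMod h × V4) where
  toFun v :=
    { toFun := fun z => (z.1, z.2 + v.toAdd z.1)
      invFun := fun z => (z.1, z.2 - v.toAdd z.1)
      left_inv := fun z => by simp
      right_inv := fun z => by simp }
  map_one' := by ext z <;> simp
  map_mul' v w := by
    ext z <;> simp [add_assoc, add_comm (v.toAdd z.1) (w.toAdd z.1)]

theorem sameCycle_of_unique {x : Perm α} {N : ℕ} (hx : x ^ 2 ^ N = 1)
    (hu : ∃! P : Sylow 2 (Perm α), x ∈ P) {a b : α} (ha : x a ≠ a) (he : per x a = per x b) :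
    SameCycle x a b := by
  classical
  by_contra hsc
  obtain ⟨h, hh, hL⟩ := exists_per_eq_two_mul hx ha
  haveI : NeZero h := ⟨hh.ne'⟩
  let u : ZMod 2 → α := fun s => if s = 0 then a else b
  have hperu : ∀ s, per x (u s) = 2 * h := by
    intro s
    by_cases e : s = 0 <;> simp only [u, e, ↓reduceIte]
    · exact hL
    · exact he ▸ hL
  let ι' : ZMod h × V4 → α := fun z => (x ^ (z.1.val + h * z.2.1.val)) (u z.2.2)
  have hι : Function.Injective ι' := by
    rintro ⟨i, p, s⟩ ⟨j, q, r⟩ e
    have hsr : s = r := by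
      by_contra hne
      apply hsc
      have hsc' : SameCycle x (u s) (u r) := by
        have h1 : SameCycle x (u s) (ι' (i, p, s)) := ⟨((i.val + h * p.val : ℕ) : ℤ), by rw [zpow_natCast]⟩
        have h2 : SameCycle x (u r) (ι' (j, q, r)) := ⟨((j.val + h * q.val : ℕ) : ℤ), by rw [zpow_natCast]⟩
        exact (e ▸ h1).trans h2.symm
      have hcases : ∀ v w : ZMod 2, v ≠ w → (v = 0 ∧ w ≠ 0) ∨ (v ≠ 0 ∧ w = 0) := by decide
      rcases hcases s r hne with ⟨e1, e2⟩ | ⟨e1, e2⟩
      · simp only [u, e1, e2, ↓reduceIte] at hsc'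
        exact hsc'
      · simp only [u, e1, e2, ↓reduceIte] at hsc'
        exact hsc'.symm
    subst hsr
    have hi := ZMod.val_lt i
    have hj := ZMod.val_lt j
    have hp : p.val < 2 := ZMod.val_lt p
    have hq : q.val < 2 := ZMod.val_lt q
    have hA : i.val + h * p.val < 2 * h := by
      have : h * p.val ≤ h := by calc h * p.val ≤ h * 1 := Nat.mul_le_mul_left h (by omega)
                                  _ = h := mul_one h
      omega
    have hB : j.val + h * q.val < 2 * h := by
      have : h * q.val ≤ h := by calc h * q.val ≤ h * 1 := Nat.mul_le_mul_left h (by omega)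
                                  _ = h := mul_one h
      omega
    have hnat : i.val + h * p.val = j.val + h * q.val := by
      have h0 := (Function.iterate_eq_iterate_iff_of_lt_minimalPeriod (f := (x : α → α)) (x := u s)
        (m := i.val + h * p.val) (n := j.val + h * q.val)
        (hA.trans_eq (hperu s).symm) (hB.trans_eq (hperu s).symm)).mp
      exact h0 (by simpa [ι', coe_pow] using e)
    have hmod : i.val = j.val := by
      have := congrArg (· % h) hnat
      simpa [Nat.add_mul_mod_self_left, Nat.mod_eq_of_lt hi, Nat.mod_eq_of_lt hj] using this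
    have hpq : p.val = q.val := Nat.eq_of_mul_eq_mul_left hh (by omega)
    rw [ZMod.val_injective _ hmod, ZMod.val_injective _ hpq]
  let ι : ZMod h × V4 ↪ α := ⟨ι', hι⟩
  let w : ZMod h → V4 := fun i => if i.val + 1 = h then (1, 0) else 0
  let g : Perm (ZMod h × V4) :=
    { toFun := fun z => (z.1 + 1, z.2 + w z.1)
      invFun := fun z => (z.1 - 1, z.2 - w (z.1 - 1))
      left_inv := fun z => by simp
      right_inv := fun z => by simp }
  have hg : ∀ z, x (ι z) = ι (g z) := by
    rintro ⟨i, p, s⟩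
    show x ((x ^ (i.val + h * p.val)) (u s)) =
      (x ^ ((i + 1).val + h * (p + (w i).1).val)) (u (s + (w i).2))
    rw [← mul_apply, ← pow_succ']
    have hval : (i + 1).val = (i.val + 1) % h := by
      conv_lhs => rw [← ZMod.natCast_zmod_val i, ← Nat.cast_one, ← Nat.cast_add, ZMod.val_natCast]
    by_cases e : i.val + 1 = h
    · simp only [w, if_pos e, add_zero]
      rw [hval, e, Nat.mod_self, zero_add]
      have hp2 : ∀ v : ZMod 2, (v.val = 0 ∧ (v + 1).val = 1) ∨ (v.val = 1 ∧ (v + 1).val = 0) := by decide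
      rcases hp2 p with ⟨e1, e2⟩ | ⟨e1, e2⟩
      · rw [e1, e2, mul_zero, mul_one, add_zero, e]
      · rw [e1, e2, mul_zero, mul_one, pow_zero, one_apply,
          show i.val + h + 1 = 2 * h by omega]
        exact (pow_apply_eq_iff x _ _).mpr (by rw [hperu])
    · have hi := ZMod.val_lt i
      simp only [w, if_neg e, Prod.fst_zero, Prod.snd_zero, add_zero]
      rw [hval, Nat.mod_eq_of_lt (by omega), show i.val + h * p.val + 1 = i.val + 1 + h * p.val by omega]
  let F : Perm (ZMod h × V4) →* Perm α := Equiv.Perm.viaEmbeddingHom ι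
  have hconj : ∀ σ : Perm (ZMod h × V4), x * F σ * x⁻¹ = F (g * σ * g⁻¹) := by
    intro σ
    ext y
    rw [mul_apply, mul_apply]
    by_cases hy : y ∈ Set.range ι
    · obtain ⟨z, rfl⟩ := hy
      have hinv : x⁻¹ (ι z) = ι (g⁻¹ z) := by
        rw [inv_eq_iff_eq, hg, Perm.coe_inv, Equiv.apply_symm_apply]
      rw [hinv]
      show x (σ.viaEmbedding ι (ι (g⁻¹ z))) = (g * σ * g⁻¹).viaEmbedding ι (ι z)
      rw [viaEmbedding_apply, viaEmbedding_apply, hg, mul_apply, mul_apply]
    · have hy' : x⁻¹ y ∉ Set.range ι := by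
        rintro ⟨z, hz⟩
        exact hy ⟨g z, by rw [← hg, hz, Perm.coe_inv, Equiv.apply_symm_apply]⟩
      show x (σ.viaEmbedding ι (x⁻¹ y)) = (g * σ * g⁻¹).viaEmbedding ι y
      rw [viaEmbedding_apply_of_notMem _ _ _ hy, viaEmbedding_apply_of_notMem _ _ _ hy', Perm.coe_inv, Equiv.apply_symm_apply]
  let B : Subgroup (Perm α) := (F.comp (transl h)).range
  have hB : IsPGroup 2 B := by
    rintro ⟨_, v, rfl⟩
    refine ⟨1, Subtype.ext ?_⟩
    show (F.comp (transl h) v) ^ 2 ^ 1 = 1
    rw [← map_pow]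
    have hv : v ^ 2 ^ 1 = 1 := by
      apply Multiplicative.toAdd.injective
      funext i
      have h2 : ∀ e : V4, e + e = 0 := by decide
      rw [pow_one, pow_two, toAdd_mul, toAdd_one, Pi.add_apply, h2]
      rfl
    rw [hv, map_one]
  have hle : ∀ y : Perm α, (∀ v, ∃ v', y * F (transl h v) * y⁻¹ = F (transl h v')) →
      y ∈ Subgroup.normalizer (B : Set (Perm α)) := by
    intro y hy
    rw [Subgroup.mem_normalizer_iff_map_conj_eq]
    refine Subgroup.eq_of_le_of_card_ge ?_ (le_of_eq (Subgroup.card_map_of_injective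
      (MulEquiv.injective (MulAut.conj y))).symm)
    rintro _ ⟨_, ⟨v, rfl⟩, rfl⟩
    obtain ⟨v', hv'⟩ := hy v
    exact ⟨v', hv'.symm⟩
  let lin : (V4 ≃+ V4) → Perm (ZMod h × V4) := fun ψ => (Equiv.refl _).prodCongr ψ.toEquiv
  have hlinT : ∀ (ψ : V4 ≃+ V4) (v : Multiplicative (ZMod h → V4)),
      lin ψ * transl h v * (lin ψ)⁻¹ = transl h (Multiplicative.ofAdd fun i => ψ (v.toAdd i)) := by
    intro ψ v
    rw [mul_inv_eq_iff_eq_mul]
    refine Equiv.ext fun z => ?_
    rw [mul_apply, mul_apply]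
    simp [lin, transl, map_add]
  have hlinX : ∀ ψ : V4 ≃+ V4, lin ψ * g * (lin ψ)⁻¹ * g⁻¹ =
      transl h (Multiplicative.ofAdd fun i => ψ (w (i - 1)) - w (i - 1)) := by
    intro ψ
    rw [mul_inv_eq_iff_eq_mul, mul_inv_eq_iff_eq_mul]
    refine Equiv.ext fun z => ?_
    rw [mul_apply, mul_apply, mul_apply]
    simp [lin, transl, g, map_add]
  have htn : ∀ ψ : V4 ≃+ V4, F (lin ψ) ∈ Subgroup.normalizer (B : Set (Perm α)) ∧
      F (lin ψ) * x * (F (lin ψ))⁻¹ * x⁻¹ ∈ B := by
    intro ψ
    refine ⟨hle _ fun v => ⟨_, by rw [← map_inv, ← map_mul, ← map_mul, hlinT]⟩, ?_⟩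
    refine ⟨Multiplicative.ofAdd fun i => ψ (w (i - 1)) - w (i - 1), ?_⟩
    show F (transl h _) = _
    have e := hconj (lin ψ)⁻¹
    rw [← hlinX ψ, show lin ψ * g * (lin ψ)⁻¹ * g⁻¹ = lin ψ * (g * (lin ψ)⁻¹ * g⁻¹) by group, map_mul,
      ← e, map_inv]
    group
  have hxB : x ∈ Subgroup.normalizer (B : Set (Perm α)) := by
    refine hle x fun v => ⟨Multiplicative.ofAdd fun i => v.toAdd (i - 1), ?_⟩
    rw [hconj]
    congr 1
    rw [mul_inv_eq_iff_eq_mul]
    refine Equiv.ext fun z => ?_
    rw [mul_apply, mul_apply]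
    simp [g, transl]
    abel
  let ψ₁ : V4 ≃+ V4 := AddEquiv.prodComm
  let ψ₂ : V4 ≃+ V4 :=
    { toFun := fun e => (e.1, e.1 + e.2)
      invFun := fun e => (e.1, e.1 + e.2)
      left_inv := by unfold Function.LeftInverse; decide
      right_inv := by unfold Function.RightInverse Function.LeftInverse; decide
      map_add' := fun e f => by ext <;> simp [add_add_add_comm] }
  have hinvol : ∀ ψ : V4 ≃+ V4, (∀ e, ψ (ψ e) = e) → F (lin ψ) * F (lin ψ) = 1 := by
    intro ψ hψ
    rw [← map_mul, ← map_one F]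
    congr 1
    refine Equiv.ext fun z => Prod.ext rfl ?_
    exact hψ z.2
  refine not_unique_of_witness x hx B hB hxB (F (lin ψ₁)) (F (lin ψ₂))
    (hinvol ψ₁ (by decide)) (hinvol ψ₂ (by decide)) ?_
    (fun t ht => by rcases ht with rfl | rfl <;> exact htn _) hu
  haveI : Fact (Nat.Prime 3) := ⟨Nat.prime_three⟩
  rw [← map_mul, orderOf_injective F (viaEmbeddingHom_injective ι)]
  refine orderOf_eq_prime ?_ ?_
  · refine Equiv.ext fun z => Prod.ext rfl ?_
    have key : ∀ e : V4, ψ₁ (ψ₂ (ψ₁ (ψ₂ (ψ₁ (ψ₂ e))))) = e := by decide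
    exact key z.2
  · intro e
    have := congrArg Prod.snd (Equiv.congr_fun e ((0 : ZMod h), ((1 : ZMod 2), (0 : ZMod 2))))
    have key : ψ₁ (ψ₂ ((1 : ZMod 2), (0 : ZMod 2))) ≠ (1, 0) := by decide
    exact key this

/-- A 2-element lies in a unique Sylow 2-subgroup iff it is good. -/
theorem unique_iff_good {x : Perm α} {N : ℕ} (hx : x ^ 2 ^ N = 1) :
    (∃! P : Sylow 2 (Perm α), x ∈ P) ↔ Good x := by
  haveI : Fact (Nat.Prime 2) := ⟨Nat.prime_two⟩
  refine ⟨fun hu => ⟨fun a b ha he => sameCycle_of_unique hx hu ha he,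
    fun a b c => fixed_of_unique hx hu a b c⟩, fun hg => ?_⟩
  have hpg : IsPGroup 2 (Subgroup.zpowers x) := by
    obtain ⟨i, -, hi⟩ := (Nat.dvd_prime_pow Nat.prime_two).mp (orderOf_dvd_of_pow_eq_one hx)
    exact Basic.isPGroup_zpowers hi
  obtain ⟨P, hP⟩ := hpg.exists_le_sylow
  exact ⟨P, hP (Subgroup.mem_zpowers x), fun Q hQ =>
    unique_of_good _ α rfl x N hx hg Q P hQ (hP (Subgroup.mem_zpowers x))⟩

theorem card_support_cycleOf [Fintype α] [DecidableEq α] (x : Perm α) {a : α} (ha : x a ≠ a) :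
    (x.cycleOf a).support.card = per x a := by
  rw [← (isCycle_cycleOf x ha).orderOf]
  refine (per_eq_of_forall x a _ fun k => ?_).symm
  rw [orderOf_dvd_iff_pow_eq_one, (isCycle_cycleOf x ha).pow_eq_one_iff' (x := a) (by rwa [cycleOf_apply_self]),
    cycleOf_pow_apply_self]

/-- Translation into the cycle type. -/
theorem good_iff [Fintype α] [DecidableEq α] (x : Perm α) :
    Good x ↔ Fintype.card α ≤ x.support.card + 2 ∧ x.cycleType.Nodup := by
  have hfix : (∀ a b c : α, x a = a → x b = b → x c = c → a = b ∨ a = c ∨ b = c) ↔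
      Fintype.card α ≤ x.support.card + 2 := by
    have hc : x.supportᶜ.card = Fintype.card α - x.support.card := Finset.card_compl _
    constructor
    · intro h
      by_contra hlt
      obtain ⟨a, b, c, ha, hb, hc', h1, h2, h3⟩ :=
        Finset.two_lt_card_iff.mp (show 2 < x.supportᶜ.card by omega)
      simp only [Finset.mem_compl, mem_support, not_not] at ha hb hc'
      rcases h a b c ha hb hc' with e | e | e
      · exact h1 e
      · exact h2 e
      · exact h3 e
    · intro h a b c ha hb hc'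
      by_contra hne
      push Not at hne
      have : 2 < x.supportᶜ.card := Finset.two_lt_card_iff.mpr
        ⟨a, b, c, by simp [ha], by simp [hb], by simp [hc'], hne.1, hne.2.1, hne.2.2⟩
      omega
  have hcyc : (∀ a b : α, x a ≠ a → per x a = per x b → SameCycle x a b) ↔ x.cycleType.Nodup := by
    rw [cycleType_def]
    constructor
    · intro h
      refine Multiset.Nodup.map_on (fun c hc d hd e => ?_) x.cycleFactorsFinset.nodup
      obtain ⟨a, ha, rfl⟩ : ∃ a, x a ≠ a ∧ c = x.cycleOf a := by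
        obtain ⟨a, ha⟩ := ((mem_cycleFactorsFinset_iff.mp hc).1).nonempty_support
        exact ⟨a, mem_support.mp (mem_cycleFactorsFinset_support_le hc ha), cycle_is_cycleOf ha hc⟩
      obtain ⟨b, hb, rfl⟩ : ∃ b, x b ≠ b ∧ d = x.cycleOf b := by
        obtain ⟨a, ha⟩ := ((mem_cycleFactorsFinset_iff.mp hd).1).nonempty_support
        exact ⟨a, mem_support.mp (mem_cycleFactorsFinset_support_le hd ha), cycle_is_cycleOf ha hd⟩
      simp only [Function.comp_apply, card_support_cycleOf x ha, card_support_cycleOf x hb] at e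
      exact (h a b ha e).cycleOf_eq
    · intro h a b ha he
      have hb : x b ≠ b := fun e => ha ((per_eq_one_iff x a).mp (he.trans ((per_eq_one_iff x b).mpr e)))
      have heq : x.cycleOf a = x.cycleOf b := Multiset.inj_on_of_nodup_map h _
        (cycleOf_mem_cycleFactorsFinset_iff.mpr (mem_support.mpr ha)) _
        (cycleOf_mem_cycleFactorsFinset_iff.mpr (mem_support.mpr hb))
        (by simp only [Function.comp_apply, card_support_cycleOf x ha, card_support_cycleOf x hb, he])
      have hmem : b ∈ (x.cycleOf a).support := by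
        rw [heq, mem_support_cycleOf_iff' hb]
      exact (mem_support_cycleOf_iff' ha).mp hmem
  exact ⟨fun h => ⟨hfix.mp h.2, hcyc.mp h.1⟩, fun h => ⟨hcyc.mpr h.2, hfix.mpr h.1⟩⟩

end Cfsg.Agent.Lib.SylowNumbers.SymUnique
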